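import Cfsg.Agent.Lib.BlocksX.Basic
import Cfsg.Agent.Lib.Char.Clifford

/-!
# Blocks and normal subgroups: covering, inflation
-/

set_option linter.style.haveILetI false
set_option linter.unusedSectionVars false

namespace Cfsg.Agent.BlocksX

open Cfsg MonoidAlgebra Cfsg.Agent.Blocks
open scoped ComplexConjugate

universe u

variable {G : Type u} [Group G] [Finite G]

theorem conj_mem_iff (N : Subgroup G) [hN : N.Normal] (a b : G) : b * a * b⁻¹ ∈ N ↔ a ∈ N :=
  ⟨fun h => by simpa [mul_assoc] using hN.conj_mem _ h b⁻¹, fun h => hN.conj_mem a h b⟩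

theorem isConj_conj_iff {H : Type*} [Group H] (q a b : H) :
    IsConj q (b * a * b⁻¹) ↔ IsConj q a :=
  ⟨fun h => h.trans (isConj_iff.2 ⟨b, rfl⟩).symm, fun h => h.trans (isConj_iff.2 ⟨b, rfl⟩)⟩

section Inflation

variable {p : ℕ} [hp : Fact p.Prime] {M : Ideal AlgInt} [M.IsMaximal]

/-- Over a normal `p'`-subgroup, blocks of the quotient are blocks. -/
theorem inflated_of_sameBlock (hpM : (p : AlgInt) ∈ M) (N : Subgroup G) [N.Normal]
    (hN : ¬ p ∣ Nat.card N) {χ : IrrCharacter (G ⧸ N)} {ψ : IrrCharacter G}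
    (h : SameBlock M (Char.inflate N χ).1 ψ.1) :
    ∃ ψ' : IrrCharacter (G ⧸ N), ψ = Char.inflate N ψ' ∧ SameBlock M χ.1 ψ'.1 := by
  classical
  haveI := Fintype.ofFinite G
  haveI := Fintype.ofFinite N
  haveI := Fintype.ofFinite (G ⧸ N)
  have hNu : ¬ MemLocalIdeal M (Nat.card N : ℂ) := mt (memLocalIdeal_natCast_iff hpM _).1 hN
  have hz : IsCentralElt (ofFun fun x : G => if x ∈ N then (1 : ℂ) else 0) :=
    isCentralElt_ofFun fun a b => by simp only [conj_mem_iff N]
  have hzS : SCoeff M (ofFun fun x : G => if x ∈ N then (1 : ℂ) else 0) :=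
    scoeff_ofFun fun x => by
      try dsimp only
      split_ifs
      exacts [memLocalRing_one, memLocalRing_zero]
  have hom : ∀ η : IrrCharacter G, omega η.1 (ofFun fun x : G => if x ∈ N then (1 : ℂ) else 0) =
      (∑ k : N, η.1 k) / η.1 1 := by
    intro η
    rw [omega_ofFun]
    congr 1
    simp only [ite_mul, one_mul, zero_mul, ← Finset.sum_filter]
    exact Finset.sum_subtype _ (by simp) _
  have htriv : Char.TrivOn N ψ.1 := by
    by_contra hn
    refine hNu ?_
    have h' := SameBlock.omega_sub (χ := Char.inflate N χ) (ψ := ψ) h hz hzS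
    have h0 : ∑ k : N, ψ.1 k = 0 := by
      simpa using Char.sum_coset_eq_zero_of_not_trivOn N ψ hn 1
    rw [hom, hom, h0, zero_div, sub_zero,
      Finset.sum_congr rfl fun (k : N) _ => Char.trivOn_inflate N χ k k.2, Finset.sum_const,
      Finset.card_univ, ← Nat.card_eq_fintype_card, nsmul_eq_mul,
      mul_div_assoc, div_self (irr_one_ne_zero _), mul_one] at h'
    exact h'
  obtain ⟨ψ', hψ'⟩ := Char.exists_descend N ψ htriv
  have heq : ψ = Char.inflate N ψ' := Subtype.ext (funext fun g => (hψ' g).symm)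
  refine ⟨ψ', heq, fun q => ?_⟩
  have hz : IsCentralElt (ofFun fun x : G => if IsConj q (x : G ⧸ N) then (1 : ℂ) else 0) :=
    isCentralElt_ofFun fun a b => by
      simp only [QuotientGroup.mk_mul, QuotientGroup.mk_inv, isConj_conj_iff]
  have hzS : SCoeff M (ofFun fun x : G => if IsConj q (x : G ⧸ N) then (1 : ℂ) else 0) :=
    scoeff_ofFun fun x => by
      try dsimp only
      split_ifs
      exacts [memLocalRing_one, memLocalRing_zero]
  have hom : ∀ η : IrrCharacter (G ⧸ N), omega (Char.inflate N η).1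
      (ofFun fun x : G => if IsConj q (x : G ⧸ N) then (1 : ℂ) else 0) =
      (Nat.card N : ℂ) * centralChar η.1 q := by
    intro η
    rw [omega_ofFun, ← omega_classSum (irr_classFun η), omega, chiL_eq_sum, mul_div_assoc']
    simp only [Char.inflate_apply, coeff_classSum, QuotientGroup.mk_one]
    congr 1
    convert sum_comp_mk N (fun y => (if IsConj q y then (1 : ℂ) else 0) * η.1 y)
  have h' := SameBlock.omega_sub (χ := Char.inflate N χ) (ψ := Char.inflate N ψ') (heq ▸ h) hz hzS
  rw [hom, hom, ← mul_sub] at h'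
  exact (MemLocalIdeal.mem_or_mem (memLocalRing_natCast _)
    (MemLocalRing.sub (memLocalRing_centralChar χ q) (memLocalRing_centralChar ψ' q)) h').resolve_left
      hNu

variable {P : Subgroup G} [P.Normal]

theorem mem_centralizer_of_isPRegular (hC : ∃ k : ℕ, (Subgroup.centralizer (P : Set G)).index = p ^ k)
    {g : G} (hg : IsPRegular p g) : g ∈ Subgroup.centralizer (P : Set G) :=
  mem_of_isPRegular_of_index hC hg

theorem eq_one_of_isPRegular_mul (hP : IsPGroup p P)
    (hC : ∃ k : ℕ, (Subgroup.centralizer (P : Set G)).index = p ^ k)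
    {g u : G} (hg : IsPRegular p g) (hu : u ∈ P) (hgu : IsPRegular p (g * u)) : u = 1 := by
  have hc : Commute g u :=
    ((Subgroup.mem_centralizer_iff.1 (mem_centralizer_of_isPRegular hC hg)) u hu).symm
  obtain ⟨k, hk⟩ := IsPGroup.iff_orderOf.1 hP ⟨u, hu⟩
  exact (isPRegular_mul_iff hc hg ⟨k, by rw [← hk, ← Subgroup.orderOf_coe]⟩).1 hgu

/-- Modulo a normal `p`-subgroup, centralisers of `p`-regular elements map onto centralisers. -/
theorem centralChar_inflate (hP : IsPGroup p P)
    (hC : ∃ k : ℕ, (Subgroup.centralizer (P : Set G)).index = p ^ k)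
    (χ : IrrCharacter (G ⧸ P)) {g : G} (hg : IsPRegular p g) :
    centralChar (Char.inflate P χ).1 g = centralChar χ.1 (g : G ⧸ P) := by
  have hidx : (Subgroup.centralizer ({g} : Set G)).index =
      (Subgroup.centralizer ({(g : G ⧸ P)} : Set (G ⧸ P))).index := by
    rw [← Subgroup.index_comap_of_surjective
      (Subgroup.centralizer ({(g : G ⧸ P)} : Set (G ⧸ P))) (QuotientGroup.mk'_surjective P)]
    congr 1
    ext x
    simp only [Subgroup.mem_comap, Subgroup.mem_centralizer_singleton_iff,
      QuotientGroup.mk'_apply, ← QuotientGroup.mk_mul]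
    refine ⟨fun h => by rw [h], fun h => ?_⟩
    have hu : g⁻¹ * (x * g * x⁻¹) ∈ P := by
      rw [← QuotientGroup.eq_one_iff]
      simp only [QuotientGroup.mk_mul, QuotientGroup.mk_inv] at h ⊢
      rw [h]
      simp [mul_assoc]
    have h1 := eq_one_of_isPRegular_mul hP hC hg hu (by
      rwa [mul_inv_cancel_left, IsPRegular, show x * g * x⁻¹ = MulAut.conj x g from rfl,
        MulEquiv.orderOf_eq])
    rw [inv_mul_eq_one] at h1
    exact (mul_inv_eq_iff_eq_mul.1 h1.symm)
  rw [centralChar, centralChar, hidx, Char.inflate_apply, Char.inflate_apply, QuotientGroup.mk_one]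

theorem sameBlock_inflate_iff (hpM : (p : AlgInt) ∈ M) (hP : IsPGroup p P)
    (hC : ∃ k : ℕ, (Subgroup.centralizer (P : Set G)).index = p ^ k)
    (χ ψ : IrrCharacter (G ⧸ P)) :
    SameBlock M χ.1 ψ.1 ↔ SameBlock M (Char.inflate P χ).1 (Char.inflate P ψ).1 := by
  refine ⟨fun h => sameBlock_of_regular hpM fun g hg => ?_,
    fun h => sameBlock_of_regular hpM fun q hq => ?_⟩
  · rw [centralChar_inflate hP hC χ hg, centralChar_inflate hP hC ψ hg]
    exact h _
  · obtain ⟨g, hg, rfl⟩ := exists_isPRegular_lift hq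
    rw [← centralChar_inflate hP hC χ hg, ← centralChar_inflate hP hC ψ hg]
    exact h g

theorem exists_trivOn_mem (hpM : (p : AlgInt) ∈ M) (hP : IsPGroup p P)
    (hC : ∃ k : ℕ, (Subgroup.centralizer (P : Set G)).index = p ^ k)
    {B : Set (IrrCharacter G)} (hB : IsPBlock M B) : ∃ θ ∈ B, Char.TrivOn P θ.1 := by
  classical
  haveI := Fintype.ofFinite G
  haveI := Fintype.ofFinite P
  obtain ⟨g, hg⟩ := exists_defectClass hB
  have hgr := IsDefectClass.isPRegular hpM hB hg
  by_contra hno
  have h1 : ∑ u : P, blockCoeff B (g * u) = blockCoeff B g := by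
    rw [Finset.sum_eq_single (1 : P)]
    · simp
    · intro u _ hu
      refine blockCoeff_eq_zero hpM hB fun hr => hu ?_
      exact Subtype.ext (eq_one_of_isPRegular_mul hP hC hgr u.2 hr)
    · exact fun h => absurd (Finset.mem_univ _) h
  refine hg.2.1 ?_
  rw [← h1]
  simp only [blockCoeff_eq_sum, ← Finset.mul_sum]
  rw [Finset.sum_comm, Finset.sum_eq_zero, mul_zero]
  · exact memLocalIdeal_zero
  intro θ hθ
  rw [← Finset.mul_sum, ← map_sum, Char.sum_coset_eq_zero_of_not_trivOn P θ
    (fun h => hno ⟨θ, (Finset.mem_filter.1 hθ).2, h⟩), map_zero, mul_zero]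

end Inflation

section Covering

theorem inducedCentralChar_eq (H : Subgroup G) [Fintype H] (ξ : H → ℂ) (g : G)
    [DecidablePred fun h : H => IsConj g (h : G)] :
    inducedCentralChar H ξ g =
      (∑ h ∈ Finset.univ.filter (fun h : H => IsConj g (h : G)), ξ h) / ξ 1 := by
  rw [inducedCentralChar, Finset.sum_div, finsum_mem_eq_sum_of_inter_support_eq]
  ext x
  simp

variable (N : Subgroup G) [N.Normal] [Fintype N]

/-- Summing over the part in `N` of a class contained in `N`. -/
theorem sum_class_in (f : G → ℂ) (n : N) [Fintype G]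
    [DecidablePred (IsConj (n : G))] [DecidablePred fun h : N => IsConj (n : G) (h : G)] :
    ∑ h ∈ Finset.univ.filter (fun h : N => IsConj (n : G) (h : G)), f h =
      ∑ x ∈ Finset.univ.filter (IsConj (n : G)), f x := by
  refine Finset.sum_nbij (fun h : N => (h : G)) (fun h hh => ?_) (fun a _ b _ h => Subtype.ext h)
    (fun x hx => ?_) (fun _ _ => rfl)
  · simpa using hh
  · simp only [Finset.coe_filter, Finset.mem_univ, true_and, Set.mem_ofPred_eq, Set.mem_image] at hx ⊢
    obtain ⟨c, hc⟩ := isConj_iff.1 hx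
    exact ⟨⟨x, hc ▸ (conj_mem_iff N (n : G) c).2 n.2⟩, hx, rfl⟩

theorem inducedCentralChar_conjFun (θ : N → ℂ) (g : G) (n : G) :
    inducedCentralChar N (Char.conjFun N θ g) n = inducedCentralChar N θ n := by
  classical
  rw [inducedCentralChar_eq, inducedCentralChar_eq, Char.conjFun_apply_one]
  congr 1
  refine Finset.sum_equiv (MulAut.conjNormal g : MulAut N).toEquiv (fun h => ?_) fun h _ => rfl
  simpa using (isConj_conj_iff n (h : G) g).symm

/-- A constituent determines the central character on a normal subgroup. -/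
theorem centralChar_eq_of_constituent [Fintype G] (χ : IrrCharacter G) (θ : IrrCharacter N)
    (h : classInner (Char.resFun N χ.1) θ.1 ≠ 0) (n : N) :
    centralChar χ.1 (n : G) = inducedCentralChar N θ.1 (n : G) := by
  classical
  have hres := Char.resFun_eq_smul_orbitSum N χ θ h
  have h1 := Char.apply_one_eq_mul_card_orbit N χ θ h
  have hnum : ((Subgroup.centralizer ({(n : G)} : Set G)).index : ℂ) * χ.1 n =
      classInner (Char.resFun N χ.1) θ.1 * ((Char.orbitFinset N θ).card *
        ∑ k ∈ Finset.univ.filter (fun k : N => IsConj (n : G) (k : G)), θ.1 k) := by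
    rw [← chiL_classSum (irr_classFun χ), chiL_eq_sum]
    simp only [coeff_classSum, ite_mul, one_mul, zero_mul, ← Finset.sum_filter]
    rw [← sum_class_in N χ.1 n]
    have hk : ∀ k : N, χ.1 k =
        classInner (Char.resFun N χ.1) θ.1 * ∑ η ∈ Char.orbitFinset N θ, η.1 k := fun k => by
      have := congrFun hres k
      simpa [Char.orbitSum] using this
    rw [Finset.sum_congr rfl fun k _ => hk k, ← Finset.mul_sum, Finset.sum_comm]
    congr 1
    rw [Finset.sum_congr rfl fun η hη => ?_, Finset.sum_const, nsmul_eq_mul]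
    obtain ⟨g, rfl⟩ := (Char.mem_orbitFinset N).1 hη
    refine Finset.sum_equiv (MulAut.conjNormal g : MulAut N).toEquiv (fun k => ?_) fun k _ => rfl
    simpa using (isConj_conj_iff (n : G) (k : G) g).symm
  have hne : (((Char.orbitFinset N θ).card : ℕ) : ℂ) ≠ 0 :=
    Nat.cast_ne_zero.2 (Finset.card_ne_zero.2 ⟨θ, (Char.mem_orbitFinset N).2 ⟨1, by
      apply Subtype.ext; simp⟩⟩)
  rw [centralChar, hnum, h1, inducedCentralChar_eq, mul_div_mul_left _ _ h,
    mul_div_mul_left _ _ hne]

theorem exists_conj_of_inducedCentralChar_eq [Fintype G] (θ η : IrrCharacter N)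
    (h : ∀ n : N, inducedCentralChar N θ.1 (n : G) = inducedCentralChar N η.1 (n : G)) :
    ∃ g, θ = Char.conjChar N η g := by
  classical
  have hsum : ∀ (ξ : IrrCharacter N) (n : N), ∑ x : G, Char.conjFun N ξ.1 x n =
      (Nat.card (Subgroup.centralizer ({(n : G)} : Set G)) : ℂ) * ξ.1 1 *
        inducedCentralChar N ξ.1 (n : G) := by
    intro ξ n
    have := sum_conj_eq (extendByZero N ξ.1) (n : G)
    rw [← sum_class_in N] at this
    rw [inducedCentralChar_eq, mul_assoc, mul_div_cancel₀ _ (irr_one_ne_zero ξ)]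
    calc ∑ x : G, Char.conjFun N ξ.1 x n = ∑ x : G, extendByZero N ξ.1 (x * (n : G) * x⁻¹) :=
          Finset.sum_congr rfl fun x _ => by
            rw [Char.extendByZero_of_mem _ _ ((conj_mem_iff N (n : G) x).2 n.2)]
            exact congrArg ξ.1 (Subtype.ext (by simp))
      _ = _ := by
          rw [this]
          congr 1
          exact Finset.sum_congr rfl fun k _ => Char.extendByZero_of_mem _ _ k.2
  have hfun : η.1 1 • (∑ x : G, Char.conjFun N θ.1 x) = θ.1 1 • ∑ x : G, Char.conjFun N η.1 x := by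
    funext n
    simp only [Pi.smul_apply, Finset.sum_apply, smul_eq_mul, hsum, h n]
    ring
  by_contra hno
  have hI := congrArg (fun F => classInner F θ.1) hfun
  simp only [Char.classInner_smul_left, Char.classInner_sum_left] at hI
  rw [Finset.sum_eq_zero (f := fun x => classInner (Char.conjFun N η.1 x) θ.1) fun x _ =>
    Char.classInner_irr_of_ne (Char.conjChar N η x).2 θ.2 fun he => hno ⟨x, Subtype.ext he.symm⟩,
    mul_zero] at hI
  have h01 : ∀ x : G, classInner (Char.conjFun N θ.1 x) θ.1 =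
      ((if Char.conjChar N θ x = θ then 1 else 0 : ℕ) : ℂ) := fun x => by
    have := Char.classInner_irr (Char.conjChar N θ x) θ
    rw [Char.conjChar_coe] at this
    rw [this]
    split_ifs <;> simp
  rw [Finset.sum_congr rfl fun x _ => h01 x, ← Nat.cast_sum, mul_eq_zero] at hI
  have := hI.resolve_left (irr_one_ne_zero η)
  rw [Nat.cast_eq_zero, Finset.sum_eq_zero_iff] at this
  have h1 := this 1 (Finset.mem_univ _)
  rw [if_pos (Subtype.ext (by simp))] at h1
  exact one_ne_zero h1

/-- `χ` lies over `θ` exactly when the central characters agree on `N`. -/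
theorem constituent_iff [Fintype G] (χ : IrrCharacter G) (θ : IrrCharacter N) :
    classInner (Char.resFun N χ.1) θ.1 ≠ 0 ↔
      ∀ n : N, centralChar χ.1 (n : G) = inducedCentralChar N θ.1 (n : G) := by
  refine ⟨centralChar_eq_of_constituent N χ θ, fun h => ?_⟩
  obtain ⟨η, hη⟩ := Char.exists_constituent N χ
  obtain ⟨g, rfl⟩ := exists_conj_of_inducedCentralChar_eq N θ η fun n => by
    rw [← h n, centralChar_eq_of_constituent N χ η hη n]
  rwa [Char.conjChar_coe, Char.classInner_resFun_conjFun N (irr_classFun χ)]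

theorem exists_over [Fintype G] (θ : IrrCharacter N) :
    ∃ χ : IrrCharacter G, classInner (Char.resFun N χ.1) θ.1 ≠ 0 := by
  classical
  by_contra! hno
  have e : (∑ χ : IrrCharacter G, χ.1 1 • Char.resFun N χ.1) =
      fun x : N => if x = 1 then (Nat.card G : ℂ) else 0 := by
    funext x
    simp only [Finset.sum_apply, Pi.smul_apply, smul_eq_mul, Char.resFun_apply,
      Char.sum_irr_degree_mul]
    simp
  have h0 := congrArg (fun F => classInner F θ.1) e
  simp only [Char.classInner_sum_left, Char.classInner_smul_left, hno, mul_zero,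
    Finset.sum_const_zero] at h0
  simp [classInner, ite_mul] at h0
  exact irr_one_ne_zero θ (by simpa [Nat.card_pos.ne'] using h0)

variable {M : Ideal AlgInt} [M.IsPrime]

/-- Characters of one block of `N` induce congruent central characters. -/
theorem inducedCentralChar_sub {θ η : IrrCharacter N} (h : SameBlock M θ.1 η.1) (g : G) :
    MemLocalIdeal M (inducedCentralChar N θ.1 g - inducedCentralChar N η.1 g) := by
  classical
  have hz : IsCentralElt (ofFun fun k : N => if IsConj g (k : G) then (1 : ℂ) else 0) :=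
    isCentralElt_ofFun fun a b => by simp only [Subgroup.coe_mul, Subgroup.coe_inv, isConj_conj_iff]
  have hzS : SCoeff M (ofFun fun k : N => if IsConj g (k : G) then (1 : ℂ) else 0) :=
    scoeff_ofFun fun x => by
      try dsimp only
      split_ifs
      exacts [memLocalRing_one, memLocalRing_zero]
  have hom : ∀ ξ : IrrCharacter N, omega ξ.1
      (ofFun fun k : N => if IsConj g (k : G) then (1 : ℂ) else 0) =
      inducedCentralChar N ξ.1 g := fun ξ => by
    rw [omega_ofFun, inducedCentralChar_eq]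
    simp only [ite_mul, one_mul, zero_mul, Finset.sum_filter]
  have h' := SameBlock.omega_sub h hz hzS
  rwa [hom, hom] at h'

theorem centralizer_singleton_map {H : Type*} [Group H] (e : MulAut H) (a : H) :
    (Subgroup.centralizer ({a} : Set H)).map e.toMonoidHom =
      Subgroup.centralizer ({e a} : Set H) := by
  ext x
  simp only [Subgroup.mem_map, MulEquiv.coe_toMonoidHom, Subgroup.mem_centralizer_singleton_iff]
  refine ⟨?_, fun h => ⟨e.symm x, e.injective ?_, e.apply_symm_apply x⟩⟩
  · rintro ⟨y, hy, rfl⟩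
    rw [← map_mul, ← map_mul, hy]
  · rw [map_mul, map_mul, e.apply_symm_apply, h]

theorem centralChar_conjFun (θ : N → ℂ) (g : G) (n : N) :
    centralChar (Char.conjFun N θ g) n = centralChar θ (MulAut.conjNormal g n) := by
  rw [centralChar, centralChar, Char.conjFun_apply_one, ← centralizer_singleton_map,
    Subgroup.index_map_of_bijective (MulEquiv.bijective _)]
  rfl

theorem sameBlock_conjFun {θ η : N → ℂ} (h : SameBlock M θ η) (g : G) :
    SameBlock M (Char.conjFun N θ g) (Char.conjFun N η g) := fun n => by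
  rw [centralChar_conjFun, centralChar_conjFun]
  exact h _

theorem conjChar_mul (θ : IrrCharacter N) (g h : G) :
    Char.conjChar N θ (g * h) = Char.conjChar N (Char.conjChar N θ g) h :=
  Subtype.ext (Char.conjFun_mul N θ.1 g h)

theorem conjChar_one (θ : IrrCharacter N) : Char.conjChar N θ 1 = θ := Subtype.ext (by simp)

/-- Congruent induced central characters on `N`: the blocks are conjugate. -/
theorem exists_conj_mem_of_congr [Fintype G] {b : Set (IrrCharacter N)} (hb : IsPBlock M b)
    {θ : IrrCharacter N} (hθ : θ ∈ b) {η : IrrCharacter N}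
    (h : ∀ n : N,
      MemLocalIdeal M (inducedCentralChar N θ.1 (n : G) - inducedCentralChar N η.1 (n : G))) :
    ∃ g : G, Char.conjChar N η g ∈ b := by
  classical
  set T : Set (IrrCharacter N) := {ξ | ∃ g : G, Char.conjChar N ξ g ∈ b} with hT
  by_contra hno
  have hclosed : ∀ ξ ∈ T, blockOf M ξ.1 ⊆ T := by
    rintro ξ ⟨g, hg⟩ ζ hζ
    refine ⟨g, ?_⟩
    rw [block_eq hb hg]
    exact sameBlock_conjFun N hζ g
  have hS := scoeff_blockIdem_of_closed T hclosed
  have hinv : ∀ (g : G) (n : N), blockCoeff T (MulAut.conjNormal g n) = blockCoeff T n := by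
    intro g n
    rw [blockCoeff_eq_sum, blockCoeff_eq_sum]
    congr 1
    refine Finset.sum_nbij' (fun ξ => Char.conjChar N ξ g) (fun ξ => Char.conjChar N ξ g⁻¹)
      ?_ ?_ ?_ ?_ ?_
    · intro ξ hξ
      obtain ⟨x, hx⟩ := (Finset.mem_filter.1 hξ).2
      exact Finset.mem_filter.2 ⟨Finset.mem_univ _, g⁻¹ * x,
        by rwa [← conjChar_mul, mul_inv_cancel_left]⟩
    · intro ξ hξ
      obtain ⟨x, hx⟩ := (Finset.mem_filter.1 hξ).2
      exact Finset.mem_filter.2 ⟨Finset.mem_univ _, g * x,
        by rwa [← conjChar_mul, inv_mul_cancel_left]⟩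
    · intro ξ _
      show Char.conjChar N (Char.conjChar N ξ g) g⁻¹ = ξ
      rw [← conjChar_mul, mul_inv_cancel, conjChar_one]
    · intro ξ _
      show Char.conjChar N (Char.conjChar N ξ g⁻¹) g = ξ
      rw [← conjChar_mul, inv_mul_cancel, conjChar_one]
    · intro ξ _
      show _ = (Char.conjFun N ξ.1 g) 1 * conj (Char.conjFun N ξ.1 g n)
      rw [Char.conjFun_apply_one]
      rfl
  have h1 : omega θ.1 (blockIdem T) - omega η.1 (blockIdem T) = 1 := by
    rw [omega_blockIdem, omega_blockIdem, if_pos (show θ ∈ T from ⟨1, by rwa [conjChar_one]⟩),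
      if_neg (show η ∉ T from hno), sub_zero]
  refine not_memLocalIdeal_one (M := M) ?_
  rw [← h1, omega, omega, chiL_eq_sum, chiL_eq_sum, Finset.sum_div, Finset.sum_div,
    ← Finset.sum_sub_distrib]
  have key : ∑ C ∈ Finset.univ.image (fun n : N => ConjClasses.mk (n : G)),
      ∑ n ∈ Finset.univ.filter (fun n : N => ConjClasses.mk (n : G) = C),
        ((blockIdem T).coeff n * θ.1 n / θ.1 1 - (blockIdem T).coeff n * η.1 n / η.1 1) =
      ∑ n : N, ((blockIdem T).coeff n * θ.1 n / θ.1 1 - (blockIdem T).coeff n * η.1 n / η.1 1) :=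
    Finset.sum_fiberwise_of_maps_to (fun n hn => Finset.mem_image_of_mem _ hn) _
  rw [← key]
  refine MemLocalIdeal.sum _ fun C hC => ?_
  obtain ⟨n₀, -, rfl⟩ := Finset.mem_image.1 hC
  have hfib : Finset.univ.filter (fun n : N => ConjClasses.mk (n : G) = ConjClasses.mk (n₀ : G)) =
      Finset.univ.filter (fun n : N => IsConj (n₀ : G) (n : G)) := by
    ext n
    simp only [Finset.mem_filter, Finset.mem_univ, true_and, ConjClasses.mk_eq_mk_iff_isConj]
    exact isConj_comm
  rw [hfib]
  have hconst : ∀ n ∈ Finset.univ.filter (fun n : N => IsConj (n₀ : G) (n : G)),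
      (blockIdem T).coeff n = blockCoeff T n₀ := by
    intro n hn
    obtain ⟨c, hc⟩ := isConj_iff.1 (Finset.mem_filter.1 hn).2
    rw [coeff_blockIdem, ← hinv c n₀]
    exact congrArg _ (Subtype.ext (by simp [hc]))
  rw [Finset.sum_congr rfl fun n hn => by
    rw [hconst n hn, mul_div_assoc, mul_div_assoc, ← mul_sub]]
  rw [← Finset.mul_sum, Finset.sum_sub_distrib, ← Finset.sum_div, ← Finset.sum_div,
    ← inducedCentralChar_eq, ← inducedCentralChar_eq]
  refine MemLocalIdeal.mul_left ?_ (h n₀)
  simpa [coeff_blockIdem] using hS n₀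

variable [Fintype G]

/-- Congruence form of covering. -/
theorem congr_of_covers {B : Set (IrrCharacter G)} (hB : IsPBlock M B)
    {b : Set (IrrCharacter N)} (hb : IsPBlock M b) {χ₀ : IrrCharacter G} (hχ₀ : χ₀ ∈ B)
    {θ₀ : IrrCharacter N} (hθ₀ : θ₀ ∈ b) (hc : classInner (Char.resFun N χ₀.1) θ₀.1 ≠ 0)
    {χ : IrrCharacter G} (hχ : χ ∈ B) {θ : IrrCharacter N} (hθ : θ ∈ b) (n : N) :
    MemLocalIdeal M (centralChar χ.1 (n : G) - inducedCentralChar N θ.1 (n : G)) := by
  have h1 := sameBlock_of_mem hB hχ hχ₀ (n : G)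
  have h2 := inducedCentralChar_sub N (sameBlock_of_mem hb hθ₀ hθ) (n : G)
  have h3 := centralChar_eq_of_constituent N χ₀ θ₀ hc n
  have := MemLocalIdeal.add h1 h2
  rw [h3] at this
  simpa using this

theorem covers_of_congr {B : Set (IrrCharacter G)} (hB : IsPBlock M B)
    {b : Set (IrrCharacter N)} (hb : IsPBlock M b)
    (h : ∀ χ ∈ B, ∀ θ ∈ b, ∀ n : N,
      MemLocalIdeal M (centralChar χ.1 (n : G) - inducedCentralChar N θ.1 (n : G))) :
    ∀ χ ∈ B, ∃ θ ∈ b, classInner (Char.resFun N χ.1) θ.1 ≠ 0 := by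
  intro χ hχ
  obtain ⟨θ₁, hθ₁⟩ := block_nonempty hb
  obtain ⟨η, hη⟩ := Char.exists_constituent N χ
  obtain ⟨g, hg⟩ := exists_conj_mem_of_congr N hb hθ₁ (η := η) fun n => by
    have := MemLocalIdeal.neg (h χ hχ θ₁ hθ₁ n)
    rwa [neg_sub, centralChar_eq_of_constituent N χ η hη] at this
  exact ⟨_, hg, by rwa [Char.conjChar_coe, Char.classInner_resFun_conjFun N (irr_classFun χ)]⟩

end Covering

section PPowerIndex

variable [Fintype G] (N : Subgroup G) [N.Normal] [Fintype N] {p : ℕ} [hp : Fact p.Prime]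
  {M : Ideal AlgInt} [M.IsMaximal]

/-- Over a normal subgroup of `p`-power index only one block covers a given block. -/
theorem sameBlock_of_congr_index (hpM : (p : AlgInt) ∈ M) (hidx : ∃ k : ℕ, N.index = p ^ k)
    {χ ψ : IrrCharacter G}
    (h : ∀ n : N, MemLocalIdeal M (centralChar χ.1 (n : G) - centralChar ψ.1 (n : G))) :
    SameBlock M χ.1 ψ.1 :=
  sameBlock_of_regular hpM fun g hg => h ⟨g, mem_of_isPRegular_of_index hidx hg⟩

theorem existsUnique_covering (hpM : (p : AlgInt) ∈ M) (hidx : ∃ k : ℕ, N.index = p ^ k)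
    {b : Set (IrrCharacter N)} (hb : IsPBlock M b) :
    ∃! B : Set (IrrCharacter G), IsPBlock M B ∧
      ∃ χ ∈ B, ∃ θ ∈ b, classInner (Char.resFun N χ.1) θ.1 ≠ 0 := by
  obtain ⟨θ, hθ⟩ := block_nonempty hb
  obtain ⟨χ, hχ⟩ := exists_over N θ
  refine ⟨blockOf M χ.1, ⟨isPBlock_blockOf χ, χ, mem_blockOf_self χ, θ, hθ, hχ⟩, ?_⟩
  rintro B ⟨hB, χ', hχ', θ', hθ', hc'⟩
  rw [block_eq hB hχ']
  refine blockOf_eq (sameBlock_of_congr_index N hpM hidx fun n => ?_)
  rw [centralChar_eq_of_constituent N χ' θ' hc', centralChar_eq_of_constituent N χ θ hχ]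
  exact inducedCentralChar_sub N (sameBlock_of_mem hb hθ' hθ) _

end PPowerIndex

end Cfsg.Agent.BlocksX
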