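import Cfsg.Agent.Lib.BrauerPairs.InducedIn
import Cfsg.Agent.Lib.BrauerPairs.LocalFusion
import Cfsg.Agent.Lib.Blocks.FirstMain

/-!
# Induction from a subgroup containing the centralizer of a defect group
-/

set_option linter.style.haveILetI false
set_option linter.unusedSectionVars false

namespace Cfsg.Agent.BlocksX

open Cfsg Cfsg.Agent
open scoped Cfsg.Agent.Blocks Classical

universe u

variable {G : Type u} [Group G] [Finite G] {M : Ideal AlgInt} [M.IsMaximal] {p : ℕ}
  [hp : Fact p.Prime]

section Trans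

open Cfsg.Agent.Blocks

/-- Transitivity of block induction. -/
theorem isInducedBlock_trans {H : Subgroup G} {K : Subgroup H}
    {c : Set (IrrCharacter K)} {b : Set (IrrCharacter H)} (h₁ : IsInducedBlock M K c b)
    {B : Set (IrrCharacter G)}
    (h₂ : IsInducedBlock M (K.map H.subtype)
      (BrauerPairs.mapBlock (K.equivMapOfInjective H.subtype H.subtype_injective).symm c) B) :
    IsInducedBlock M H b B := by
  refine ⟨h₁.2.1, h₂.2.1, fun ξ hξ χ hχ g => ?_⟩
  obtain ⟨η, hη⟩ := block_nonempty h₁.1
  set e := (K.equivMapOfInjective H.subtype H.subtype_injective).symm with he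
  have h3 := h₂.2.2 _ (Set.mem_image_of_mem (BrauerPairs.compIrr e) hη) χ hχ g
  have h4 := IsInducedBlock.omega_sub h₁ hη hξ (isCentralElt_resH (isCentralElt_classSum g))
    (scoeff_resH (scoeff_classSum (M := M) g))
  rw [← omega_resH_classSum] at h3
  have e1 : omega (BrauerPairs.compIrr e η).1 (resH (K.map H.subtype) (classSum ℂ g)) =
      omega η.1 (resH K (resH H (classSum ℂ g))) := by
    haveI := Fintype.ofFinite K
    haveI := Fintype.ofFinite (K.map H.subtype)
    rw [omega, omega, chiL_eq_sum, chiL_eq_sum, BrauerPairs.compIrr_apply, map_one]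
    congr 1
    refine (Fintype.sum_equiv e.toEquiv _ _ fun x => ?_)
    rw [BrauerPairs.compIrr_apply]
    congr 1
    rw [coeff_resH, coeff_resH, coeff_resH]
    congr 1
    show (x : G) = _
    have hx := (K.equivMapOfInjective H.subtype H.subtype_injective).apply_symm_apply x
    conv_lhs => rw [← hx]
    rfl
  rw [e1] at h3
  rw [← omega_resH_classSum]
  simpa using MemLocalIdeal.sub h3 h4

/-- A block of a subgroup containing the centralizer of a defect group induces. -/
theorem inducedBlockDefined_of_centralizer_le (hpM : (p : AlgInt) ∈ M) {H : Subgroup G}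
    {b : Set (IrrCharacter H)} (hb : IsPBlock M b) {D₀ : Subgroup H}
    (hD₀ : IsDefectGroup p M b D₀)
    (hC : Subgroup.centralizer ((D₀.map H.subtype : Subgroup G) : Set G) ≤ H) :
    InducedBlockDefined M H b := by
  obtain ⟨c, hc, -⟩ := exists_block_normalizer hpM hb hD₀
  set K := Subgroup.normalizer (D₀ : Set H) with hK
  set P := D₀.map H.subtype with hP
  have hKN : K.map H.subtype ≤ Subgroup.normalizer (P : Set G) :=
    Subgroup.le_normalizer_map H.subtype
  have hCK : Subgroup.centralizer (P : Set G) ≤ K.map H.subtype := by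
    intro g hg
    refine ⟨⟨g, hC hg⟩, Subgroup.centralizer_le_normalizer _ ?_, rfl⟩
    exact Subgroup.mem_centralizer_iff.2 fun d hd =>
      Subtype.ext (Subgroup.mem_centralizer_iff.1 hg _ ⟨d, hd, rfl⟩)
  obtain ⟨B, hB⟩ := inducedBlockDefined_of_le hpM ((IsDefectGroup.isPGroup hD₀).map H.subtype)
    hCK hKN (Subgroup.map_mono Subgroup.le_normalizer)
    (BrauerPairs.isPBlock_mapBlock (K.equivMapOfInjective H.subtype H.subtype_injective).symm hc.1)
  exact ⟨B, isInducedBlock_trans hc hB⟩

end Trans

section Pairs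

open Cfsg.Agent.BrauerPairs

variable [CharP (AlgInt ⧸ M) p]

theorem defectIn_incl {k : Type*} [Field k] [CharP k p] {H : Subgroup G} (K : Subgroup H)
    (a : MonoidAlgebra k H) {D : Subgroup H} (hD : DefectIn p K a D) :
    DefectIn p (K.map H.subtype) (incl H k a) (D.map H.subtype) := by
  refine ⟨hD.1.map _, Subgroup.map_mono hD.2.1, ?_, fun R hR hRK hne => ?_⟩
  · rw [br_incl]
    exact incl_ne_zero_iff.2 hD.2.2.1
  · have hRH : R ≤ H := hRK.trans (Subgroup.map_subtype_le K)
    have e := Subgroup.map_subgroupOf_eq_of_le hRH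
    rw [← e, br_incl] at hne
    rw [← e, Subgroup.map_le_map_iff_of_injective H.subtype_injective] at hRK
    obtain ⟨x, hx, hle⟩ := hD.2.2.2 _ (hR.of_equiv (Subgroup.subgroupOfEquivOfLe hRH).symm) hRK
      (incl_ne_zero_iff.1 hne)
    refine ⟨x, Subgroup.mem_map_of_mem _ hx, ?_⟩
    rw [← Subgroup.map_le_map_iff_of_injective H.subtype_injective, map_map_conj_subtype, e] at hle
    exact hle

variable {H : Subgroup G} {b : Set (IrrCharacter H)} {B : Set (IrrCharacter G)}

set_option synthInstance.maxHeartbeats 400000 in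
/-- The idempotent of the induced block fixes the Brauer image of that of the inducing block. -/
theorem br_mul_of_isInducedBlock (h : IsInducedBlock M H b B) {P : Subgroup G} (hP : IsPGroup p P)
    (hPH : P ≤ H) (hC : Subgroup.centralizer (P : Set G) ≤ H) {f : MonoidAlgebra (AlgInt ⧸ M) G}
    (hf : IsBlockIdem (Subgroup.centralizer (P : Set G)) f)
    (hbf : br P (blk M H b) * f = f) : br P (blkG M B) * f = f := by
  obtain ⟨ξ, hξ⟩ := nonempty_of_isPBlock h.1
  obtain ⟨χ, hχ⟩ := nonempty_of_isPBlock h.2.1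
  set eB := Blocks.blockIdem B with heB
  have hc : Blocks.IsCentralElt eB := Blocks.isCentralElt_blockIdem B
  have hS : Blocks.SCoeff M eB := Blocks.scoeff_blockIdem h.2.1
  set w := Blocks.resH H eB with hw
  have hred : Blocks.red M (Blocks.omega ξ.1 w) = 1 := by
    have h1 := Blocks.IsInducedBlock.omega_sub h hξ hχ hc hS
    rw [show Blocks.omega χ.1 eB = 1 from by rw [heB, Blocks.omega_blockIdem, if_pos hχ]] at h1
    rw [← Blocks.red_one (M := M)]
    exact (Blocks.red_eq_iff
      (Blocks.memLocalRing_omega ξ (Blocks.isCentralElt_resH hc) (Blocks.scoeff_resH hS))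
      Blocks.memLocalRing_one).2 h1
  have hnil := (isNilpotent_redA_sub h.1 hξ (Blocks.isCentralElt_resH (H := H) hc)
    (Blocks.scoeff_resH hS)).map (incl H (AlgInt ⧸ M))
  rw [hred, one_smul, map_sub, map_mul] at hnil
  set z := incl H (AlgInt ⧸ M) (Blocks.redA M w) with hz
  have hbz : br P z = br P (blkG M B) := Blocks.alg_ext fun g => by
    rw [coeff_br, coeff_br]
    split_ifs with hg
    · rw [hz, show g = ((⟨g, hC hg⟩ : H) : G) from rfl, coeff_incl_coe, Blocks.coeff_redA, hw,
        Blocks.coeff_resH, blkG, Blocks.coeff_redA]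
    · rfl
  have hzmem : z ∈ centerIn (AlgInt ⧸ M) H := incl_mem_centerIn H fun g t =>
    Blocks.isCentralElt_redA (Blocks.isCentralElt_resH hc) g t
  have hbmem := (isBlockIdem_blk H h.1).mem
  have hzP := fixedBy_anti hPH hzmem.2
  have hbP := fixedBy_anti hPH hbmem.2
  change IsNilpotent (z * blk M H b - blk M H b) at hnil
  obtain ⟨n, hn⟩ := hnil
  have hmP : z * blk M H b - blk M H b ∈ fixedBy (AlgInt ⧸ M) P :=
    sub_mem (mul_mem hzP hbP) hbP
  have h2 := congrArg (br P) hn
  rw [br_pow hP hmP, map_zero, map_sub, br_mul hP hzP hbP, hbz] at h2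
  set E := br P (blkG M B) with hE
  set F := br P (blk M H b) with hF
  have hBi := isBlockIdem_blkG (M := M) h.2.1
  have hEmem : E ∈ centerIn (AlgInt ⧸ M) (Subgroup.centralizer (P : Set G)) := br_top_mem hBi.mem
  have hEE : E * E = E := by
    rw [hE, ← br_mul hP (mem_fixedBy_of_top hBi.mem _) (mem_fixedBy_of_top hBi.mem _), hBi.idem]
  rcases hf.mul_eq_zero_or_self hEmem hEE with h0 | h0
  · exfalso
    refine hf.ne_zero ?_
    have hFmem := br_mem_centerIn (P := P) hbmem
    rw [inf_eq_right.2 hC] at hFmem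
    have hcomm : Commute (E * F - F) f := centerIn_commute
      (sub_mem (mul_mem hEmem hFmem) hFmem).1 hf.mem.2
    have h3 : (E * F - F) * f = -f := by
      rw [sub_mul, mul_assoc, hbf, h0, zero_sub]
    have h4 : ((E * F - F) * f) ^ n = 0 := by rw [hcomm.mul_pow, h2, zero_mul]
    rw [h3, neg_pow] at h4
    rcases Nat.eq_zero_or_pos n with rfl | hn0
    · rw [pow_zero, pow_zero, one_mul] at h4
      rw [← mul_one f, h4, mul_zero]
    · rw [show f ^ n = f from IsIdempotentElem.pow_eq hf.idem hn0.ne'] at h4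
      have h5 := congrArg ((-1 : MonoidAlgebra (AlgInt ⧸ M) G) ^ n * ·) h4
      simp only [← mul_assoc, mul_zero] at h5
      rwa [← pow_add, ← two_mul, pow_mul, neg_one_sq, one_pow, one_mul] at h5
  · exact h0

/-- The induced block has a defect group above that of the inducing block, meeting its centralizer
in the centre. -/
theorem exists_defectGroup_nested (hb : IsPBlock M b) {D₀ : Subgroup H}
    (hD₀ : IsDefectGroup p M b D₀)
    (hC : Subgroup.centralizer ((D₀.map H.subtype : Subgroup G) : Set G) ≤ H)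
    (h : IsInducedBlock M H b B) :
    ∃ D : Subgroup G, IsDefectGroup p M B D ∧ D₀.map H.subtype ≤ D ∧
      D ⊓ Subgroup.centralizer ((D₀.map H.subtype : Subgroup G) : Set G) ≤ D₀.map H.subtype := by
  set P := D₀.map H.subtype with hP
  obtain ⟨c, hc, hmax⟩ := exists_isMax_of_isDefectGroup hb hD₀
  have hblkH : ∀ K : Subgroup H, HasBlocks (AlgInt ⧸ M) K := fun K => hasBlocks M K
  have hcent := (forall_centric_iff hblkH (isBlockIdem_blkG hb) hmax
    (Relation.ReflTransGen.refl : PLE p _ _)).1 fun g hg => by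
      have h1 : D₀.map (MulAut.conj g).toMonoidHom ≤ D₀ := hg.map_le
      rw [Subgroup.eq_of_le_of_card_ge h1 (by rw [BrauerPairs.card_map_conj])]
      exact inf_le_left
  have hD := defectIn_incl (H := H) _ _ hcent
  have hCeq : (Subgroup.centralizer (D₀ : Set H)).map H.subtype =
      Subgroup.centralizer (P : Set G) := by
    rw [map_centralizer_sub, inf_eq_right.2 hC]
  set f := incl H (AlgInt ⧸ M) (blk M (Subgroup.centralizer (D₀ : Set H)) c) with hf
  have hfi : IsBlockIdem (Subgroup.centralizer (P : Set G)) f := by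
    rw [← hCeq]
    exact (isBlockIdem_incl_iff _ _).2 (isBlockIdem_blk _ hc)
  rw [hCeq, Subgroup.map_inf_eq _ _ _ H.subtype_injective, hCeq] at hD
  have hPp : IsPGroup p P := (Blocks.IsDefectGroup.isPGroup hD₀).map H.subtype
  have hbr : br P (blk M H b) * f = f := by
    rw [hP, blk, br_incl, hf, ← map_mul, hmax.1.2]
  have hpair : IsPairOf p (blkG M B) (P, f) :=
    ⟨⟨hPp, hfi⟩, br_mul_of_isInducedBlock h hPp (Subgroup.map_subtype_le _) hC hfi hbr⟩
  obtain ⟨⟨E, e⟩, hle, hE⟩ := exists_max_above (isBlockIdem_blkG h.2.1) hpair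
  refine ⟨E, isDefectGroup_of_isMax h.2.1 hE, hle.le, ?_⟩
  have key := (forall_centric_iff (fun K => hasBlocks M K) (isBlockIdem_blkG h.2.1) hE hle).2 hD 1
    ((bhom_iff (fun K => hasBlocks M K) hE.1.1 hle 1).2 (by rw [conjPair_one]; exact hle))
  have h1 : (MulAut.conj (1 : G)).toMonoidHom = MonoidHom.id G := by ext; simp
  rwa [h1, Subgroup.map_id] at key

end Pairs

end Cfsg.Agent.BlocksX
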