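import Cfsg.Agent.S4637
import Cfsg.Agent.S4642

/-!
# Sections of a `2`-block with Klein four defect group

* `memLocalRing_div_centralizer`: a combination of irreducible characters with local coefficients
  vanishing on the `p`-singular elements is divisible at `x` by `|C(x)|`.
* `subsection_data`: the decomposition numbers at a subsection of rank one and defect two.
* `subsection_rank_one`: all nontrivial subsections of a block with Klein four defect group.
-/

set_option autoImplicit false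
set_option linter.style.haveILetI false
set_option linter.unusedSectionVars false

namespace Cfsg.Agent.BlocksX.Klein

open Cfsg Cfsg.Agent Cfsg.Agent.Blocks
open Cfsg.Agent.BrauerPairs (regDot regDot_comm regDot_eq_zero blkG PLE IsPairOf DefectIn
  IsBlockIdem exists_ple exists_conj_ple)
open scoped ComplexConjugate Classical

universe u

variable {G : Type u} [Group G] [Fintype G] {M : Ideal AlgInt} [M.IsMaximal]

theorem isIntegral_secScalar {x : G} [Fintype (Subgroup.centralizer ({x} : Set G))]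
    (η : IrrCharacter (Subgroup.centralizer ({x} : Set G))) : IsIntegral ℤ (secScalar η) := by
  refine IsIntegral.of_pow (n := orderOf x) (orderOf_pos x) ?_
  rw [secScalar, ← omega_pow η (isCentralElt_secElt _ commute_secElt), MonoidAlgebra.single_pow,
    one_pow, show secElt x ^ orderOf x = 1 from Subtype.ext (by
      show x ^ orderOf x = 1
      exact pow_orderOf_eq_one x), ← MonoidAlgebra.one_def, omega_one]
  exact isIntegral_one

theorem classInner_eq_nat {H : Type u} [Group H] [Fintype H] {χ : H → ℂ}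
    (hχ : IsCharacter H χ) : ∃ n : ℕ, (Nat.card H : ℂ)⁻¹ * ∑ h, χ h = n := by
  obtain ⟨n, hn⟩ := Char.IsCharacter.exists_nat_classInner hχ
    (Char.irr_isCharacter (Char.trivialChar H))
  exact ⟨n, by simpa [classInner] using hn⟩

theorem memLocalRing_div_centralizer {p : ℕ} [Fact p.Prime] (hpM : (p : AlgInt) ∈ M)
    (a : IrrCharacter G → ℂ) (ha : ∀ ν, MemLocalRing M (a ν))
    (h0 : ∀ g : G, ¬ IsPRegular p g → ∑ ν, a ν * ν.1 g = 0) (x : G) :
    MemLocalRing M ((∑ ν, a ν * ν.1 x) /
      (Nat.card (Subgroup.centralizer ({x} : Set G)) : ℂ)) := by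
  haveI := Fintype.ofFinite (Subgroup.centralizer ({x} : Set G))
  have hp : p.Prime := Fact.out
  by_cases hx : IsPRegular p x
  swap
  · rw [h0 x hx, zero_div]; exact memLocalRing_zero
  set C := Subgroup.centralizer ({x} : Set G)
  obtain ⟨Q⟩ := (inferInstance : Nonempty (Sylow p C))
  haveI := Fintype.ofFinite (Q : Subgroup C)
  have hexp : ∀ (ν : IrrCharacter G) (c : C), ν.1 (x * c) =
      ∑ η : IrrCharacter C, secScalar η * classInner (fun k : C => ν.1 k) η.1 * η.1 c := fun ν c => by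
    have h := congrFun (Char.eq_sum_classInner_smul
      (isClassFunction_secFun (x := x) ν.1 (irr_classFun ν))) c
    refine h.trans ?_
    simp [Finset.sum_apply, classInner_secFun]
    rfl
  have hloc : ∀ ν : IrrCharacter G, MemLocalRing M
      ((Nat.card (Q : Subgroup C) : ℂ)⁻¹ * ∑ q : (Q : Subgroup C), ν.1 (x * ((q : C) : G))) := by
    intro ν
    simp only [hexp, Finset.sum_comm (s := (Finset.univ : Finset (Q : Subgroup C))), ← Finset.mul_sum]
    rw [Finset.mul_sum]
    refine MemLocalRing.sum _ fun η _ => ?_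
    obtain ⟨m, hm⟩ := Char.IsCharacter.exists_nat_classInner
      (Char.IsCharacter.restrict (Char.irr_isCharacter ν) C) (Char.irr_isCharacter η)
    obtain ⟨n, hn⟩ := classInner_eq_nat
      (Char.IsCharacter.restrict (Char.irr_isCharacter η) (Q : Subgroup C))
    rw [show (Nat.card (Q : Subgroup C) : ℂ)⁻¹ * (secScalar η *
        classInner (fun k : C => ν.1 k) η.1 * ∑ q : (Q : Subgroup C), η.1 q) =
      secScalar η * (m : ℂ) * (n : ℂ) by rw [← hn, hm]; ring]
    exact memLocalRing_of_isIntegral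
      (((isIntegral_secScalar η).mul (map_natCast (algebraMap ℤ ℂ) m ▸ isIntegral_algebraMap)).mul
        (map_natCast (algebraMap ℤ ℂ) n ▸ isIntegral_algebraMap))
  have hvan : ∀ q : (Q : Subgroup C), q ≠ 1 → ∑ ν, a ν * ν.1 (x * ((q : C) : G)) = 0 := by
    intro q hq
    refine h0 _ fun hr => ?_
    obtain ⟨j, hj⟩ := Q.2 q
    have hqp : ∃ k, orderOf ((q : C) : G) = p ^ k := by
      obtain ⟨i, -, hi⟩ := (Nat.dvd_prime_pow hp).1 (orderOf_dvd_of_pow_eq_one hj)
      exact ⟨i, by rw [Subgroup.orderOf_coe, Subgroup.orderOf_coe, hi]⟩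
    have hc : Commute ((q : C) : G) x := Subgroup.mem_centralizer_singleton_iff.1 (q : C).2
    rw [← hc.eq] at hr
    have hone : IsPPart p (((q : C) : G) * x) 1 :=
      ⟨_, one_mul _, Commute.one_left _, ⟨0, by simp⟩, hr⟩
    exact hq (Subtype.ext (Subtype.ext (IsPPart.unique (isPPart_mul hc hqp hx) hone)))
  have hval : (∑ ν, a ν * ν.1 x) / (Nat.card (Q : Subgroup C) : ℂ) = ∑ ν, a ν *
      ((Nat.card (Q : Subgroup C) : ℂ)⁻¹ * ∑ q : (Q : Subgroup C), ν.1 (x * ((q : C) : G))) := by
    rw [div_eq_inv_mul, Finset.sum_congr rfl fun ν _ => (mul_left_comm (a ν) _ _),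
      ← Finset.mul_sum]
    congr 1
    rw [Finset.sum_congr rfl fun ν _ => Finset.mul_sum _ _ _, Finset.sum_comm,
      Finset.sum_eq_single_of_mem (1 : (Q : Subgroup C)) (Finset.mem_univ _) fun q _ hq => hvan q hq]
    simp
  have hidx : ¬ p ∣ (Q : Subgroup C).index := Q.not_dvd_index
  rw [← (Q : Subgroup C).card_mul_index, Nat.cast_mul, ← div_div, hval, div_eq_mul_inv]
  exact MemLocalRing.mul (MemLocalRing.sum _ fun ν _ => MemLocalRing.mul (ha ν) (hloc ν))
    (memLocalRing_inv_natCast hpM hidx)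

variable {x : G} [Fintype (Subgroup.centralizer ({x} : Set G))] {B : Set (IrrCharacter G)}

theorem regDot_secFun_eq_zero {p : ℕ} [hp : Fact p.Prime] (hpM : (p : AlgInt) ∈ M)
    (hx : ∃ k, orderOf x = p ^ k) (hB : IsPBlock M B) {χ : IrrCharacter G} (hχ : χ ∈ B)
    (η : IrrCharacter (Subgroup.centralizer ({x} : Set G)))
    (hi : ¬ IsInducedBlock M (Subgroup.centralizer ({x} : Set G)) (blockOf M η.1) B) :
    regDot p (secFun x χ.1) η.1 = 0 := by
  set f := secFun x χ.1 with hf
  have hfc : IsClassFunction (Subgroup.centralizer ({x} : Set G)) f :=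
    isClassFunction_secFun χ.1 (irr_classFun χ)
  have hzero : ∀ c : (Subgroup.centralizer ({x} : Set G)), ¬ p ∣ orderOf c →
      blockPart (blockOf M η.1) f c = 0 := by
    intro c hc
    have hpp : IsPPart p (x * (c : G)) x :=
      isPPart_mul (Subgroup.mem_centralizer_singleton_iff.1 c.2).symm hx
        (by show ¬ p ∣ orderOf (c : G); rwa [Subgroup.orderOf_coe])
    rw [← sum_mul_blockCoeff hfc,
      ← second_main_centralizer (h := secElt x * c) hpM hx (isPBlock_blockOf η)
        (χ := χ) (by rw [← block_eq hB hχ]; exact hi) hpp,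
      chiL_inclA_mul_single]
    refine (Fintype.sum_equiv (Equiv.mulRight c) _ _ fun k => ?_).symm
    simp only [Equiv.coe_mulRight, mul_inv_cancel_right, Subgroup.coe_mul, coeff_blockIdem]
    rw [hf]
    simp only [secFun, secElt, Subgroup.coe_mul]
    rw [mul_comm]
    congr 2
    rw [← mul_assoc, ← mul_assoc, Subgroup.mem_centralizer_singleton_iff.1 k.2]
  have h1 : regDot p (blockPart (blockOf M η.1) f) η.1 = 0 := by
    rw [regDot, classInner]
    refine mul_eq_zero_of_right _ (Finset.sum_eq_zero fun c _ => ?_)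
    by_cases hc : p ∣ orderOf c
    · simp [Char.regFun, hc]
    · simp [Char.regFun, hc, hzero c hc]
  rw [hf, regDot_secFun hpM (isPBlock_blockOf η) χ (mem_blockOf_self η)]
  rw [← h1, show blockPart (blockOf M η.1) f =
    ∑ ν ∈ Finset.univ.filter (· ∈ blockOf M η.1), classInner f ν.1 • ν.1 from funext fun c => by
      rw [Char.blockPart_apply]; simp [Finset.sum_apply], regDot, BrauerPairs.regFun_sum,
    Char.classInner_sum_left]
  simp only [Char.classInner_smul_left]
  rfl

/-- Decomposition numbers at a subsection of rank one and defect two. -/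
theorem subsection_data [Fact (Nat.Prime 2)] [CharP (AlgInt ⧸ M) 2]
    (hpM : ((2 : ℕ) : AlgInt) ∈ M) (hx : orderOf x = 2) (hB : IsPBlock M B)
    {b : Set (IrrCharacter (Subgroup.centralizer ({x} : Set G)))}
    (hb : IsInducedBlock M (Subgroup.centralizer ({x} : Set G)) b B)
    (hl : blockRank 2 b = 1) (hd : blockDefect 2 b = 2) :
    ∃ (a : IrrCharacter G → ℤ) (d : IrrCharacter (Subgroup.centralizer ({x} : Set G)) → ℕ)
      (φ : Subgroup.centralizer ({x} : Set G) → ℂ),
      (∀ s, IsPRegular 2 s → IsIntegral ℤ (φ s)) ∧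
      (∀ η ∈ b, ∀ s, IsPRegular 2 s → η.1 s = (d η : ℂ) * φ s) ∧
      (∀ χ : IrrCharacter G, ∀ ν ∈ b,
        regDot 2 (secFun x χ.1) ν.1 = (a χ : ℂ) * d ν / 4) ∧
      ∑ ν ∈ Finset.univ.filter (· ∈ b), (d ν : ℂ) ^ 2 = 4 ∧
      ∑ χ ∈ Finset.univ.filter (· ∈ B), a χ ^ 2 = 4 := by
  have hp : Nat.Prime 2 := Fact.out
  obtain ⟨φ, d, ⟨nc, hnc⟩, hφ, hsum⟩ := BrauerPairs.rank_one_data hpM hb.1 hl
  set T := Finset.univ.filter (· ∈ b) with hT
  rw [hd, finsum_mem_eq_sum_of_inter_support_eq _ (t := T) (by ext; simp [hT])] at hsum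
  set r : ℂ := classInner (Char.regFun 2 φ) φ with hr
  have hreg : ∀ η ∈ T, Char.regFun 2 η.1 = (d η : ℂ) • Char.regFun 2 φ := fun η hη => funext fun s => by
    by_cases hs : 2 ∣ orderOf s
    · simp [Char.regFun, hs]
    · simp [Char.regFun, hs, hφ η (Finset.mem_filter.1 hη).2 s hs]
  have hdot : ∀ η ∈ T, ∀ ν ∈ T, regDot 2 η.1 ν.1 = (d η : ℂ) * d ν * r := by
    intro η hη ν hν
    rw [regDot, hreg η hη, Char.classInner_smul_left, ← regDot, ← BrauerPairs.classInner_regFun_right,
      hreg ν hν, Char.classInner_smul_right, map_natCast, BrauerPairs.classInner_regFun_right,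
      mul_assoc]
    rfl
  have hr4 : r * 4 = 1 := by
    have h := BrauerPairs.blockRank_eq_sum hpM hp hb.1
    rw [hl, Nat.cast_one, ← Finset.sum_subtype T (by simp [hT])
      (fun η : IrrCharacter (Subgroup.centralizer ({x} : Set G)) => classInner (Char.regFun 2 η.1) η.1)] at h
    rw [h, show (4 : ℂ) = ((∑ η ∈ T, d η ^ 2 : ℕ) : ℂ) by rw [hsum]; norm_num, Nat.cast_sum,
      Finset.mul_sum]
    refine Finset.sum_congr rfl fun η hη => ?_
    rw [← regDot, hdot η hη η hη]
    push_cast
    ring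
  choose mlt _ hmlt using fun χ : IrrCharacter G =>
    Char.IsCharacter.exists_decomp (Char.IsCharacter.restrict (Char.irr_isCharacter χ) (Subgroup.centralizer ({x} : Set G)))
  have hsgn : ∀ η : IrrCharacter (Subgroup.centralizer ({x} : Set G)), ∃ ε : ℤ, secScalar η = (ε : ℂ) := fun η => by
    have h := secScalar_pow (p := 2) (k := 1) (by rw [hx, pow_one]) η
    rw [pow_one] at h
    rcases sq_eq_one_iff.1 h with h | h
    · exact ⟨1, by simp [h]⟩
    · exact ⟨-1, by simp [h]⟩
  choose ε hεs using hsgn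
  set a : IrrCharacter G → ℤ := fun χ => ∑ η ∈ T, ε η * (mlt χ η : ℤ) * d η with ha
  have hD : ∀ χ : IrrCharacter G, ∀ ν ∈ b,
      regDot 2 (secFun x χ.1) ν.1 = (a χ : ℂ) * d ν / 4 := by
    intro χ ν hν
    rw [regDot_secFun hpM hb.1 χ hν, ha]
    simp only [Int.cast_sum, Finset.sum_mul, Finset.sum_div]
    refine Finset.sum_congr rfl fun η hη => ?_
    rw [classInner_secFun, hmlt χ η, hdot η hη ν (by simp [hT, hν]), hεs]
    push_cast
    linear_combination ((ε η : ℂ) * mlt χ η * d η * d ν / 4) * hr4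
  obtain ⟨η₀, hη₀T, hd0⟩ : ∃ η ∈ T, d η ≠ 0 := by
    by_contra h
    push Not at h
    rw [Finset.sum_congr rfl fun η hη => by rw [h η hη]] at hsum
    norm_num at hsum
  have hη₀ := (Finset.mem_filter.1 hη₀T).2
  refine ⟨a, d, φ, fun s hs => ?_, hφ, hD, ?_, ?_⟩
  · rw [hnc s hs, finsum_mem_eq_sum_of_inter_support_eq _ (t := T) (by ext; simp [hT])]
    exact IsIntegral.sum _ fun ψ _ => (map_intCast (algebraMap ℤ ℂ) (nc ψ) ▸ isIntegral_algebraMap).mul
      (CharInt.isIntegral_char (Char.irr_isCharacter ψ) _)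
  · have : ((∑ η ∈ T, d η ^ 2 : ℕ) : ℂ) = ((2 ^ 2 : ℕ) : ℂ) := by rw [hsum]
    push_cast at this
    rw [this]
  have h := sum_regDot_secFun hpM (k := 1) (by rw [hx, pow_one]) hb hη₀ hη₀
  rw [hdot η₀ hη₀T η₀ hη₀T, Finset.sum_congr rfl (g := fun χ => ((a χ ^ 2 : ℤ) : ℂ) *
      ((d η₀ : ℂ) * d η₀ / 16)) fun χ _ => by
      rw [hD χ η₀ hη₀, map_div₀, map_mul, map_intCast, map_natCast, map_ofNat]; push_cast; ring,
    ← Finset.sum_mul, ← Int.cast_sum] at h
  have hne : (d η₀ : ℂ) ≠ 0 := Nat.cast_ne_zero.2 hd0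
  have e : ((∑ χ ∈ Finset.univ.filter (· ∈ B), a χ ^ 2 : ℤ) : ℂ) = ((4 : ℤ) : ℂ) := by
    refine mul_right_cancel₀ (mul_ne_zero hne hne) ?_
    push_cast at h ⊢
    linear_combination 16 * h + (4 * (d η₀ : ℂ) * d η₀) * hr4
  exact_mod_cast e

/-- All nontrivial subsections of a block with Klein four defect group. -/
theorem subsection_rank_one [Fact (Nat.Prime 2)] [CharP (AlgInt ⧸ M) 2]
    (hpM : ((2 : ℕ) : AlgInt) ∈ M) (hB : IsPBlock M B) {P : Subgroup G}
    (hPD : IsDefectGroup 2 M B P) (hV : IsKleinFour P) {z : G} (hz1 : z ≠ 1)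
    (hz : ∃ k, orderOf z = 2 ^ k) [Fintype (Subgroup.centralizer ({z} : Set G))]
    {b : Set (IrrCharacter (Subgroup.centralizer ({z} : Set G)))}
    (hb : IsInducedBlock M (Subgroup.centralizer ({z} : Set G)) b B) :
    orderOf z = 2 ∧ blockRank 2 b = 1 ∧ blockDefect 2 b = 2 := by
  have hblk : ∀ H : Subgroup G, BrauerPairs.HasBlocks (AlgInt ⧸ M) H :=
    fun H => BrauerPairs.hasBlocks M H
  have hBi := BrauerPairs.isBlockIdem_blkG hB
  have hP4 : Nat.card P = 4 := hV.card_four
  have hsq : ∀ u ∈ P, u * u = 1 := fun u hu => by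
    simpa using congrArg Subtype.val (IsKleinFour.mul_self (⟨u, hu⟩ : P))
  have hcommP : ∀ x ∈ P, ∀ y ∈ P, x * y = y * x := fun x hx y hy => by
    have h := hsq _ (mul_mem hx hy)
    calc x * y = x * ((x * y) * (x * y)) * y := by rw [h, mul_one]
      _ = (x * x) * (y * x) * (y * y) := by group
      _ = _ := by rw [hsq x hx, hsq y hy, one_mul, mul_one]
  have hPC : P ≤ Subgroup.centralizer (P : Set G) := fun x hx =>
    Subgroup.mem_centralizer_iff.2 fun y hy => hcommP y hy x hx
  obtain ⟨e₀, -, hmax₀⟩ := BrauerPairs.exists_isMax_of_isDefectGroup hB hPD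
  have hP : IsPGroup 2 P := hmax₀.1.1.1
  obtain ⟨c, hc⟩ := S4642.exists_inducing_centralizer hpM hP hB hPD
    ⟨1, by rw [map_one]; exact (Subgroup.map_id P).le⟩
  have hpair := (S4637.induced_iff_pair hpM hP rfl hPC hB hc.1).1 hc
  set E := BrauerPairs.blk M _ c with hEdef
  have ha : BrauerPairs.IsMax 2 (blkG M B) (P, E) := by
    obtain ⟨g, hg⟩ := exists_conj_ple hblk hBi hmax₀ hpair
    have e1 := hg.eq_of_fst_eq
      (Subgroup.eq_of_le_of_card_ge hg.le (BrauerPairs.card_map_conj g P).ge)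
    have h := hmax₀.conj hBi g⁻¹
    rwa [← e1, BrauerPairs.conjPair_inv_conjPair] at h
  have hPE := ha.1.1
  have hH : Subgroup.centralizer ({z} : Set G) =
      Subgroup.centralizer (Subgroup.zpowers z : Set G) := Blocks.centralizer_zpowers_eq.symm
  have hp := (S4637.induced_iff_pair hpM (Blocks.isPGroup_zpowers hz) hH
    Blocks.zpowers_le_centralizer hB hb.1).1 hb
  obtain ⟨g, hg⟩ := exists_conj_ple hblk hBi ha hp
  set u := g * z * g⁻¹ with hu_def
  have hcp : BrauerPairs.conjPair g (Subgroup.zpowers z, BrauerPairs.blk M _ b) =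
      (Subgroup.zpowers u, BrauerPairs.conjEl g (BrauerPairs.blk M _ b)) := Prod.ext (by
      show (Subgroup.zpowers z).map _ = _
      rw [MonoidHom.map_zpowers]; rfl) rfl
  rw [hcp] at hg
  have hu : u ∈ P := hg.le (Subgroup.mem_zpowers _)
  have hu2 : orderOf u = 2 := orderOf_eq_prime (by rw [pow_two]; exact hsq u hu)
    fun h => hz1 (conj_eq_one_iff.1 h)
  have hz2 : orderOf z = 2 := by
    rw [← hu2]
    exact (orderOf_injective (MulAut.conj g).toMonoidHom (MulAut.conj g).injective z).symm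
  have hPcent : P ≤ Subgroup.centralizer (Subgroup.zpowers u : Set G) :=
    hPC.trans (Subgroup.centralizer_le (SetLike.coe_subset_coe.2 (Subgroup.zpowers_le.2 hu)))
  have hinf : P ⊓ Subgroup.centralizer (Subgroup.zpowers u : Set G) = P := inf_eq_left.2 hPcent
  obtain ⟨w, -, hD⟩ := BrauerPairs.exists_conj_defectIn_centralizer hblk hBi ha hg
  have h1 := hD.conj w⁻¹
  rw [BrauerPairs.conjEl_inv_conjEl, BrauerPairs.map_conj_centralizer,
    BrauerPairs.map_conj_map_conj_inv] at h1
  have hne := BrauerPairs.br_inf_centralizer_ne_zero hblk hPE hg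
  rw [hinf] at hne
  have hdef := h1.of_card_le (hg.isPair_left hPE).2.mem.2 hPE.1 hPcent hne (by
    rw [BrauerPairs.card_map_conj]
    exact Subgroup.card_le_of_le inf_le_left)
  have hdz := hdef.conj g⁻¹
  rw [BrauerPairs.conjEl_inv_conjEl, BrauerPairs.map_conj_centralizer, MonoidHom.map_zpowers,
    show (MulAut.conj g⁻¹).toMonoidHom u = z by
      show g⁻¹ * (g * z * g⁻¹) * g⁻¹⁻¹ = z
      group, ← hH] at hdz
  have hDG := (BrauerPairs.isDefectGroup_subgroupOf_iff hb.1 hdz.2.1).2 hdz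
  have hd : blockDefect 2 b = 2 := by
    have h := Blocks.card_defectGroup hpM hb.1 hDG
    rw [Nat.card_congr (Subgroup.subgroupOfEquivOfLe hdz.2.1).toEquiv, BrauerPairs.card_map_conj,
      hP4] at h
    exact Nat.pow_right_injective le_rfl (h.symm.trans (by norm_num))
  refine ⟨hz2, ?_, hd⟩
  have hcard : Nat.card ((Subgroup.zpowers z).subgroupOf (Subgroup.centralizer ({z} : Set G))) = 2 := by
    rw [Nat.card_congr (Subgroup.subgroupOfEquivOfLe Blocks.zpowers_le_centralizer).toEquiv,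
      Nat.card_zpowers, hz2]
  refine Blocks.blockRank_eq_one_of_central_half hpM hb.1
    ((Subgroup.zpowers z).subgroupOf (Subgroup.centralizer ({z} : Set G))) ?_
    (IsPGroup.of_card (n := 1) (by rw [hcard, pow_one])) (by rw [hd, hcard]; norm_num)
  intro a ha'
  refine Subgroup.mem_center_iff.2 fun c => Subtype.ext ?_
  obtain ⟨i, hi⟩ := Subgroup.mem_zpowers_iff.1 (Subgroup.mem_subgroupOf.1 ha')
  show (c : G) * a = a * c
  rw [← hi]
  exact (Commute.zpow_right (Subgroup.mem_centralizer_singleton_iff.1 c.2) i).eq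

end Cfsg.Agent.BlocksX.Klein
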