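import Cfsg.Agent.Lib.Blocks.CentralChar
import Mathlib.LinearAlgebra.Matrix.Charpoly.LinearMap
import Mathlib.RingTheory.IntegralClosure.IsIntegralClosure.Basic

/-!
# Scalars by which elements with coefficients in `M` act
-/

set_option linter.style.haveILetI false
set_option linter.unusedSectionVars false

namespace Cfsg.Agent.BlocksX

open Cfsg MonoidAlgebra Cfsg.Agent.Blocks

universe u

variable {G : Type u} [Group G] [Finite G] {M : Ideal AlgInt} [M.IsPrime]

/-- An element with coefficients in `M` acting as a scalar acts as an element of `M`. -/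
theorem memLocalIdeal_scalar {V : Type*} [AddCommGroup V] [Module ℂ V] [Nontrivial V]
    (ρ : Representation ℂ G V) (c : G → AlgInt) (hc : ∀ g, c g ∈ M) {s : ℂ}
    (h : ρ.asAlgebraHom (ofFun fun g => (c g : ℂ)) = s • (1 : Module.End ℂ V)) :
    MemLocalIdeal M s := by
  classical
  haveI := Fintype.ofFinite G
  haveI : Module.Finite AlgInt (MonoidAlgebra AlgInt G) :=
    Module.Finite.of_surjective (∑ x : G, (LinearMap.proj (R := AlgInt) (φ := fun _ : G => AlgInt) x).smulRight
      (MonoidAlgebra.single x (1 : AlgInt))) fun z => ⟨fun x => z.coeff x, by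
        conv_rhs => rw [eq_sum_single z]
        simp [MonoidAlgebra.smul_single]⟩
  set y : MonoidAlgebra AlgInt G := ofFun c with hy
  have hrange : LinearMap.range (Algebra.lmul AlgInt (MonoidAlgebra AlgInt G) y) ≤
      M • (⊤ : Submodule AlgInt (MonoidAlgebra AlgInt G)) := by
    rintro _ ⟨w, rfl⟩
    show y * w ∈ _
    rw [eq_sum_single y, Finset.sum_mul]
    refine Submodule.sum_mem _ fun x _ => ?_
    rw [show MonoidAlgebra.single x (y.coeff x) = y.coeff x • MonoidAlgebra.single x (1 : AlgInt) by
      simp [MonoidAlgebra.smul_single], smul_mul_assoc]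
    exact Submodule.smul_mem_smul (by simp [hy, hc x]) trivial
  obtain ⟨P, hP, -, hcoef, haev⟩ :=
    LinearMap.exists_monic_and_natDegree_eq_and_coeff_mem_pow_and_aeval_eq_zero AlgInt
      (Algebra.lmul AlgInt (MonoidAlgebra AlgInt G) y) M hrange
  have hy0 : Polynomial.eval₂ (algebraMap AlgInt (MonoidAlgebra AlgInt G)) y P = 0 := by
    rw [Polynomial.aeval_algHom_apply] at haev
    have h1 : Polynomial.aeval y P * 1 = 0 :=
      LinearMap.congr_fun haev (1 : MonoidAlgebra AlgInt G)
    rwa [mul_one, Polynomial.aeval_def] at h1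
  set ψ : MonoidAlgebra AlgInt G →+* Module.End ℂ V :=
    (ρ.asAlgebraHom : MonoidAlgebra ℂ G →+* Module.End ℂ V).comp
      (MonoidAlgebra.mapRingHom G (algebraMap AlgInt ℂ)) with hψ
  have hψy : ψ y = algebraMap ℂ (Module.End ℂ V) s := by
    rw [Algebra.algebraMap_eq_smul_one, ← h]
    show ρ.asAlgebraHom (MonoidAlgebra.mapRingHom G (algebraMap AlgInt ℂ) y) = _
    exact congrArg _ (alg_ext fun g => by simp [MonoidAlgebra.coeff_mapRingHom, hy])
  have hψa : ψ.comp (algebraMap AlgInt (MonoidAlgebra AlgInt G)) =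
      (algebraMap ℂ (Module.End ℂ V)).comp (algebraMap AlgInt ℂ) := by
    refine RingHom.ext fun a => ?_
    have : MonoidAlgebra.mapRingHom G (algebraMap AlgInt ℂ)
        (algebraMap AlgInt (MonoidAlgebra AlgInt G) a) = algebraMap ℂ (MonoidAlgebra ℂ G) (a : ℂ) := by
      refine alg_ext fun g => ?_
      simp [MonoidAlgebra.coe_algebraMap, Finsupp.single_apply]
    show ρ.asAlgebraHom (MonoidAlgebra.mapRingHom G (algebraMap AlgInt ℂ) _) = _
    rw [this, AlgHom.commutes]
    rfl
  have hev : Polynomial.eval₂ (algebraMap AlgInt ℂ) s P = 0 := by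
    have h1 := congrArg ψ hy0
    rw [map_zero, Polynomial.hom_eval₂, hψa, hψy, ← Polynomial.hom_eval₂] at h1
    exact (map_eq_zero_iff _ (algebraMap ℂ (Module.End ℂ V)).injective).1 h1
  have hS : MemLocalRing M s :=
    memLocalRing_of_isIntegral (isIntegral_trans (R := ℤ) (A := AlgInt) s ⟨P, hP, hev⟩)
  refine MemLocalIdeal.of_pow (n := P.natDegree) hS ?_
  rw [Polynomial.eval₂_eq_sum_range, Finset.sum_range_succ, hP.coeff_natDegree, map_one,
    one_mul] at hev
  have hsum : MemLocalIdeal M
      (∑ i ∈ Finset.range P.natDegree, algebraMap AlgInt ℂ (P.coeff i) * s ^ i) := by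
    refine MemLocalIdeal.sum _ fun i hi => MemLocalIdeal.mul_right ?_ ?_
    · refine (memLocalIdeal_coe_iff (M := M) _).2 (Ideal.pow_le_self ?_ (hcoef i))
      have := Finset.mem_range.1 hi
      omega
    · induction i with
      | zero => simpa using memLocalRing_one (M := M)
      | succ i ih => rw [pow_succ]; exact MemLocalRing.mul (ih (Finset.mem_range.2
          (Nat.lt_of_succ_lt (Finset.mem_range.1 hi)))) hS
  have := MemLocalIdeal.neg hsum
  rwa [neg_eq_of_add_eq_zero_right hev] at this

end Cfsg.Agent.BlocksX
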