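import Cfsg.Agent.Lib.BlocksX.Basic
import Cfsg.Agent.Lib.BlocksX.Scalar
import Cfsg.Agent.Lib.Char.Ito

/-!
# Characters of maximal degree over a central `p`-subgroup
-/

set_option linter.style.haveILetI false
set_option linter.unusedSectionVars false

namespace Cfsg.Agent.BlocksX

open Cfsg MonoidAlgebra Cfsg.Agent.Blocks
open scoped ComplexConjugate

universe u

variable {G : Type u} [Group G] [Finite G]

/-- The scalar by which a central element acts. -/
noncomputable def centScalar (χ : G → ℂ) (u : G) : ℂ := χ u / χ 1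

theorem isCentralElt_single_of_mem_center {u : G} (hu : u ∈ Subgroup.center G) :
    IsCentralElt (MonoidAlgebra.single u (1 : ℂ)) :=
  isCentralElt_iff_commute.2 fun a => by
    show MonoidAlgebra.single u (1 : ℂ) * MonoidAlgebra.single a 1 =
      MonoidAlgebra.single a 1 * MonoidAlgebra.single u 1
    rw [MonoidAlgebra.single_mul_single, MonoidAlgebra.single_mul_single,
      Subgroup.mem_center_iff.1 hu a]

theorem omega_single_eq (χ : G → ℂ) (u : G) :
    omega χ (MonoidAlgebra.single u (1 : ℂ)) = centScalar χ u := by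
  rw [omega, chiL_single, one_mul, centScalar]

theorem apply_mul_central (χ : IrrCharacter G) {u : G} (hu : u ∈ Subgroup.center G) (g : G) :
    χ.1 (g * u) = centScalar χ.1 u * χ.1 g := by
  have h := chiL_mul_of_central χ (isCentralElt_single_of_mem_center hu)
    (MonoidAlgebra.single g (1 : ℂ))
  rw [MonoidAlgebra.single_mul_single, chiL_single, chiL_single, omega_single_eq, one_mul, one_mul,
    one_mul] at h
  rw [Subgroup.mem_center_iff.1 hu g]
  exact h

theorem centScalar_one (χ : IrrCharacter G) : centScalar χ.1 1 = 1 :=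
  div_self (irr_one_ne_zero χ)

theorem centScalar_mul (χ : IrrCharacter G) {u v : G} (_hu : u ∈ Subgroup.center G)
    (hv : v ∈ Subgroup.center G) :
    centScalar χ.1 (u * v) = centScalar χ.1 u * centScalar χ.1 v := by
  rw [centScalar, apply_mul_central χ hv u, centScalar, centScalar]
  ring

theorem conj_centScalar (χ : IrrCharacter G) (u : G) :
    conj (centScalar χ.1 u) = centScalar χ.1 u⁻¹ := by
  rw [centScalar, centScalar, map_div₀, Char.IsCharacter.conj_apply (Char.irr_isCharacter χ),
    Char.apply_one_eq_degree, map_natCast]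

theorem centScalar_mul_conj (χ : IrrCharacter G) {u : G} (hu : u ∈ Subgroup.center G) :
    centScalar χ.1 u * conj (centScalar χ.1 u) = 1 := by
  rw [conj_centScalar, ← centScalar_mul χ hu (inv_mem hu), mul_inv_cancel, centScalar_one]

/-- `η` restricts to a multiple of the linear function `l` on `D`. -/
def Over (D : Subgroup G) (l : G → ℂ) (η : G → ℂ) : Prop := ∀ u ∈ D, centScalar η u = l u

variable {D : Subgroup G}

theorem normal_of_le_center (hDZ : D ≤ Subgroup.center G) : D.Normal :=
  ⟨fun n hn g => by rw [Subgroup.mem_center_iff.1 (hDZ hn) g, mul_inv_cancel_right]; exact hn⟩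

theorem conj_mem_center {u c : G} (hu : u ∈ Subgroup.center G) : c * u * c⁻¹ = u := by
  rw [Subgroup.mem_center_iff.1 hu c, mul_inv_cancel_right]

theorem sum_twist (hDZ : D ≤ Subgroup.center G) [Fintype D] (l : G → ℂ)
    (hl : ∀ u ∈ D, ∀ v ∈ D, l (u * v) = l u * l v) (η : IrrCharacter G)
    [Decidable (Over D l η.1)] :
    ∑ u : D, l u * conj (centScalar η.1 (u : G)) =
      if Over D l η.1 then (Nat.card D : ℂ) else 0 := by
  split_ifs with h
  · rw [Finset.sum_congr rfl (g := fun _ => (1 : ℂ)) fun u _ => by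
        rw [← h u u.2, centScalar_mul_conj η (hDZ u.2)], Finset.sum_const, Finset.card_univ,
      nsmul_eq_mul, mul_one, Nat.card_eq_fintype_card]
  · simp only [Over, not_forall] at h
    obtain ⟨v, hv, hne⟩ := h
    have hshift : ∑ u : D, l u * conj (centScalar η.1 (u : G)) =
        (l v * conj (centScalar η.1 v)) * ∑ u : D, l u * conj (centScalar η.1 (u : G)) := by
      rw [Finset.mul_sum]
      refine (Fintype.sum_equiv (Equiv.mulLeft (⟨v, hv⟩ : D)) _ _ fun u => ?_).symm
      simp only [Equiv.coe_mulLeft, Subgroup.coe_mul, hl v hv u u.2,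
        centScalar_mul η (hDZ hv) (hDZ u.2), map_mul]
      ring
    by_contra hS
    have h1 : l v * conj (centScalar η.1 v) = 1 :=
      mul_right_cancel₀ hS ((one_mul _).trans hshift).symm
    exact hne (by
      calc centScalar η.1 v = centScalar η.1 v * (l v * conj (centScalar η.1 v)) := by rw [h1, mul_one]
        _ = l v * (centScalar η.1 v * conj (centScalar η.1 v)) := by ring
        _ = l v := by rw [centScalar_mul_conj η (hDZ hv), mul_one])

open Classical in
/-- The `l`-component of a block idempotent. -/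
theorem sum_twist_blockCoeff (hDZ : D ≤ Subgroup.center G) [Fintype D] (l : G → ℂ)
    (hl : ∀ u ∈ D, ∀ v ∈ D, l (u * v) = l u * l v) (A : Set (IrrCharacter G)) (g : G) :
    ∑ u : D, l u * blockCoeff A (g * u) =
      (Nat.card G : ℂ)⁻¹ * (Nat.card D : ℂ) *
        ∑ η ∈ Finset.univ.filter (fun η : IrrCharacter G => η ∈ A ∧ Over D l η.1),
          η.1 1 * conj (η.1 g) := by
  simp only [blockCoeff_eq_sum, Finset.mul_sum]
  rw [Finset.sum_comm, ← Finset.filter_filter, Finset.sum_filter (fun η : IrrCharacter G => Over D l η.1)]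
  refine Finset.sum_congr rfl fun η _ => ?_
  simp only [apply_mul_central η (hDZ (Subtype.prop _)) g, map_mul]
  rw [Finset.sum_congr rfl (g := fun u : D => ((Nat.card G : ℂ)⁻¹ * η.1 1 * conj (η.1 g)) *
    (l u * conj (centScalar η.1 (u : G)))) fun u _ => by ring, ← Finset.mul_sum,
    sum_twist hDZ l hl η]
  split_ifs <;> ring

variable {p : ℕ} [hp : Fact p.Prime] {M : Ideal AlgInt} [M.IsMaximal]

/-- The coset of `g` modulo `D` contains a `p`-regular element. -/
def InSection (p : ℕ) (D : Subgroup G) (g : G) : Prop := ∃ u ∈ D, IsPRegular p (g * u)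

theorem inSection_mul_iff {g u : G} (hu : u ∈ D) : InSection p D (g * u) ↔ InSection p D g :=
  ⟨fun ⟨v, hv, h⟩ => ⟨u * v, mul_mem hu hv, by rwa [← mul_assoc]⟩,
    fun ⟨v, hv, h⟩ => ⟨u⁻¹ * v, mul_mem (inv_mem hu) hv, by
      rwa [mul_assoc, mul_inv_cancel_left]⟩⟩

theorem inSection_conj (hDZ : D ≤ Subgroup.center G) (g c : G) :
    InSection p D (c * g * c⁻¹) ↔ InSection p D g := by
  have key : ∀ a d : G, InSection p D a → InSection p D (d * a * d⁻¹) := by
    rintro a d ⟨u, hu, h⟩
    refine ⟨u, hu, ?_⟩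
    have e : d * a * d⁻¹ * u = MulAut.conj d (a * u) := by
      rw [MulAut.conj_apply]
      calc d * a * d⁻¹ * u = d * a * (d⁻¹ * u) := by group
        _ = d * a * (u * d⁻¹) := by rw [Subgroup.mem_center_iff.1 (hDZ hu) d⁻¹]
        _ = _ := by group
    rwa [IsPRegular, e, MulEquiv.orderOf_eq]
  refine ⟨fun h => ?_, key g c⟩
  simpa [mul_assoc] using key _ c⁻¹ h

theorem eq_one_of_regular_mul (hDZ : D ≤ Subgroup.center G) (hD : IsPGroup p D) {g u : G}
    (hg : IsPRegular p g) (hu : u ∈ D) (hgu : IsPRegular p (g * u)) : u = 1 := by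
  obtain ⟨k, hk⟩ := IsPGroup.iff_orderOf.1 hD ⟨u, hu⟩
  exact (isPRegular_mul_iff (Subgroup.mem_center_iff.1 (hDZ hu) g) hg
    ⟨k, by rw [← hk, ← Subgroup.orderOf_coe]⟩).1 hgu

theorem not_inSection_of_pPart (hDZ : D ≤ Subgroup.center G) (hD : IsPGroup p D) {g x : G}
    (hx : IsPPart p g x) (hxD : x ∉ D) : ¬ InSection p D g := by
  rintro ⟨u, hu, h⟩
  obtain ⟨k, hk⟩ := IsPGroup.iff_orderOf.1 hD ⟨u⁻¹, inv_mem hu⟩
  have h' : IsPPart p g u⁻¹ := by
    have := isPPart_mul (x := u⁻¹) (s := g * u)
      ((Subgroup.mem_center_iff.1 (hDZ (inv_mem hu)) _).symm)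
      ⟨k, by rw [← hk, ← Subgroup.orderOf_coe]⟩ h
    rwa [show u⁻¹ * (g * u) = g from by
      rw [← Subgroup.mem_center_iff.1 (hDZ (inv_mem hu)) (g * u), mul_inv_cancel_right]] at this
  exact hxD (IsPPart.unique hx h' ▸ inv_mem hu)

/-- The value at an element of small class defect lies in `M`. -/
theorem memLocalIdeal_of_index_lt (hpM : (p : AlgInt) ∈ M) (χ : IrrCharacter G) {g : G}
    (h : (Subgroup.centralizer ({g} : Set G)).index.factorization p <
      (Char.degree χ).factorization p) : MemLocalIdeal M (χ.1 g) := by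
  have e : χ.1 g = centralChar χ.1 g *
      ((Char.degree χ : ℂ) / ((Subgroup.centralizer ({g} : Set G)).index : ℂ)) := by
    have hi : ((Subgroup.centralizer ({g} : Set G)).index : ℂ) ≠ 0 :=
      Nat.cast_ne_zero.2 Subgroup.index_ne_zero_of_finite
    have hd : (Char.degree χ : ℂ) ≠ 0 := Nat.cast_ne_zero.2 (Char.degree_pos χ).ne'
    rw [centralChar, Char.apply_one_eq_degree]
    field_simp
  rw [e]
  exact MemLocalIdeal.mul_left (memLocalRing_centralChar χ g)
    (memLocalIdeal_natCast_div hpM (Char.degree_pos χ).ne' Subgroup.index_ne_zero_of_finite h)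

theorem memLocalIdeal_of_centralizer_gt (hpM : (p : AlgInt) ∈ M) (χ : IrrCharacter G)
    (hdeg : (Char.degree χ).factorization p = D.index.factorization p) {g : G}
    (h : (Nat.card D).factorization p <
      (Nat.card (Subgroup.centralizer ({g} : Set G))).factorization p) :
    MemLocalIdeal M (χ.1 g) := by
  refine memLocalIdeal_of_index_lt hpM χ ?_
  have h1 := factorization_index (p := p) (Subgroup.centralizer ({g} : Set G))
  have h2 := factorization_index (p := p) D
  omega

theorem memLocalIdeal_of_not_inSection (hpM : (p : AlgInt) ∈ M) (hDZ : D ≤ Subgroup.center G)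
    (hD : IsPGroup p D) (χ : IrrCharacter G)
    (hdeg : (Char.degree χ).factorization p = D.index.factorization p) {g : G}
    (hg : ¬ InSection p D g) : MemLocalIdeal M (χ.1 g) := by
  obtain ⟨x, hx⟩ := exists_isPPart (p := p) g
  obtain ⟨y, hxy, hc, hxo, hy⟩ := hx
  refine memLocalIdeal_of_pPart hpM (Char.irr_isCharacter χ) hxy hc hxo
    (memLocalIdeal_of_centralizer_gt hpM χ hdeg ?_)
  have hxD : x ∉ D := fun h => hg ⟨x⁻¹, inv_mem h, by
    rw [← hxy, show x * y * x⁻¹ = y by rw [hc.eq, mul_inv_cancel_right]]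
    exact hy⟩
  haveI := normal_of_le_center hDZ
  obtain ⟨k, hk⟩ := hxo
  have hxp : IsPGroup p (Subgroup.zpowers x) :=
    IsPGroup.of_card (n := k) (by rw [Nat.card_zpowers, hk])
  have hQ := IsPGroup.to_sup_of_normal_left hD hxp
  have hQle : D ⊔ Subgroup.zpowers x ≤ Subgroup.centralizer ({y} : Set G) :=
    sup_le (fun u hu => Subgroup.mem_centralizer_singleton_iff.2
        (Subgroup.mem_center_iff.1 (hDZ hu) y).symm)
      (Subgroup.zpowers_le.2 (Subgroup.mem_centralizer_singleton_iff.2 hc.eq))
  obtain ⟨a, ha⟩ := IsPGroup.iff_card.1 hQ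
  obtain ⟨b, hb⟩ := IsPGroup.iff_card.1 hD
  have hlt : b < a := by
    by_contra hle
    refine hxD ?_
    have := Subgroup.eq_of_le_of_card_ge (le_sup_left : D ≤ D ⊔ Subgroup.zpowers x)
      (by rw [ha, hb]; exact Nat.pow_le_pow_right hp.out.pos (not_lt.1 hle))
    exact this ▸ Subgroup.mem_sup_right (Subgroup.mem_zpowers x)
  have := (hp.out.pow_dvd_iff_le_factorization Nat.card_pos.ne').1
    (ha ▸ Subgroup.card_dvd_of_le hQle)
  rw [hb, hp.out.factorization_pow, Finsupp.single_eq_same]
  omega

/-- In a block there is at most one character of maximal degree over each character of `D`. -/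
theorem eq_of_sameBlock_of_maxDegree (hpM : (p : AlgInt) ∈ M) (hDZ : D ≤ Subgroup.center G)
    (hD : IsPGroup p D) {χ η : IrrCharacter G}
    (hdeg : (Char.degree χ).factorization p = D.index.factorization p)
    (hsame : SameBlock M χ.1 η.1) (hover : Over D (centScalar χ.1) η.1) : η = χ := by
  classical
  haveI := Fintype.ofFinite G
  haveI := Fintype.ofFinite D
  haveI := normal_of_le_center hDZ
  haveI := Fintype.ofFinite (G ⧸ D)
  by_contra hne
  set k : ℂ := ((Char.degree χ * Nat.card D : ℕ) : ℂ) / (Nat.card G : ℕ) with hk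
  have hkS : MemLocalRing M k := by
    refine memLocalRing_natCast_div hpM (mul_ne_zero (Char.degree_pos χ).ne' Nat.card_pos.ne')
      Nat.card_pos.ne' ?_
    rw [Nat.factorization_mul (Char.degree_pos χ).ne' Nat.card_pos.ne', Finsupp.add_apply, hdeg]
    have := factorization_index (p := p) D
    omega
  have hint : ∀ g, MemLocalRing M (conj (χ.1 g)) := fun g => by
    rw [Char.IsCharacter.conj_apply (Char.irr_isCharacter χ)]
    exact memLocalRing_of_isIntegral (CharInt.isIntegral_char (Char.irr_isCharacter χ) _)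
  set a : G → ℂ := fun g => if IsPRegular p g then k * conj (χ.1 g) else 0 with ha
  have hac : IsCentralElt (ofFun a) := isCentralElt_ofFun fun g c => by
    have e : IsPRegular p (c * g * c⁻¹) ↔ IsPRegular p g := by
      rw [IsPRegular, IsPRegular, show c * g * c⁻¹ = MulAut.conj c g from rfl, MulEquiv.orderOf_eq]
    simp only [ha, irr_classFun χ g c, e]
  have haS : SCoeff M (ofFun a) := scoeff_ofFun fun g => by
    simp only [ha]
    split_ifs
    exacts [MemLocalRing.mul hkS (hint g), memLocalRing_zero]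
  set f : G → ℂ := fun g => if InSection p D g then 0 else conj (χ.1 g) with hf
  have hfc : IsCentralElt (ofFun f) := isCentralElt_ofFun fun g c => by
    simp only [hf, irr_classFun χ g c, inSection_conj hDZ]
  have hconjmem : ∀ g, ¬ InSection p D g → MemLocalIdeal M (conj (χ.1 g)) := fun g hg => by
    rw [Char.IsCharacter.conj_apply (Char.irr_isCharacter χ)]
    refine memLocalIdeal_of_not_inSection hpM hDZ hD χ hdeg fun ⟨u, hu, h⟩ => hg ⟨u⁻¹, inv_mem hu, ?_⟩
    rwa [IsPRegular, ← orderOf_inv, mul_inv_rev, inv_inv,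
      ← Subgroup.mem_center_iff.1 (hDZ (inv_mem hu)) g] at h
  let c : G → AlgInt := fun g =>
    if ¬ InSection p D g ∧ ((g : G ⧸ D).out) = g then
      algIntMk (conj (χ.1 g)) (by
        rw [Char.IsCharacter.conj_apply (Char.irr_isCharacter χ)]
        exact CharInt.isIntegral_char (Char.irr_isCharacter χ) _)
    else 0
  have hcM : ∀ g, c g ∈ M := fun g => by
    simp only [c]
    split_ifs with h
    · exact (memLocalIdeal_coe_iff (M := M) _).1 (hconjmem g h.1)
    · exact M.zero_mem
  have key : ∀ ξ : IrrCharacter G, Over D (centScalar χ.1) ξ.1 →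
      MemLocalIdeal M (omega ξ.1 (ofFun a) - if ξ = χ then 1 else 0) := by
    intro ξ hξ
    obtain ⟨n, ρ, hρ, he⟩ := ξ.2
    haveI := hρ
    haveI := Char.nontrivial_of_isIrreducible ρ
    have hρu : ∀ u ∈ D, ρ u = centScalar χ.1 u • (1 : Module.End ℂ (Fin n → ℂ)) := fun u hu => by
      have := exists_eq_omega_smul ρ (isCentralElt_single_of_mem_center (hDZ hu))
      rwa [he, omega_single_eq, hξ u hu, Representation.asAlgebraHom_single, one_smul] at this
    have hinv : ∀ g, f g • ρ g = f ((g : G ⧸ D).out) • ρ ((g : G ⧸ D).out) := by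
      intro g
      obtain ⟨u, hu⟩ := QuotientGroup.mk_out_eq_mul D g
      rw [hu]
      simp only [hf, inSection_mul_iff u.2, apply_mul_central χ (hDZ u.2), map_mul, map_mul,
        hρu u u.2, mul_smul_comm, mul_one]
      split_ifs
      · simp
      · rw [smul_smul]
        congr 1
        calc conj (χ.1 g) = (centScalar χ.1 (u : G) * conj (centScalar χ.1 (u : G))) * conj (χ.1 g) := by
              rw [centScalar_mul_conj χ (hDZ u.2), one_mul]
          _ = _ := by ring
    have hzz : ρ.asAlgebraHom (ofFun f) =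
        (Nat.card D : ℂ) • ρ.asAlgebraHom (ofFun fun g => (c g : ℂ)) := by
      simp only [asAlgebraHom_eq_opSum, Char.opSum, coeff_ofFun]
      rw [Finset.sum_congr rfl fun g _ => hinv g]
      have e1 : ∑ g : G, f ((g : G ⧸ D).out) • ρ ((g : G ⧸ D).out) =
          (Nat.card D : ℂ) • ∑ q : G ⧸ D, f q.out • ρ q.out := by
        rw [← Finset.sum_fiberwise (Finset.univ : Finset G) (fun g : G => (g : G ⧸ D))
          (fun g => f ((g : G ⧸ D).out) • ρ ((g : G ⧸ D).out)), Finset.smul_sum]
        refine Finset.sum_congr rfl fun q _ => ?_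
        rw [Finset.sum_congr rfl (g := fun _ => f q.out • ρ q.out)
            (fun g hg => by rw [(Finset.mem_filter.1 hg).2]),
          Finset.sum_const, Nat.cast_smul_eq_nsmul ℂ]
        congr 1
        rw [Nat.card_eq_fintype_card, ← Finset.card_univ]
        refine Finset.card_bij' (fun g hg => (⟨q.out⁻¹ * g, ?_⟩ : D)) (fun u _ => q.out * (u : G))
          ?_ ?_ ?_ ?_
        · rw [← QuotientGroup.eq, QuotientGroup.out_eq', (Finset.mem_filter.1 hg).2]
        · intro g _; exact Finset.mem_univ _
        · intro u _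
          simp [QuotientGroup.out_eq', (QuotientGroup.eq_one_iff (u : G)).2 u.2]
        · intro g _; simp
        · intro u _; ext; simp
      rw [e1]
      congr 1
      symm
      rw [← Finset.sum_subset (Finset.subset_univ
        ((Finset.univ : Finset (G ⧸ D)).image fun q => q.out)) fun g _ hg => ?_,
        Finset.sum_image (g := fun q : G ⧸ D => q.out) fun q _ q' _ h => Quotient.out_inj.1 h]
      · refine Finset.sum_congr rfl fun q _ => ?_
        simp only [c, hf, QuotientGroup.out_eq', and_true]
        split_ifs <;> simp_all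
      · have : (g : G ⧸ D).out ≠ g := fun h => hg (Finset.mem_image.2 ⟨_, Finset.mem_univ _, h⟩)
        simp [c, this]
    have hcard : (Nat.card D : ℂ) ≠ 0 := Nat.cast_ne_zero.2 Nat.card_pos.ne'
    have hs : ρ.asAlgebraHom (ofFun fun g => (c g : ℂ)) =
        ((Nat.card D : ℂ)⁻¹ * omega ξ.1 (ofFun f)) • (1 : Module.End ℂ (Fin n → ℂ)) := by
      rw [mul_smul, ← he, ← exists_eq_omega_smul ρ hfc, hzz, inv_smul_smul₀ hcard]
    have hsM := MemLocalIdeal.mul_left hkS (memLocalIdeal_scalar ρ c hcM hs)
    have hcentre : ∀ u ∈ D, centScalar ξ.1 u * conj (centScalar χ.1 u) = 1 := fun u hu => by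
      rw [hξ u hu, centScalar_mul_conj χ (hDZ hu)]
    have hsplit : (∑ g ∈ Finset.univ.filter (InSection p D), ξ.1 g * conj (χ.1 g)) =
        (Nat.card D : ℂ) * ∑ g ∈ Finset.univ.filter (IsPRegular p), ξ.1 g * conj (χ.1 g) := by
      have hbij : ∑ r ∈ (Finset.univ.filter (IsPRegular p : G → Prop)) ×ˢ (Finset.univ : Finset D),
          ξ.1 (r.1 * r.2) * conj (χ.1 (r.1 * r.2)) =
          ∑ g ∈ Finset.univ.filter (InSection p D), ξ.1 g * conj (χ.1 g) := by
        refine Finset.sum_nbij (fun r => r.1 * (r.2 : G)) (fun r hr => ?_) ?_ ?_ (fun _ _ => rfl)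
        · simp only [Finset.mem_product, Finset.mem_filter, Finset.mem_univ, true_and, and_true] at hr
          refine Finset.mem_filter.2 ⟨Finset.mem_univ _, (r.2 : G)⁻¹, inv_mem r.2.2, ?_⟩
          rwa [mul_inv_cancel_right]
        · rintro ⟨x, u⟩ hx ⟨y, v⟩ hy h
          simp only [Finset.coe_product, Finset.coe_filter, Finset.coe_univ, Set.mem_prod,
            Finset.mem_univ, true_and, Set.mem_ofPred_eq, Set.mem_univ, and_true] at hx hy
          simp only at h
          have e : x * ((u : G) * (v : G)⁻¹) = y := by rw [← mul_assoc, h, mul_inv_cancel_right]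
          have h1 := eq_one_of_regular_mul hDZ hD hx (mul_mem u.2 (inv_mem v.2)) (by rwa [e])
          rw [h1, mul_one] at e
          exact Prod.ext e (Subtype.ext (mul_inv_eq_one.1 h1))
        · intro g hg
          simp only [Finset.coe_filter, Finset.mem_univ, true_and, Set.mem_ofPred_eq] at hg
          obtain ⟨u, hu, h⟩ := hg
          exact ⟨(g * u, ⟨u⁻¹, inv_mem hu⟩), by simp [h], by simp⟩
      rw [← hbij, Finset.sum_product, Finset.mul_sum]
      refine Finset.sum_congr rfl fun g _ => ?_
      rw [Finset.sum_congr rfl (g := fun _ => ξ.1 g * conj (χ.1 g)) fun u _ => by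
          rw [apply_mul_central ξ (hDZ u.2), apply_mul_central χ (hDZ u.2), map_mul]
          linear_combination (ξ.1 g * conj (χ.1 g)) * hcentre u u.2,
        Finset.sum_const, Finset.card_univ, nsmul_eq_mul, Nat.card_eq_fintype_card]
    have horth : ∑ g, ξ.1 g * conj (χ.1 g) = (Nat.card G : ℂ) * if ξ = χ then 1 else 0 := by
      have := Char.classInner_irr ξ χ
      rwa [classInner, inv_mul_eq_iff_eq_mul₀ Char.card_ne_zero] at this
    have hom1 : omega ξ.1 (ofFun a) =
        k * (∑ g ∈ Finset.univ.filter (IsPRegular p), ξ.1 g * conj (χ.1 g)) / ξ.1 1 := by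
      rw [omega_ofFun, Finset.mul_sum, Finset.sum_filter]
      congr 1
      exact Finset.sum_congr rfl fun g _ => by simp only [ha]; split_ifs <;> ring
    have hom2 : omega ξ.1 (ofFun f) =
        (∑ g ∈ Finset.univ.filter (¬ InSection p D ·), ξ.1 g * conj (χ.1 g)) / ξ.1 1 := by
      rw [omega_ofFun, Finset.sum_filter]
      congr 1
      exact Finset.sum_congr rfl fun g _ => by simp only [hf]; split_ifs <;> ring
    have htot : omega ξ.1 (ofFun a) + k * ((Nat.card D : ℂ)⁻¹ * omega ξ.1 (ofFun f)) =
        if ξ = χ then 1 else 0 := by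
      rw [← Finset.sum_filter_add_sum_filter_not Finset.univ (InSection p D), hsplit] at horth
      have hG : (Nat.card G : ℂ) ≠ 0 := Char.card_ne_zero
      have hx1 := irr_one_ne_zero ξ
      have hdχ : χ.1 1 = (Char.degree χ : ℂ) := Char.apply_one_eq_degree χ
      rw [hom1, hom2, hk, Nat.cast_mul, ← hdχ]
      field_simp
      by_cases hξχ : ξ = χ
      · subst hξχ
        simp only [if_true, mul_one] at horth ⊢
        linear_combination (ξ.1 1) * horth
      · simp only [if_neg hξχ, mul_zero] at horth ⊢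
        linear_combination (χ.1 1) * horth
    rw [← htot, sub_add_cancel_left]
    exact MemLocalIdeal.neg hsM
  refine not_memLocalIdeal_one (M := M) ?_
  have h1 := key χ fun u _ => rfl
  have h2 := key η hover
  rw [if_pos rfl] at h1
  rw [if_neg hne, sub_zero] at h2
  have h3 := SameBlock.omega_sub hsame hac haS
  have := MemLocalIdeal.sub (MemLocalIdeal.add h3 h2) h1
  simpa using this

open Classical in
theorem twist_maxDegree (hpM : (p : AlgInt) ∈ M) (hDZ : D ≤ Subgroup.center G) (hD : IsPGroup p D)
    [Fintype D] (χ : IrrCharacter G)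
    (hdeg : (Char.degree χ).factorization p = D.index.factorization p) (g : G) :
    ∑ u : D, centScalar χ.1 (u : G) * blockCoeff (blockOf M χ.1) (g * u) =
      (Nat.card G : ℂ)⁻¹ * (Nat.card D : ℂ) * (χ.1 1 * conj (χ.1 g)) := by
  rw [sum_twist_blockCoeff hDZ _ (fun u hu v hv => centScalar_mul χ (hDZ hu) (hDZ hv))]
  congr 1
  refine Finset.sum_eq_single_of_mem χ ?_ fun η hη hne => ?_
  · exact Finset.mem_filter.2 ⟨Finset.mem_univ _, mem_blockOf_self χ, fun u _ => rfl⟩
  · exact absurd (eq_of_sameBlock_of_maxDegree hpM hDZ hD hdeg (Finset.mem_filter.1 hη).2.1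
      (Finset.mem_filter.1 hη).2.2) hne

/-- Vanishing off the elements with `p`-part in `D`. -/
theorem vanish_of_not_inSection (hpM : (p : AlgInt) ∈ M) (hDZ : D ≤ Subgroup.center G)
    (hD : IsPGroup p D) (χ : IrrCharacter G)
    (hdeg : (Char.degree χ).factorization p = D.index.factorization p) {g : G}
    (hg : ¬ InSection p D g) : χ.1 g = 0 := by
  haveI := Fintype.ofFinite D
  have h := twist_maxDegree hpM hDZ hD χ hdeg g
  rw [Finset.sum_eq_zero fun u _ => by
    rw [blockCoeff_eq_zero hpM (isPBlock_blockOf χ) fun hr => hg ⟨u, u.2, hr⟩, mul_zero]] at h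
  simpa [Nat.card_pos.ne', irr_one_ne_zero χ] using h.symm

theorem isDefectGroup_central (hpM : (p : AlgInt) ∈ M) (hDZ : D ≤ Subgroup.center G)
    (hD : IsPGroup p D) (χ : IrrCharacter G)
    (hdeg : (Char.degree χ).factorization p = D.index.factorization p) :
    IsDefectGroup p M (blockOf M χ.1) D := by
  haveI := Fintype.ofFinite D
  haveI := normal_of_le_center hDZ
  have hB := isPBlock_blockOf (M := M) χ
  obtain ⟨D0, hD0⟩ := exists_defectGroup (p := p) hB
  have hle : D ≤ D0 := normal_le_defectGroup hpM hB hD hD0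
  obtain ⟨h, hh, hhD⟩ := isDefectGroup_iff.1 hD0
  obtain ⟨j, hj⟩ := IsPGroup.iff_card.1 hD
  suffices hcle : (Nat.card (Subgroup.centralizer ({h} : Set G))).factorization p ≤
      (Nat.card D).factorization p by
    rw [Subgroup.eq_of_le_of_card_ge hle ?_]
    · exact hD0
    · rw [hhD.2, hj]
      rw [hj, hp.out.factorization_pow, Finsupp.single_eq_same] at hcle
      exact Nat.pow_le_pow_right hp.out.pos hcle
  by_contra hlt
  refine hh.2.1 ?_
  have hreg := IsDefectClass.isPRegular hpM hB hh
  have h1 := twist_maxDegree hpM hDZ hD χ hdeg h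
  rw [Finset.sum_eq_single (1 : D) (fun u _ hu => by
      rw [blockCoeff_eq_zero hpM hB fun hr =>
        hu (Subtype.ext (eq_one_of_regular_mul hDZ hD hreg u.2 hr)), mul_zero])
    (fun hn => absurd (Finset.mem_univ _) hn)] at h1
  rw [Subgroup.coe_one, centScalar_one, mul_one, one_mul] at h1
  have hcent : Subgroup.centralizer ({h⁻¹} : Set G) = Subgroup.centralizer ({h} : Set G) := by
    ext x
    simp only [Subgroup.mem_centralizer_singleton_iff]
    exact Commute.inv_right_iff
  rw [h1, ← mul_assoc, Char.IsCharacter.conj_apply (Char.irr_isCharacter χ),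
    Char.apply_one_eq_degree, show (Nat.card G : ℂ)⁻¹ * (Nat.card D : ℂ) * (Char.degree χ : ℂ) =
      ((Char.degree χ * Nat.card D : ℕ) : ℂ) / (Nat.card G : ℕ) by push_cast; ring]
  refine MemLocalIdeal.mul_left ?_
    (memLocalIdeal_of_centralizer_gt hpM χ hdeg (by rw [hcent]; exact not_le.1 hlt))
  refine memLocalRing_natCast_div hpM (mul_ne_zero (Char.degree_pos χ).ne' Nat.card_pos.ne')
    Nat.card_pos.ne' ?_
  rw [Nat.factorization_mul (Char.degree_pos χ).ne' Nat.card_pos.ne', Finsupp.add_apply, hdeg]
  have := factorization_index (p := p) D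
  omega

/-- In a block with central defect group all degrees have maximal `p`-part. -/
theorem degree_eq_of_defectGroup (hpM : (p : AlgInt) ∈ M) (hDZ : D ≤ Subgroup.center G)
    {B : Set (IrrCharacter G)} (hB : IsPBlock M B) (hBD : IsDefectGroup p M B D)
    {η : IrrCharacter G} (hη : η ∈ B) :
    (Char.degree η).factorization p = D.index.factorization p := by
  obtain ⟨h, hh, hhD⟩ := isDefectGroup_iff.1 hBD
  have h1 := factorization_index_le_degree hpM η (hh.2.2 η hη)
  have h2 := factorization_index (p := p) (Subgroup.centralizer ({h} : Set G))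
  have h3 := factorization_index (p := p) D
  rw [hhD.2, hp.out.factorization_pow, Finsupp.single_eq_same] at h3
  refine le_antisymm ?_ (by omega)
  obtain ⟨n, ρ, hρ, he⟩ := η.2
  haveI := hρ
  have hdvd := Char.finrank_dvd_index_of_scalar ρ D fun z hz => by
    have := exists_eq_omega_smul ρ (isCentralElt_single_of_mem_center (hDZ hz))
    rw [Representation.asAlgebraHom_single, one_smul] at this
    exact ⟨_, this⟩
  have hn : Char.degree η = n := by
    have := Char.apply_one_eq_degree η
    rw [← he, Representation.char_one, Module.finrank_fin_fun] at this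
    exact_mod_cast this.symm
  rw [Module.finrank_fin_fun, ← hn] at hdvd
  exact (Nat.factorization_le_iff_dvd (Char.degree_pos η).ne' Subgroup.index_ne_zero_of_finite).2
    hdvd p

/-- Every linear function on `D` occurs in a block with central defect group. -/
theorem exists_over_of_defectGroup (hpM : (p : AlgInt) ∈ M) (hDZ : D ≤ Subgroup.center G)
    {B : Set (IrrCharacter G)} (hB : IsPBlock M B) (hBD : IsDefectGroup p M B D) (l : G → ℂ)
    (hl : ∀ u ∈ D, ∀ v ∈ D, l (u * v) = l u * l v) (hl1 : l 1 = 1) :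
    ∃ η ∈ B, Over D l η.1 := by
  classical
  haveI := Fintype.ofFinite D
  obtain ⟨h, hh, hhD⟩ := isDefectGroup_iff.1 hBD
  have hreg := IsDefectClass.isPRegular hpM hB hh
  have h1 := sum_twist_blockCoeff hDZ l hl B h
  rw [Finset.sum_eq_single (1 : D) (fun u _ hu => by
      rw [blockCoeff_eq_zero hpM hB fun hr =>
        hu (Subtype.ext (eq_one_of_regular_mul hDZ (SylIn.isPGroup hhD) hreg u.2 hr)), mul_zero])
    (fun hn => absurd (Finset.mem_univ _) hn), Subgroup.coe_one, hl1, mul_one, one_mul] at h1
  by_contra hno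
  push Not at hno
  refine hh.2.1 ?_
  rw [h1, Finset.sum_eq_zero, mul_zero]
  · exact memLocalIdeal_zero
  · intro η hη
    exact absurd (Finset.mem_filter.1 hη).2.2 (hno η (Finset.mem_filter.1 hη).2.1)

end Cfsg.Agent.BlocksX
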