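import Cfsg.Agent.Lib.BlocksX.Central
import Cfsg.Agent.Lib.BlocksX.Normal
import Cfsg.Agent.Lib.Char.Product
import Mathlib.GroupTheory.NoncommCoprod

/-!
# Blocks with defect group `P` in a group `P C_G(P)`
-/

set_option linter.style.haveILetI false
set_option linter.unusedSectionVars false

namespace Cfsg.Agent.BlocksX

open Cfsg MonoidAlgebra Cfsg.Agent.Blocks
open scoped ComplexConjugate

universe u

variable {G : Type u} [Group G] [Finite G] {P : Subgroup G}

theorem normal_of_sup_centralizer (hG : P ⊔ Subgroup.centralizer (P : Set G) = ⊤) : P.Normal := by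
  rw [← Subgroup.normalizer_eq_top_iff, ← top_le_iff, ← hG]
  exact sup_le Subgroup.le_normalizer (Subgroup.centralizer_le_normalizer (P : Set G))

theorem index_centralizer_dvd_card [P.Normal]
    (hG : P ⊔ Subgroup.centralizer (P : Set G) = ⊤) :
    (Subgroup.centralizer (P : Set G)).index ∣ Nat.card P := by
  rw [← Subgroup.relIndex_top_right, ← hG, Subgroup.relIndex_sup_right]
  exact Subgroup.index_dvd_card _

theorem index_subgroupOf_centralizer [P.Normal]
    (hG : P ⊔ Subgroup.centralizer (P : Set G) = ⊤) :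
    (P.subgroupOf (Subgroup.centralizer (P : Set G))).index = P.index := by
  show P.relIndex _ = _
  rw [← Subgroup.relIndex_top_right P, ← hG, Subgroup.relIndex_sup_left]

theorem subgroupOf_le_center : P.subgroupOf (Subgroup.centralizer (P : Set G)) ≤
    Subgroup.center (Subgroup.centralizer (P : Set G)) := fun z hz =>
  Subgroup.mem_center_iff.2 fun c =>
    Subtype.ext ((Subgroup.mem_centralizer_iff.1 c.2 (z : G) hz).symm)

/-- The multiplication map `P × C_G(P) →* G`. -/
noncomputable def mulHomC (P : Subgroup G) : P × Subgroup.centralizer (P : Set G) →* G :=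
  MonoidHom.noncommCoprod P.subtype (Subgroup.centralizer (P : Set G)).subtype
    fun u c => Subgroup.mem_centralizer_iff.1 c.2 u u.2

theorem mulHomC_apply (x : P × Subgroup.centralizer (P : Set G)) :
    mulHomC P x = (x.1 : G) * (x.2 : G) := rfl

theorem mulHomC_surjective [P.Normal] (hG : P ⊔ Subgroup.centralizer (P : Set G) = ⊤) :
    Function.Surjective (mulHomC P) := fun g => by
  obtain ⟨u, hu, c, hc, he⟩ := Subgroup.mem_sup_of_normal_left.1
    (hG.symm ▸ Subgroup.mem_top g : g ∈ P ⊔ Subgroup.centralizer (P : Set G))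
  exact ⟨(⟨u, hu⟩, ⟨c, hc⟩), he⟩

theorem index_centralizer_coe [P.Normal] (hG : P ⊔ Subgroup.centralizer (P : Set G) = ⊤)
    (c : Subgroup.centralizer (P : Set G)) :
    (Subgroup.centralizer ({(c : G)} : Set G)).index =
      (Subgroup.centralizer ({c} : Set (Subgroup.centralizer (P : Set G)))).index := by
  rw [← card_isConj_eq_index, ← card_isConj_eq_index]
  refine (Nat.card_congr (Equiv.ofBijective
    (fun x : {x : Subgroup.centralizer (P : Set G) // IsConj c x} =>
      (⟨(x.1 : G), (Subgroup.centralizer (P : Set G)).subtype.map_isConj x.2⟩ :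
        {x : G // IsConj (c : G) x})) ⟨?_, ?_⟩)).symm
  · intro x y h
    exact Subtype.ext (Subtype.ext (congrArg (fun z : {x : G // IsConj (c : G) x} => z.1) h))
  · rintro ⟨y, hy⟩
    obtain ⟨g, rfl⟩ := isConj_iff.1 hy
    obtain ⟨⟨u, d⟩, rfl⟩ := mulHomC_surjective hG g
    refine ⟨⟨d * c * d⁻¹, isConj_iff.2 ⟨d, rfl⟩⟩, Subtype.ext ?_⟩
    have hu : Commute (u : G) ((d * c * d⁻¹ : Subgroup.centralizer (P : Set G)) : G) :=
      Subgroup.mem_centralizer_iff.1 (d * c * d⁻¹).2 u u.2
    simp only [mulHomC_apply, Subgroup.coe_mul, Subgroup.coe_inv] at hu ⊢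
    rw [mul_inv_rev]
    calc (d : G) * (c : G) * (d : G)⁻¹ = (u : G) * ((d : G) * (c : G) * (d : G)⁻¹) * (u : G)⁻¹ := by
          rw [hu.eq, mul_inv_cancel_right]
      _ = _ := by group

/-- The components of an irreducible character on the central product. -/
theorem exists_components [P.Normal] (hG : P ⊔ Subgroup.centralizer (P : Set G) = ⊤)
    (χ : IrrCharacter G) : ∃ (φ : IrrCharacter P) (ψ : IrrCharacter (Subgroup.centralizer (P : Set G))),
      ∀ (u : P) (c : Subgroup.centralizer (P : Set G)), χ.1 ((u : G) * c) = φ.1 u * ψ.1 c := by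
  obtain ⟨φ, ψ, hφ, hψ, he⟩ := Char.exists_eq_prod_mul
    (Char.IsIrrCharacter.comp_surjective χ.2 (mulHomC P) (mulHomC_surjective hG))
  exact ⟨⟨φ, hφ⟩, ⟨ψ, hψ⟩, fun u c => congrFun he (u, c)⟩

theorem centralChar_of_components [P.Normal] (hG : P ⊔ Subgroup.centralizer (P : Set G) = ⊤)
    {χ : IrrCharacter G} {φ : IrrCharacter P} {ψ : IrrCharacter (Subgroup.centralizer (P : Set G))}
    (h : ∀ (u : P) (c : Subgroup.centralizer (P : Set G)), χ.1 ((u : G) * c) = φ.1 u * ψ.1 c)
    (c : Subgroup.centralizer (P : Set G)) :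
    centralChar χ.1 (c : G) = centralChar ψ.1 c := by
  have h1 := h 1 c
  have h2 := h 1 1
  simp only [Subgroup.coe_one, one_mul] at h1 h2
  rw [centralChar, centralChar, index_centralizer_coe hG c, h1, h2, mul_left_comm,
    mul_div_mul_left _ _ (irr_one_ne_zero φ)]

theorem over_of_components
    {χ : IrrCharacter G} {φ : IrrCharacter P} {ψ : IrrCharacter (Subgroup.centralizer (P : Set G))}
    (h : ∀ (u : P) (c : Subgroup.centralizer (P : Set G)), χ.1 ((u : G) * c) = φ.1 u * ψ.1 c)
    (z : Subgroup.centralizer (P : Set G)) (hz : (z : G) ∈ P) :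
    centScalar ψ.1 z = centScalar φ.1 (⟨z, hz⟩ : P) := by
  have h1 := h ⟨z, hz⟩ 1
  have h2 := h 1 z
  simp only [Subgroup.coe_one, one_mul, mul_one] at h1 h2
  rw [h1] at h2
  rw [centScalar, centScalar, div_eq_div_iff (irr_one_ne_zero ψ) (irr_one_ne_zero φ)]
  linear_combination -h2

variable {p : ℕ} [hp : Fact p.Prime] {M : Ideal AlgInt} [M.IsMaximal]

theorem exists_pow_index_centralizer [P.Normal] (hP : IsPGroup p P)
    (hG : P ⊔ Subgroup.centralizer (P : Set G) = ⊤) :
    ∃ k : ℕ, (Subgroup.centralizer (P : Set G)).index = p ^ k := by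
  obtain ⟨n, hn⟩ := IsPGroup.iff_card.1 hP
  obtain ⟨k, -, hk⟩ := (Nat.dvd_prime_pow hp.out).1 (hn ▸ index_centralizer_dvd_card hG)
  exact ⟨k, hk⟩

variable {B : Set (IrrCharacter G)}

theorem degree_of_trivOn (hpM : (p : AlgInt) ∈ M) [P.Normal]
    (hB : IsPBlock M B) (hD : IsDefectGroup p M B P) {θ : IrrCharacter G}
    (hθ : θ ∈ B) (ht : Char.TrivOn P θ.1) :
    (Char.degree θ).factorization p = P.index.factorization p ∧
      ∃ θ' : IrrCharacter (G ⧸ P), θ = Char.inflate P θ' ∧
        (Char.degree θ').factorization p = (Nat.card (G ⧸ P)).factorization p := by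
  obtain ⟨θ', hθ'⟩ := Char.exists_descend P θ ht
  have hd : Char.degree θ' = Char.degree θ := by
    rw [← Char.charDegree_eq_degree, ← Char.charDegree_eq_degree]
    unfold charDegree
    rw [← hθ' 1, QuotientGroup.mk_one]
  obtain ⟨h, hh, hhD⟩ := isDefectGroup_iff.1 hD
  have h1 := factorization_index_le_degree hpM θ (hh.2.2 θ hθ)
  have h2 := factorization_index (p := p) (Subgroup.centralizer ({h} : Set G))
  have h3 := factorization_index (p := p) P
  rw [hhD.2, hp.out.factorization_pow, Finsupp.single_eq_same] at h3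
  have h4 : (Char.degree θ).factorization p ≤ P.index.factorization p := by
    have hdvd := Char.charDegree_dvd_card θ'
    rw [Char.charDegree_eq_degree, hd] at hdvd
    exact (Nat.factorization_le_iff_dvd (Char.degree_pos θ).ne'
      Subgroup.index_ne_zero_of_finite).2 hdvd p
  have heq : (Char.degree θ).factorization p = P.index.factorization p := le_antisymm h4 (by omega)
  exact ⟨heq, θ', Subtype.ext (funext fun g => (hθ' g).symm), hd ▸ heq⟩

theorem existsUnique_trivOn (hpM : (p : AlgInt) ∈ M) [P.Normal] (hP : IsPGroup p P)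
    (hG : P ⊔ Subgroup.centralizer (P : Set G) = ⊤) (hB : IsPBlock M B)
    (hD : IsDefectGroup p M B P) : ∃! θ : IrrCharacter G, θ ∈ B ∧ Char.TrivOn P θ.1 := by
  have hC := exists_pow_index_centralizer hP hG
  obtain ⟨θ, hθ, ht⟩ := exists_trivOn_mem hpM hP hC hB
  refine ⟨θ, ⟨hθ, ht⟩, ?_⟩
  rintro η ⟨hη, htη⟩
  obtain ⟨-, θ', rfl, hdθ⟩ := degree_of_trivOn hpM hB hD hθ ht
  obtain ⟨-, η', rfl, -⟩ := degree_of_trivOn hpM hB hD hη htη
  have h := (sameBlock_inflate_iff hpM hP hC θ' η').2 (sameBlock_of_mem hB hθ hη)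
  have hmem : η' ∈ blockOf M θ'.1 := h
  rw [(blockOf_eq_singleton_iff hpM θ').2 hdθ, Set.mem_singleton_iff] at hmem
  rw [hmem]

theorem card_block_eq (hpM : (p : AlgInt) ∈ M) [P.Normal] (hP : IsPGroup p P)
    (hG : P ⊔ Subgroup.centralizer (P : Set G) = ⊤) (hB : IsPBlock M B)
    (hD : IsDefectGroup p M B P) : Nat.card B = Nat.card (ConjClasses P) := by
  classical
  rw [← Char.card_irr]
  haveI := Fintype.ofFinite G
  have hC := exists_pow_index_centralizer hP hG
  set D := P.subgroupOf (Subgroup.centralizer (P : Set G)) with hDdef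
  have hDZ : D ≤ Subgroup.center (Subgroup.centralizer (P : Set G)) := subgroupOf_le_center
  have hDp : IsPGroup p D := by
    refine hP.of_injective
      { toFun := fun z => ⟨((z : Subgroup.centralizer (P : Set G)) : G), z.2⟩
        map_one' := rfl
        map_mul' := fun _ _ => rfl } ?_
    intro a b h
    exact Subtype.ext (Subtype.ext (congrArg (fun w : P => (w : G)) h))
  -- the block of `C_G(P)`
  obtain ⟨θ, ⟨hθ, ht⟩, -⟩ := existsUnique_trivOn hpM hP hG hB hD
  obtain ⟨φ₀, ξ₀, h₀⟩ := exists_components hG θ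
  have hdeg₀ : (Char.degree ξ₀).factorization p = D.index.factorization p := by
    have hconst : ∀ u : P, φ₀.1 u = φ₀.1 1 := fun u => by
      have h1 := h₀ u 1
      have h2 := h₀ 1 1
      simp only [Subgroup.coe_one, mul_one] at h1 h2
      rw [ht u u.2, h2] at h1
      exact (mul_right_cancel₀ (irr_one_ne_zero ξ₀) h1).symm
    haveI := Fintype.ofFinite P
    have hone : φ₀.1 1 = 1 := by
      have h1 := Char.classInner_irr_self φ₀.2
      rw [classInner, Finset.sum_congr rfl fun u _ => by rw [hconst u], Finset.sum_const,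
        Finset.card_univ, nsmul_eq_mul, Char.apply_one_eq_degree, map_natCast,
        ← Nat.card_eq_fintype_card, ← mul_assoc, inv_mul_cancel₀ Char.card_ne_zero, one_mul] at h1
      have h2 : Char.degree φ₀ * Char.degree φ₀ = 1 := by exact_mod_cast h1
      rw [Char.apply_one_eq_degree, Nat.eq_one_of_mul_eq_one_right h2, Nat.cast_one]
    have hd : Char.degree ξ₀ = Char.degree θ := by
      have h2 := h₀ 1 1
      simp only [Subgroup.coe_one, mul_one] at h2
      rw [hone, one_mul, Char.apply_one_eq_degree, Char.apply_one_eq_degree] at h2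
      exact_mod_cast h2.symm
    rw [hd, (degree_of_trivOn hpM hB hD hθ ht).1, hDdef, index_subgroupOf_centralizer hG]
  have hb := isPBlock_blockOf (M := M) ξ₀
  have hbD := isDefectGroup_central hpM hDZ hDp ξ₀ hdeg₀
  -- components of members of `B`
  choose φ ψ hφψ using fun χ : B => exists_components hG (χ : IrrCharacter G)
  have hψb : ∀ χ : B, ψ χ ∈ blockOf M ξ₀.1 := fun χ c => by
    have h := sameBlock_of_mem hB hθ χ.2 (c : G)
    rwa [centralChar_of_components hG h₀, centralChar_of_components hG (hφψ χ)] at h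
  refine Nat.card_congr (Equiv.ofBijective φ ⟨fun χ χ' he => ?_, fun φ' => ?_⟩)
  · have hψ : ψ χ = ψ χ' := by
      have hdeg := degree_eq_of_defectGroup hpM hDZ hb hbD (hψb χ')
      refine eq_of_sameBlock_of_maxDegree hpM hDZ hDp hdeg
        (sameBlock_of_mem hb (hψb χ') (hψb χ)) fun z hz => ?_
      rw [over_of_components (hφψ χ) z hz, over_of_components (hφψ χ') z hz, he]
    refine Subtype.ext (Subtype.ext (funext fun g => ?_))
    obtain ⟨⟨u, c⟩, rfl⟩ := mulHomC_surjective hG g
    rw [mulHomC_apply, hφψ χ u c, hφψ χ' u c, he, hψ]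
  · have hcenter : ∀ z : Subgroup.centralizer (P : Set G), ∀ hz : (z : G) ∈ P,
        (⟨z, hz⟩ : P) ∈ Subgroup.center P := fun z hz =>
      Subgroup.mem_center_iff.2 fun u => Subtype.ext (Subgroup.mem_centralizer_iff.1 z.2 u u.2)
    set l : Subgroup.centralizer (P : Set G) → ℂ := fun z =>
      if hz : (z : G) ∈ P then centScalar φ'.1 (⟨z, hz⟩ : P) else 0 with hl
    have hlv : ∀ z : Subgroup.centralizer (P : Set G), ∀ hz : (z : G) ∈ P, l z = centScalar φ'.1 (⟨z, hz⟩ : P) := fun z hz => dif_pos hz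
    have hlmul : ∀ u ∈ D, ∀ v ∈ D, l (u * v) = l u * l v := fun u hu v hv => by
      rw [hlv u hu, hlv v hv, hlv (u * v) (mul_mem hu hv),
        ← centScalar_mul φ' (hcenter u hu) (hcenter v hv)]
      rfl
    have hl1 : l 1 = 1 := by
      rw [hlv 1 P.one_mem]
      exact centScalar_one φ'
    obtain ⟨η, hη, hηl⟩ := exists_over_of_defectGroup hpM hDZ hb hbD l hlmul hl1
    let H : IrrCharacter (P × Subgroup.centralizer (P : Set G)) :=
      ⟨_, Char.isIrrCharacter_prod_mul φ'.2 η.2⟩
    have htriv : Char.TrivOn (mulHomC P).ker H.1 := by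
      rintro ⟨u, c⟩ hk
      rw [MonoidHom.mem_ker, mulHomC_apply] at hk
      have hcu : (c : G) = (u : G)⁻¹ := eq_inv_of_mul_eq_one_right hk
      have hcP : (c : G) ∈ P := hcu ▸ inv_mem u.2
      have hu' : u = (⟨c, hcP⟩ : P)⁻¹ := Subtype.ext (by simp [hcu])
      have hcent := hcenter c hcP
      have hval : centScalar η.1 c = centScalar φ'.1 (⟨c, hcP⟩ : P) :=
        (hηl c hcP).trans (hlv c hcP)
      show φ'.1 u * η.1 c = φ'.1 1 * η.1 1
      have e1 : φ'.1 u = centScalar φ'.1 (⟨c, hcP⟩ : P)⁻¹ * φ'.1 1 := by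
        rw [hu', centScalar, div_mul_cancel₀ _ (irr_one_ne_zero φ')]
      have e2 : η.1 c = centScalar η.1 c * η.1 1 := by
        rw [centScalar, div_mul_cancel₀ _ (irr_one_ne_zero η)]
      rw [e1, e2, hval]
      have e3 : centScalar φ'.1 (⟨c, hcP⟩ : P)⁻¹ * centScalar φ'.1 (⟨c, hcP⟩ : P) = 1 := by
        rw [← centScalar_mul φ' (inv_mem hcent) hcent, inv_mul_cancel, centScalar_one]
      linear_combination (φ'.1 1 * η.1 1) * e3
    obtain ⟨H', hH'⟩ := Char.exists_descend _ H htriv
    set χ' : IrrCharacter G := Char.irrCongr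
      (QuotientGroup.quotientKerEquivOfSurjective (mulHomC P) (mulHomC_surjective hG)) H' with hχ'
    have hval : ∀ (u : P) (c : Subgroup.centralizer (P : Set G)),
        χ'.1 ((u : G) * c) = φ'.1 u * η.1 c := by
      intro u c
      show H'.1 ((QuotientGroup.quotientKerEquivOfSurjective (mulHomC P)
        (mulHomC_surjective hG)).symm ((u : G) * c)) = _
      rw [show (QuotientGroup.quotientKerEquivOfSurjective (mulHomC P)
          (mulHomC_surjective hG)).symm ((u : G) * c) =
        ((u, c) : P × Subgroup.centralizer (P : Set G)) from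
          (MulEquiv.symm_apply_eq _).2 rfl]
      exact hH' (u, c)
    have hmem : χ' ∈ B := by
      rw [block_eq hB hθ]
      refine sameBlock_of_regular hpM fun g hg => ?_
      have hgC := mem_centralizer_of_isPRegular hC hg
      rw [show g = ((⟨g, hgC⟩ : Subgroup.centralizer (P : Set G)) : G) from rfl,
        centralChar_of_components hG h₀, centralChar_of_components hG hval]
      exact hη _
    refine ⟨⟨χ', hmem⟩, ?_⟩
    -- the first component is determined by the character
    have hu : ∀ u : P, φ'.1 u * η.1 1 = (φ ⟨χ', hmem⟩).1 u * (ψ ⟨χ', hmem⟩).1 1 := fun u => by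
      rw [← hval u 1, ← hφψ ⟨χ', hmem⟩ u 1]
    haveI := Fintype.ofFinite P
    by_contra hne
    have h1 : classInner (fun u : P => η.1 1 * φ'.1 u) φ'.1 =
        classInner (fun u : P => (ψ ⟨χ', hmem⟩).1 1 * (φ ⟨χ', hmem⟩).1 u) φ'.1 := by
      congr 1
      funext u
      rw [mul_comm, hu u, mul_comm]
    rw [show (fun u : P => η.1 1 * φ'.1 u) = η.1 1 • φ'.1 from rfl,
      show (fun u : P => (ψ ⟨χ', hmem⟩).1 1 * (φ ⟨χ', hmem⟩).1 u) =
        (ψ ⟨χ', hmem⟩).1 1 • (φ ⟨χ', hmem⟩).1 from rfl,
      Char.classInner_smul_left, Char.classInner_smul_left, Char.classInner_irr_self φ'.2,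
      Char.classInner_irr_of_ne (φ ⟨χ', hmem⟩).2 φ'.2 (fun e => hne (Subtype.ext e)), mul_one,
      mul_zero] at h1
    exact irr_one_ne_zero η h1

end Cfsg.Agent.BlocksX
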