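import Cfsg.Agent.Lib.BlocksX.Green

/-!
# Blocks of a quotient group contained in a block of the group
-/

set_option linter.style.haveILetI false
set_option linter.unusedSectionVars false

namespace Cfsg.Agent.BlocksX

open Cfsg MonoidAlgebra Cfsg.Agent.Blocks
open scoped ComplexConjugate

universe u

variable {G : Type u} [Group G] [Finite G] (N : Subgroup G) [N.Normal]

open Classical in
/-- The image of an element of the group algebra in that of `G ⧸ N`. -/
noncomputable def pushQ (z : MonoidAlgebra ℂ G) : MonoidAlgebra ℂ (G ⧸ N) :=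
  haveI := Fintype.ofFinite G
  ofFun fun q => ∑ g : G, if (g : G ⧸ N) = q then z.coeff g else 0

open Classical in
theorem coeff_pushQ [Fintype G] (z : MonoidAlgebra ℂ G) (q : G ⧸ N) :
    (pushQ N z).coeff q = ∑ g : G, if (g : G ⧸ N) = q then z.coeff g else 0 := by
  rw [pushQ, coeff_ofFun]
  congr!

theorem isCentralElt_pushQ {z : MonoidAlgebra ℂ G} (hz : IsCentralElt z) :
    IsCentralElt (pushQ N z) := by
  classical
  haveI := Fintype.ofFinite G
  intro q h
  obtain ⟨c, rfl⟩ := QuotientGroup.mk_surjective h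
  simp only [coeff_pushQ]
  refine (Fintype.sum_equiv (MulAut.conj c).toEquiv _ _ fun g => ?_).symm
  simp [hz g c]

theorem omega_pushQ (χ : IrrCharacter (G ⧸ N)) (z : MonoidAlgebra ℂ G) :
    omega χ.1 (pushQ N z) = omega (Char.inflate N χ).1 z := by
  classical
  haveI := Fintype.ofFinite G
  haveI := Fintype.ofFinite (G ⧸ N)
  simp only [omega, chiL_eq_sum, coeff_pushQ, Finset.sum_mul, ite_mul, zero_mul]
  rw [Finset.sum_comm]
  simp

theorem scoeff_pushQ {M : Ideal AlgInt} [M.IsPrime] {z : MonoidAlgebra ℂ G} (hz : SCoeff M z) :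
    SCoeff M (pushQ N z) := by
  classical
  haveI := Fintype.ofFinite G
  intro q
  rw [coeff_pushQ]
  refine MemLocalRing.sum _ fun g _ => ?_
  split_ifs
  exacts [hz g, memLocalRing_zero]

variable {p : ℕ} [hp : Fact p.Prime] {M : Ideal AlgInt} [M.IsMaximal]

/-- Inflation respects blocks. -/
theorem sameBlock_inflate {χ ψ : IrrCharacter (G ⧸ N)} (h : SameBlock M χ.1 ψ.1) :
    SameBlock M (Char.inflate N χ).1 (Char.inflate N ψ).1 := fun g => by
  rw [← omega_classSum (irr_classFun (Char.inflate N χ)),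
    ← omega_classSum (irr_classFun (Char.inflate N ψ)), ← omega_pushQ, ← omega_pushQ]
  exact SameBlock.omega_sub h (isCentralElt_pushQ N (isCentralElt_classSum g))
    (scoeff_pushQ N (scoeff_classSum g))

variable {B : Set (IrrCharacter G)} {Bb : Set (IrrCharacter (G ⧸ N))}

/-- A defect group of a contained block of `G ⧸ N` lifts into a defect group. -/
theorem exists_defectGroup_map_ge (hpM : (p : AlgInt) ∈ M) (hB : IsPBlock M B)
    (hBb : IsPBlock M Bb) (hsub : ∀ χ ∈ Bb, Char.inflate N χ ∈ B) {Db : Subgroup (G ⧸ N)}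
    (hDb : IsDefectGroup p M Bb Db) :
    ∃ P : Subgroup G, IsDefectGroup p M B P ∧ Db ≤ P.map (QuotientGroup.mk' N) := by
  classical
  haveI := Fintype.ofFinite G
  haveI := Fintype.ofFinite (G ⧸ N)
  obtain ⟨q, hq, hqD⟩ := isDefectGroup_iff.1 hDb
  have hDbp : IsPGroup p Db := SylIn.isPGroup hqD
  -- a `p`-subgroup mapping onto `Db`
  obtain ⟨R, hRp, hRD⟩ : ∃ R : Subgroup G, IsPGroup p R ∧ R.map (QuotientGroup.mk' N) = Db := by
    set K := Db.comap (QuotientGroup.mk' N) with hK
    have hf : Function.Surjective ((QuotientGroup.mk' N).subgroupComap Db) :=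
      MonoidHom.subgroupComap_surjective_of_surjective _ _ (QuotientGroup.mk'_surjective N)
    let S : Sylow p K := default
    have htop : ((S.mapSurjective hf : Sylow p Db) : Subgroup Db) = ⊤ :=
      ((S.mapSurjective hf).3 (hDbp.of_equiv Subgroup.topEquiv.symm) le_top).symm
    refine ⟨(S : Subgroup K).map K.subtype, S.isPGroup'.map _, le_antisymm ?_ ?_⟩
    · rintro _ ⟨_, ⟨k, -, rfl⟩, rfl⟩
      exact k.2
    · intro d hd
      obtain ⟨k, hk, hkd⟩ : (⟨d, hd⟩ : Db) ∈ ((S.mapSurjective hf : Sylow p Db) : Subgroup Db) := by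
        rw [htop]; trivial
      exact ⟨k, ⟨k, hk, rfl⟩, congrArg Subtype.val hkd⟩
  -- the idempotent of `Bb` is a multiple of the image of that of `B`
  have hid : blockIdem Bb = pushQ N (blockIdem B) * blockIdem Bb := by
    refine central_ext (isCentralElt_blockIdem _)
      (IsCentralElt.mul (isCentralElt_pushQ N (isCentralElt_blockIdem _))
        (isCentralElt_blockIdem _)) fun χ => ?_
    rw [omega_mul χ (isCentralElt_pushQ N (isCentralElt_blockIdem _)), omega_pushQ,
      omega_blockIdem, omega_blockIdem]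
    by_cases hχ : χ ∈ Bb
    · simp [hχ, hsub χ hχ]
    · simp [hχ]
  have hc : blockCoeff Bb q =
      ∑ g : G, blockCoeff B g * blockCoeff Bb ((g : G ⧸ N)⁻¹ * q) := by
    conv_lhs => rw [← coeff_blockIdem, hid, coeff_mul_eq_sum]
    simp only [coeff_pushQ, coeff_blockIdem, Finset.sum_mul, ite_mul, zero_mul]
    rw [Finset.sum_comm]
    simp
  letI act : MulAction R G := MulAction.compHom G ((MulAut.conj (G := G)).comp R.subtype)
  have hsmul : ∀ (r : R) (x : G), r • x = (r : G) * x * (r : G)⁻¹ := fun r x => rfl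
  have hml : ∀ g : G, MemLocalRing M (blockCoeff B g * blockCoeff Bb ((g : G ⧸ N)⁻¹ * q)) :=
    fun g => MemLocalRing.mul (memLocalRing_blockCoeff hB _) (memLocalRing_blockCoeff hBb _)
  obtain ⟨g, hgfix, hg⟩ : ∃ g : G, g ∈ MulAction.fixedPoints R G ∧
      ¬ MemLocalIdeal M (blockCoeff B g) := by
    by_contra! hno
    refine hq.2.1 ?_
    rw [hc, ← red_eq_zero_iff (MemLocalRing.sum _ fun g _ => hml g), red_sum _ fun g _ => hml g,
      sum_eq_sum_fixedPoints hRp (nsmul_residue_eq_zero hpM)]
    · exact Finset.sum_eq_zero fun g hg => red_eq_zero_of_mem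
        (MemLocalIdeal.mul_right (hno g (Finset.mem_filter.1 hg).2) (memLocalRing_blockCoeff hBb _))
    · intro r x
      have hrq : ((r : G) : G ⧸ N) * q * ((r : G) : G ⧸ N)⁻¹ = q :=
        mul_inv_eq_iff_eq_mul.2 (Subgroup.mem_centralizer_singleton_iff.1
          (hqD.1 (hRD ▸ Subgroup.mem_map_of_mem (QuotientGroup.mk' N) r.2)))
      have h1 : blockCoeff B ((r : G) * x * (r : G)⁻¹) = blockCoeff B x := by
        simpa [coeff_blockIdem] using isCentralElt_blockIdem B x r
      have h2 : blockCoeff Bb ((((r : G) * x * (r : G)⁻¹ : G) : G ⧸ N)⁻¹ * q) =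
          blockCoeff Bb ((x : G ⧸ N)⁻¹ * q) := by
        have h3 := isCentralElt_blockIdem Bb ((x : G ⧸ N)⁻¹ * q) ((r : G) : G ⧸ N)
        simp only [coeff_blockIdem] at h3
        rw [← h3]
        congr 1
        conv_lhs => rw [← hrq]
        simp only [QuotientGroup.mk_mul, QuotientGroup.mk_inv]
        group
      rw [hsmul, h1, h2]
  have hRg : R ≤ Subgroup.centralizer ({g} : Set G) := fun r hr => by
    have := hgfix ⟨r, hr⟩
    rw [hsmul, mul_inv_eq_iff_eq_mul] at this
    exact Subgroup.mem_centralizer_singleton_iff.2 this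
  obtain ⟨χ, hχ⟩ := block_nonempty hB
  obtain ⟨D, hD⟩ := exists_defectGroup (p := p) hB
  obtain ⟨g₀, hg₀, hg₀D⟩ := isDefectGroup_iff.1 hD
  obtain ⟨x, hx⟩ := minmax hpM hB hχ (hg₀.2.2 χ hχ) hg hg₀D hRp hRg
  refine ⟨_, IsDefectGroup.conj hD x⁻¹, hRD ▸ Subgroup.map_mono fun r hr => ?_⟩
  exact mem_map_conj.2 (hx (mem_map_conj.2 (by simpa [mul_assoc] using hr)))

/-- Some member of `B` is trivial on a normal `p`-subgroup and has height zero. -/
theorem exists_trivOn_degree_le (hpM : (p : AlgInt) ∈ M) (hB : IsPBlock M B) (hN : IsPGroup p N)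
    {g : G} (hg : IsDefectClass M B g) :
    ∃ χ ∈ B, Char.TrivOn N χ.1 ∧ (Char.degree χ).factorization p ≤
      (Subgroup.centralizer ({g} : Set G)).index.factorization p := by
  classical
  haveI := Fintype.ofFinite G
  by_contra hno
  obtain ⟨D, hD⟩ := exists_sylIn (p := p) (Subgroup.centralizer ({g} : Set G))
  haveI := Fintype.ofFinite D
  haveI := Fintype.ofFinite N
  have hgC : g ∈ Subgroup.centralizer (D : Set G) := le_centralizer_singleton.1 hD.1
  have hND : N ≤ D := normal_le_defectGroup hpM hB hN (isDefectGroup_iff.2 ⟨g, hg, hD⟩)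
  have hsum : ∑ χ ∈ Finset.univ.filter (· ∈ B), χ.1 1 * conj (χ.1 g) =
      ∑ χ ∈ Finset.univ.filter (· ∈ B), χ.1 1 * conj (∑ u : D, χ.1 (g * u)) := by
    simp only [map_sum, Finset.mul_sum]
    rw [Finset.sum_comm (s := Finset.univ.filter (· ∈ B)) (t := (Finset.univ : Finset D)),
      Finset.sum_eq_single (1 : D)]
    · simp
    · intro u _ hu
      refine weak_orthogonality hpM hB (x := 1) (by simp [IsPRegular, hp.out.ne_one])
        fun hr => hu ?_
      obtain ⟨k, hk⟩ := IsPGroup.iff_orderOf.1 (SylIn.isPGroup hD) u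
      exact Subtype.ext ((isPRegular_mul_iff (hgC u u.2).symm
        (IsDefectClass.isPRegular hpM hB hg) ⟨k, by rw [Subgroup.orderOf_coe, hk]⟩).1 hr)
    · exact fun h => absurd (Finset.mem_univ _) h
  refine hg.2.1 ?_
  rw [blockCoeff_eq_sum, hsum, Finset.mul_sum]
  refine MemLocalIdeal.sum _ fun χ hχ => ?_
  by_cases ht : Char.TrivOn N χ.1
  · have hint := IsIntegral.map (starRingEnd ℂ).toIntAlgHom
      (isIntegral_avg (Char.irr_isCharacter χ) D hgC)
    have heq : (Nat.card G : ℂ)⁻¹ * (χ.1 1 * conj (∑ u : D, χ.1 (g * u))) =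
        ((Char.degree χ * Nat.card D : ℕ) : ℂ) / (Nat.card G : ℕ) *
          conj ((Nat.card D : ℂ)⁻¹ * ∑ u : D, χ.1 (g * u)) := by
      rw [map_mul, map_inv₀, map_natCast, Nat.cast_mul, ← Char.apply_one_eq_degree]
      field_simp
    rw [heq]
    refine MemLocalIdeal.mul_right ((memLocalIdeal_natCast_div_iff hpM
      (mul_ne_zero (Char.degree_pos χ).ne' Nat.card_pos.ne') Nat.card_pos.ne').2 ?_)
      (memLocalRing_of_isIntegral hint)
    have h1 := factorization_index (p := p) (Subgroup.centralizer ({g} : Set G))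
    have h2 : (Nat.card D).factorization p =
        (Nat.card (Subgroup.centralizer ({g} : Set G))).factorization p := by
      rw [hD.2, hp.out.factorization_pow, Finsupp.single_eq_same]
    rw [Nat.factorization_mul (Char.degree_pos χ).ne' Nat.card_pos.ne', Finsupp.add_apply]
    have h3 : (Subgroup.centralizer ({g} : Set G)).index.factorization p <
        (Char.degree χ).factorization p :=
      not_le.1 fun h => hno ⟨χ, (Finset.mem_filter.1 hχ).2, ht, h⟩
    omega
  · have h0 : (Fintype.card N : ℂ) * ∑ u : D, χ.1 (g * u) = 0 := by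
      rw [← nsmul_eq_mul]
      show Finset.univ.card • _ = _
      rw [← Finset.sum_const,
        Finset.sum_congr rfl (g := fun n : N => ∑ u : D, χ.1 (g * u * n)) fun n _ => ?_,
        Finset.sum_comm, Finset.sum_eq_zero]
      · exact fun u _ => Char.sum_coset_eq_zero_of_not_trivOn N χ ht _
      · exact (Fintype.sum_equiv (Equiv.mulRight (⟨n, hND n.2⟩ : D)) _ _ fun u => by
          simp [mul_assoc]).symm
    rw [(mul_eq_zero.1 h0).resolve_left (Nat.cast_ne_zero.2 Fintype.card_ne_zero)]
    simpa using memLocalIdeal_zero (M := M)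

/-- For a normal `p`-subgroup some contained block has the image defect groups. -/
theorem exists_block_quotient (hpM : (p : AlgInt) ∈ M) (hB : IsPBlock M B) (hN : IsPGroup p N) :
    ∃ Bb : Set (IrrCharacter (G ⧸ N)), IsPBlock M Bb ∧ (∀ χ ∈ Bb, Char.inflate N χ ∈ B) ∧
      ∀ Db : Subgroup (G ⧸ N), IsDefectGroup p M Bb Db ↔
        ∃ P : Subgroup G, IsDefectGroup p M B P ∧ Db = P.map (QuotientGroup.mk' N) := by
  classical
  obtain ⟨g, hg⟩ := exists_defectClass hB
  obtain ⟨θ, hθ, ht, hdeg⟩ := exists_trivOn_degree_le N hpM hB hN hg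
  obtain ⟨χ, hχ⟩ := Char.exists_descend N θ ht
  have hinf : Char.inflate N χ = θ := Subtype.ext (funext hχ)
  have hBb : IsPBlock M (blockOf M χ.1) := isPBlock_blockOf χ
  have hsub : ∀ ψ ∈ blockOf M χ.1, Char.inflate N ψ ∈ B := fun ψ hψ => by
    rw [block_eq hB hθ, ← hinf]
    exact sameBlock_inflate N (mem_blockOf.1 hψ)
  refine ⟨_, hBb, hsub, ?_⟩
  have hd : Char.degree χ = Char.degree θ := by
    have := hχ 1
    rw [QuotientGroup.mk_one, Char.apply_one_eq_degree, Char.apply_one_eq_degree] at this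
    exact_mod_cast this
  have key : ∀ Db, IsDefectGroup p M (blockOf M χ.1) Db →
      ∃ P, IsDefectGroup p M B P ∧ Db = P.map (QuotientGroup.mk' N) := by
    intro Db hDb
    obtain ⟨P, hP, hle⟩ := exists_defectGroup_map_ge N hpM hB hBb hsub hDb
    refine ⟨P, hP, Subgroup.eq_of_le_of_card_ge hle ?_⟩
    have hNP : N ≤ P := normal_le_defectGroup hpM hB hN hP
    have hmap : Nat.card (P.map (QuotientGroup.mk' N)) * Nat.card N = Nat.card P := by
      rw [← Subgroup.card_mul_index ((QuotientGroup.mk' N).domRestrict P).ker,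
        Subgroup.index_ker, MonoidHom.domRestrict_range, mul_comm]
      congr 1
      rw [MonoidHom.ker_domRestrict, QuotientGroup.ker_mk']
      exact (Nat.card_congr (Subgroup.subgroupOfEquivOfLe hNP).toEquiv).symm
    obtain ⟨n, hn⟩ := IsPGroup.iff_card.1 hN
    obtain ⟨q, hq⟩ := exists_defectClass hBb
    have hge := factorization_index_le_degree hpM χ (hq.2.2 χ (mem_blockOf_self χ))
    have h1 := factorization_index (p := p) (Subgroup.centralizer ({g} : Set G))
    have h2 := factorization_index (p := p) (Subgroup.centralizer ({q} : Set (G ⧸ N)))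
    have h3 : (Nat.card G).factorization p = (Nat.card (G ⧸ N)).factorization p + n := by
      rw [Subgroup.card_eq_card_quotient_mul_card_subgroup N,
        Nat.factorization_mul Nat.card_pos.ne' Nat.card_pos.ne', Finsupp.add_apply, hn,
        hp.out.factorization_pow, Finsupp.single_eq_same]
    have hb := blockDefect_eq hpM hBb hq
    have hb' := blockDefect_eq hpM hB hg
    rw [card_defectGroup hpM hB hP, hn] at hmap
    rw [card_defectGroup hpM hBb hDb]
    refine Nat.le_of_mul_le_mul_right ?_ (pow_pos hp.out.pos n)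
    rw [hmap, ← pow_add]
    rw [hd] at hge
    exact Nat.pow_le_pow_right hp.out.pos (by omega)
  intro Db
  refine ⟨key Db, ?_⟩
  rintro ⟨P, hP, rfl⟩
  obtain ⟨D₀, hD₀⟩ := exists_defectGroup (p := p) hBb
  obtain ⟨P₀, hP₀, rfl⟩ := key D₀ hD₀
  obtain ⟨x, rfl⟩ := defectGroup_conj hpM hB hP hP₀
  have := IsDefectGroup.conj hD₀ (x : G ⧸ N)
  rw [Subgroup.map_map] at this ⊢
  convert this using 2
  ext y
  simp

end Cfsg.Agent.BlocksX
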