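import Cfsg.Agent.Lib.BlocksX.Incl
import Cfsg.Agent.Lib.BlocksX.Normal
import Cfsg.Agent.Lib.Blocks.FirstMain
import Cfsg.Agent.Lib.Char.Induction

/-!
# The Fong-Reynolds correspondence

Blocks over a block `b` of a normal subgroup and blocks of the stabilizer of `b`.
-/

set_option linter.style.haveILetI false
set_option linter.unusedSectionVars false

namespace Cfsg.Agent.BlocksX

open Cfsg MonoidAlgebra Cfsg.Agent.Blocks
open scoped ComplexConjugate

universe u

section Induced

variable {G : Type u} [Group G] [Fintype G] (T : Subgroup G) [Fintype T] {M : Ideal AlgInt}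

/-- The central character of an induced function. -/
theorem centralChar_indFun (ψ : T → ℂ) (g : G) :
    centralChar (indFun T ψ) g = inducedCentralChar T ψ g := by
  classical
  have hsum : ∑ x : G, extendByZero T ψ (x⁻¹ * g * x) =
      (Nat.card (Subgroup.centralizer ({g} : Set G)) : ℂ) *
        ∑ t ∈ Finset.univ.filter (fun t : T => IsConj g (t : G)), ψ t := by
    rw [← Equiv.sum_comp (Equiv.inv G) fun x => extendByZero T ψ (x⁻¹ * g * x)]
    simp only [Equiv.inv_apply, inv_inv]
    rw [sum_conj_eq (extendByZero T ψ) g]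
    congr 1
    symm
    refine Finset.sum_bij_ne_zero (fun t _ _ => (t : G)) (fun t ht _ => by simpa using ht)
      (fun a _ _ b _ _ h => Subtype.ext h) (fun y hy hne => ?_) fun t _ _ => ?_
    · have hyT : y ∈ T := by_contra fun h => hne (Char.extendByZero_of_notMem T ψ h)
      refine ⟨⟨y, hyT⟩, by simpa using (Finset.mem_filter.1 hy).2, ?_, rfl⟩
      rwa [Char.extendByZero_of_mem T ψ hyT] at hne
    · rw [Char.extendByZero_coe]
  rw [centralChar, Char.indFun_apply_one, inducedCentralChar_eq, indFun, hsum]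
  have h1 := Subgroup.card_mul_index (Subgroup.centralizer ({g} : Set G))
  rw [← Subgroup.card_mul_index T] at h1
  have h2 : (Nat.card (Subgroup.centralizer ({g} : Set G)) : ℂ) *
      ((Subgroup.centralizer ({g} : Set G)).index : ℂ) = (Nat.card T : ℂ) * (T.index : ℂ) := by
    exact_mod_cast h1
  have hT : (Nat.card T : ℂ) ≠ 0 := Nat.cast_ne_zero.2 Nat.card_pos.ne'
  have hi : (T.index : ℂ) ≠ 0 := Nat.cast_ne_zero.2 Subgroup.index_ne_zero_of_finite
  by_cases h0 : ψ 1 = 0
  · simp [h0]
  · field_simp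
    linear_combination (∑ t ∈ Finset.univ.filter (fun t : T => IsConj g (t : G)), ψ t) * h2

theorem memLocalRing_indFun [M.IsPrime] {f : T → ℂ} (hc : ∀ a c : T, f (c * a * c⁻¹) = f a)
    (hf : ∀ t, MemLocalRing M (f t)) (g : G) : MemLocalRing M (indFun T f g) := by
  classical
  haveI := Fintype.ofFinite (G ⧸ T)
  have hF : ∀ x : G, extendByZero T f (x⁻¹ * g * x) =
      (fun q : G ⧸ T => extendByZero T f (q.out⁻¹ * g * q.out)) (x : G ⧸ T) := by
    intro x
    obtain ⟨t, ht⟩ := QuotientGroup.mk_out_eq_mul T x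
    dsimp only
    rw [ht, mul_inv_rev]
    have e : (t : G)⁻¹ * x⁻¹ * g * (x * t) = (t : G)⁻¹ * (x⁻¹ * g * x) * t := by group
    rw [e]
    by_cases hy : x⁻¹ * g * x ∈ T
    · rw [Char.extendByZero_of_mem T f hy,
        Char.extendByZero_of_mem T f (mul_mem (mul_mem (inv_mem t.2) hy) t.2),
        ← hc ⟨_, hy⟩ t⁻¹]
      exact congrArg f (Subtype.ext (by simp))
    · rw [Char.extendByZero_of_notMem T f hy, Char.extendByZero_of_notMem T f]
      intro h
      have h' := mul_mem (mul_mem t.2 h) (inv_mem t.2)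
      exact hy (by simpa [mul_assoc] using h')
  rw [indFun, Finset.sum_congr rfl fun x _ => hF x,
    sum_comp_mk T fun q => extendByZero T f (q.out⁻¹ * g * q.out), ← mul_assoc,
    inv_mul_cancel₀ (Nat.cast_ne_zero.2 Nat.card_pos.ne'), one_mul]
  refine MemLocalRing.sum _ fun q _ => ?_
  by_cases hy : q.out⁻¹ * g * q.out ∈ T
  · rw [Char.extendByZero_of_mem T f hy]
    exact hf _
  · rw [Char.extendByZero_of_notMem T f hy]
    exact memLocalRing_zero

open Classical in
/-- The idempotent of a set of induced characters is the induced idempotent. -/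
theorem blockCoeff_image_indFun {A : Set (IrrCharacter T)}
    (f : IrrCharacter T → IrrCharacter G) (hf : ∀ ψ ∈ A, (f ψ).1 = indFun T ψ.1)
    (hinj : Set.InjOn f A) (g : G) :
    blockCoeff (f '' A) g = indFun T (fun t => blockCoeff A t) g := by
  have hfil : Finset.univ.filter (· ∈ f '' A) = (Finset.univ.filter (· ∈ A)).image f := by
    ext χ
    simp [Set.mem_image]
  have hext : ∀ y : G, extendByZero T (fun t => blockCoeff A t) y = (Nat.card T : ℂ)⁻¹ *
      ∑ ψ ∈ Finset.univ.filter (· ∈ A), ψ.1 1 * conj (extendByZero T ψ.1 y) := by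
    intro y
    by_cases hy : y ∈ T
    · simp only [Char.extendByZero_of_mem _ _ hy, blockCoeff_eq_sum]
    · simp only [Char.extendByZero_of_notMem _ _ hy, map_zero, mul_zero, Finset.sum_const_zero]
  rw [blockCoeff_eq_sum, hfil, Finset.sum_image fun a ha c hc h =>
    hinj (Finset.mem_filter.1 ha).2 (Finset.mem_filter.1 hc).2 h, indFun,
    Finset.sum_congr rfl fun x _ => hext _,
    Finset.sum_congr rfl fun ψ hψ => by
      rw [hf ψ (Finset.mem_filter.1 hψ).2, Char.indFun_apply_one, indFun, map_mul, map_inv₀,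
        map_natCast, map_sum]]
  simp only [Finset.mul_sum]
  rw [Finset.sum_comm]
  refine Finset.sum_congr rfl fun x _ => Finset.sum_congr rfl fun ψ _ => ?_
  have hG : (Nat.card G : ℂ) = Nat.card T * T.index := by
    exact_mod_cast T.card_mul_index.symm
  have hT : (Nat.card T : ℂ) ≠ 0 := Nat.cast_ne_zero.2 Nat.card_pos.ne'
  have hi : (T.index : ℂ) ≠ 0 := Nat.cast_ne_zero.2 Subgroup.index_ne_zero_of_finite
  rw [hG]
  field_simp

end Induced

section Stabilizer

variable {G : Type u} [Group G] [Fintype G] {M : Ideal AlgInt} [M.IsMaximal]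
  (N : Subgroup G) [N.Normal] [Fintype N] (T : Subgroup G) [Fintype T]

/-- The embedding of `ℂ[N]` into `ℂ[T]`. -/
noncomputable def embT (a : MonoidAlgebra ℂ N) : MonoidAlgebra ℂ T := resH T (incl N a)

variable {N T}

theorem incl_embT (hNT : N ≤ T) (a : MonoidAlgebra ℂ N) : incl T (embT N T a) = incl N a :=
  incl_resH fun g hg => coeff_incl_of_not_mem a fun h => hg (hNT h)

theorem embT_mul (hNT : N ≤ T) (a c : MonoidAlgebra ℂ N) :
    embT N T (a * c) = embT N T a * embT N T c := by
  rw [embT, incl_mul, ← incl_embT hNT a, resH_incl_mul]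
  rfl

theorem chiL_embT (hNT : N ≤ T) (η : T → ℂ) (a : MonoidAlgebra ℂ N) :
    chiL η (embT N T a) = chiL (fun n : N => η ⟨(n : G), hNT n.2⟩) a := by
  classical
  rw [chiL_eq_sum, chiL_eq_sum]
  symm
  refine Fintype.sum_of_injective (fun n : N => (⟨(n : G), hNT n.2⟩ : T))
    (fun m n h => Subtype.ext (congrArg (fun t : T => (t : G)) h)) _ _ (fun t ht => ?_) fun n => ?_
  · rw [embT, coeff_resH, coeff_incl_of_not_mem _ fun h => ht ⟨⟨t, h⟩, rfl⟩, zero_mul]
  · rw [embT, coeff_resH]
    show _ = (incl N a).coeff (n : G) * _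
    rw [coeff_incl_coe]

/-- A stabilizer datum: `T` contains `N` and is the stabilizer of the block `b`. -/
structure StabData (M : Ideal AlgInt) (N : Subgroup G) [N.Normal] (T : Subgroup G)
    (b : Set (IrrCharacter N)) : Prop where
  le : N ≤ T
  block : IsPBlock M b
  mem : ∀ g : G, g ∈ T ↔ ∀ θ ∈ b, Char.conjChar N θ g ∈ b

variable {b : Set (IrrCharacter N)}

theorem StabData.blockCoeff_conj (D : StabData M N T b) {g : G} (hg : g ∈ T) (n : N) :
    blockCoeff b (MulAut.conjNormal g n) = blockCoeff b n := by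
  classical
  rw [blockCoeff_eq_sum, blockCoeff_eq_sum]
  congr 1
  refine Finset.sum_nbij' (fun ξ => Char.conjChar N ξ g) (fun ξ => Char.conjChar N ξ g⁻¹)
    (fun ξ hξ => ?_) (fun ξ hξ => ?_) (fun ξ _ => ?_) (fun ξ _ => ?_) (fun ξ _ => ?_)
  · exact Finset.mem_filter.2 ⟨Finset.mem_univ _, (D.mem g).1 hg ξ (Finset.mem_filter.1 hξ).2⟩
  · exact Finset.mem_filter.2
      ⟨Finset.mem_univ _, (D.mem g⁻¹).1 (inv_mem hg) ξ (Finset.mem_filter.1 hξ).2⟩
  · show Char.conjChar N (Char.conjChar N ξ g) g⁻¹ = ξ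
    rw [← conjChar_mul, mul_inv_cancel, conjChar_one]
  · show Char.conjChar N (Char.conjChar N ξ g⁻¹) g = ξ
    rw [← conjChar_mul, inv_mul_cancel, conjChar_one]
  · show _ = (Char.conjFun N ξ.1 g) 1 * conj (Char.conjFun N ξ.1 g n)
    rw [Char.conjFun_apply_one]
    rfl

theorem StabData.central (D : StabData M N T b) : IsCentralElt (embT N T (blockIdem b)) := by
  intro a c
  rw [embT, coeff_resH, coeff_resH, Subgroup.coe_mul, Subgroup.coe_mul, Subgroup.coe_inv]
  by_cases ha : (a : G) ∈ N
  · have hm := (conj_mem_iff N (a : G) c).2 ha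
    rw [show (c : G) * a * (c : G)⁻¹ = ((⟨_, hm⟩ : N) : G) from rfl, coeff_incl_coe,
      show (incl N (blockIdem b)).coeff (a : G) = (blockIdem b).coeff ⟨(a : G), ha⟩ from
        coeff_incl_coe _ ⟨(a : G), ha⟩, coeff_blockIdem,
      coeff_blockIdem, ← D.blockCoeff_conj c.2 ⟨(a : G), ha⟩]
    exact congrArg _ (Subtype.ext (by simp))
  · rw [coeff_incl_of_not_mem _ ha, coeff_incl_of_not_mem _ (mt (conj_mem_iff N (a : G) c).1 ha)]

theorem StabData.scoeff (D : StabData M N T b) : SCoeff M (embT N T (blockIdem b)) := by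
  refine scoeff_resH fun g => ?_
  classical
  rw [coeff_incl]
  split_ifs
  exacts [scoeff_blockIdem D.block _, memLocalRing_zero]

/-- The members over `b`. -/
def overB (T : Subgroup G) (b : Set (IrrCharacter N)) : Set (IrrCharacter T) :=
  {η | omega η.1 (embT N T (blockIdem b)) = 1}

theorem StabData.omega_eq (D : StabData M N T b) (η : IrrCharacter T) :
    omega η.1 (embT N T (blockIdem b)) = 0 ∨ omega η.1 (embT N T (blockIdem b)) = 1 := by
  refine IsIdempotentElem.iff_eq_zero_or_one.1 ?_
  show _ * _ = _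
  rw [← omega_mul η D.central, ← embT_mul D.le, blockIdem_mul_self]

theorem StabData.mem_overB_iff (D : StabData M N T b) (η : IrrCharacter T) :
    η ∈ overB T b ↔
      ∃ θ ∈ b, classInner (fun n : N => η.1 ⟨(n : G), D.le n.2⟩) θ.1 ≠ 0 := by
  classical
  obtain ⟨m, hm, hm'⟩ := Char.IsCharacter.exists_decomp
    (Char.IsCharacter.comp (Char.irr_isCharacter η) (Subgroup.inclusion D.le))
  have hval : chiL η.1 (embT N T (blockIdem b)) =
      ((∑ θ ∈ Finset.univ.filter (· ∈ b), m θ * Char.degree θ : ℕ) : ℂ) := by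
    rw [chiL_embT D.le, show (fun n : N => η.1 ⟨(n : G), D.le n.2⟩) =
      ∑ θ : IrrCharacter N, (m θ : ℂ) • θ.1 from hm, chiL_eq_sum]
    simp only [Finset.sum_apply, Pi.smul_apply, smul_eq_mul, Finset.mul_sum]
    rw [Finset.sum_comm, Nat.cast_sum, Finset.sum_filter]
    refine Finset.sum_congr rfl fun θ _ => ?_
    have h1 := chiL_blockIdem θ b
    rw [chiL_eq_sum] at h1
    simp only [mul_left_comm _ ((m θ : ℂ)), ← Finset.mul_sum, h1, Char.apply_one_eq_degree θ]
    split_ifs <;> simp
  constructor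
  · intro h
    by_contra hno
    push Not at hno
    have h0 : omega η.1 (embT N T (blockIdem b)) = 0 := by
      rw [omega, hval, Finset.sum_eq_zero, Nat.cast_zero, zero_div]
      intro θ hθ
      have := hno θ (Finset.mem_filter.1 hθ).2
      rw [show (m θ) = 0 from Nat.cast_eq_zero.1 ((hm' θ).symm.trans this), zero_mul]
    exact zero_ne_one (h0.symm.trans h)
  · rintro ⟨θ, hθ, hc⟩
    refine (D.omega_eq η).resolve_left fun h0 => hc ?_
    rw [omega, div_eq_zero_iff, hval] at h0
    have h1 := Nat.cast_eq_zero.1 (h0.resolve_right (irr_one_ne_zero η))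
    rw [Finset.sum_eq_zero_iff] at h1
    have h2 := h1 θ (Finset.mem_filter.2 ⟨Finset.mem_univ θ, hθ⟩)
    rw [show classInner (fun n : N => η.1 ⟨(n : G), D.le n.2⟩) θ.1 = (m θ : ℂ) from hm' θ,
      (Nat.mul_eq_zero.1 h2).resolve_right (Char.degree_pos θ).ne', Nat.cast_zero]

theorem StabData.blockOf_subset (D : StabData M N T b) {ψ : IrrCharacter T} (hψ : ψ ∈ overB T b) :
    blockOf M ψ.1 ⊆ overB T b := fun η hη => by
  refine (D.omega_eq η).resolve_left fun h0 => not_memLocalIdeal_one (M := M) ?_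
  have := SameBlock.omega_sub (show SameBlock M ψ.1 η.1 from hη) D.central D.scoeff
  rwa [show omega ψ.1 (embT N T (blockIdem b)) = 1 from hψ, h0, sub_zero] at this

/-- The conjugates of `b` outside the stabilizer are killed by the members over `b`. -/
theorem StabData.chiL_conj (D : StabData M N T b) {ψ : IrrCharacter T} (hψ : ψ ∈ overB T b)
    (x : G) [Decidable (x ∈ T)] :
    chiL (Char.conjFun N (fun n : N => ψ.1 ⟨(n : G), D.le n.2⟩) x) (blockIdem b) =
      if x ∈ T then ψ.1 1 else 0 := by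
  classical
  have h1 : chiL (Char.conjFun N (fun n : N => ψ.1 ⟨(n : G), D.le n.2⟩) x) (blockIdem b) =
      chiL (fun n : N => ψ.1 ⟨(n : G), D.le n.2⟩)
        (ofFun fun n => blockCoeff b (MulAut.conjNormal x⁻¹ n)) := by
    rw [chiL_eq_sum, chiL_eq_sum]
    refine Fintype.sum_equiv (MulAut.conjNormal x : MulAut N).toEquiv _ _ fun n => ?_
    rw [coeff_ofFun, coeff_blockIdem]
    congr 1
    exact congrArg _ (Subtype.ext (by simp [mul_assoc]))
  rw [h1, ← chiL_embT D.le]
  split_ifs with hx
  · rw [show (ofFun fun n : N => blockCoeff b (MulAut.conjNormal x⁻¹ n)) = blockIdem b from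
      alg_ext fun n => by rw [coeff_ofFun, coeff_blockIdem, D.blockCoeff_conj (inv_mem hx)]]
    have h2 : omega ψ.1 (embT N T (blockIdem b)) = 1 := hψ
    rwa [omega, div_eq_one_iff_eq (irr_one_ne_zero ψ)] at h2
  · set b' : Set (IrrCharacter N) := (fun ξ => Char.conjChar N ξ x⁻¹) '' b with hb'
    have e : (ofFun fun n : N => blockCoeff b (MulAut.conjNormal x⁻¹ n)) = blockIdem b' := by
      refine alg_ext fun n => ?_
      rw [coeff_ofFun, coeff_blockIdem, blockCoeff_eq_sum, blockCoeff_eq_sum]
      congr 1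
      refine Finset.sum_nbij' (fun ξ => Char.conjChar N ξ x⁻¹) (fun ξ => Char.conjChar N ξ x)
        (fun ξ hξ => ?_) (fun ξ hξ => ?_) (fun ξ _ => ?_) (fun ξ _ => ?_) (fun ξ _ => ?_)
      · exact Finset.mem_filter.2 ⟨Finset.mem_univ _, ξ, (Finset.mem_filter.1 hξ).2, rfl⟩
      · obtain ⟨η, hη, rfl⟩ := (Finset.mem_filter.1 hξ).2
        refine Finset.mem_filter.2 ⟨Finset.mem_univ _, ?_⟩
        show Char.conjChar N (Char.conjChar N η x⁻¹) x ∈ b
        rwa [← conjChar_mul, inv_mul_cancel, conjChar_one]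
      · show Char.conjChar N (Char.conjChar N ξ x⁻¹) x = ξ
        rw [← conjChar_mul, inv_mul_cancel, conjChar_one]
      · show Char.conjChar N (Char.conjChar N ξ x) x⁻¹ = ξ
        rw [← conjChar_mul, mul_inv_cancel, conjChar_one]
      · show _ = (Char.conjFun N ξ.1 x⁻¹) 1 * conj (Char.conjFun N ξ.1 x⁻¹ n)
        rw [Char.conjFun_apply_one]
        rfl
    have hdisj : b ∩ b' = ∅ := by
      rw [Set.eq_empty_iff_forall_notMem]
      rintro _ ⟨hξ, η, hη, rfl⟩
      refine hx ((Subgroup.inv_mem_iff T).1 ((D.mem x⁻¹).2 fun θ hθ => ?_))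
      rw [block_eq D.block hξ]
      exact sameBlock_conjFun N (sameBlock_of_mem D.block hη hθ) x⁻¹
    have h3 := chiL_mul_of_central ψ D.central (embT N T (blockIdem b'))
    rw [show omega ψ.1 (embT N T (blockIdem b)) = 1 from hψ, one_mul, ← embT_mul D.le,
      blockIdem_mul, hdisj] at h3
    have h0 : blockIdem (∅ : Set (IrrCharacter N)) = 0 :=
      central_ext (isCentralElt_blockIdem _) isCentralElt_zero fun χ => by
        rw [omega_blockIdem, omega_zero, if_neg (Set.notMem_empty χ)]
    rw [e, ← h3, h0, chiL_embT D.le, chiL_zero]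

theorem StabData.chiL_res_indFun (D : StabData M N T b) {ψ : IrrCharacter T} (hψ : ψ ∈ overB T b) :
    chiL (fun n : N => indFun T ψ.1 (n : G)) (blockIdem b) = ψ.1 1 := by
  classical
  have h := Char.resFun_indFun_of_le N T ψ.1 D.le 1 (fun n : N => ψ.1 ⟨(n : G), D.le n.2⟩)
    fun n => (one_mul _).symm
  rw [show (fun n : N => indFun T ψ.1 (n : G)) = Char.resFun N (indFun T ψ.1) from rfl, h, one_mul,
    chiL_eq_sum]
  simp only [Pi.smul_apply, Finset.sum_apply, smul_eq_mul, mul_left_comm _ ((Nat.card T : ℂ)⁻¹),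
    Finset.mul_sum]
  rw [Finset.sum_comm]
  simp only [← Finset.mul_sum]
  rw [Finset.sum_congr rfl fun x _ => (chiL_eq_sum _ _).symm.trans (D.chiL_conj hψ x),
    Finset.sum_ite, Finset.sum_const_zero, add_zero, Finset.sum_const, nsmul_eq_mul,
    show Finset.card {x : G | x ∈ T} = Nat.card T by
      rw [Nat.card_eq_fintype_card, Fintype.card_subtype],
    ← mul_assoc, inv_mul_cancel₀ (Nat.cast_ne_zero.2 Nat.card_pos.ne'), one_mul]

theorem StabData.classInner_indFun (D : StabData M N T b) {ψ ψ' : IrrCharacter T}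
    (hψ : ψ ∈ overB T b) (hψ' : ψ' ∈ overB T b) [Decidable (ψ = ψ')] :
    classInner (indFun T ψ.1) (indFun T ψ'.1) = if ψ = ψ' then 1 else 0 := by
  classical
  have hind := Char.isCharacter_indFun T (Char.irr_isCharacter ψ)
  obtain ⟨m, hm, hm'⟩ := Char.IsCharacter.exists_decomp (Char.IsCharacter.restrict hind T)
  have hm2 : ∀ η : IrrCharacter T, classInner (indFun T η.1) (indFun T ψ.1) = m η := fun η => by
    rw [Char.classInner_indFun T _ (Char.isClassFunction_indFun T _), ← Char.conj_classInner, hm' η]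
    simp
  have htot : ((∑ η ∈ Finset.univ.filter (· ∈ overB T b), m η * Char.degree η : ℕ) : ℂ) =
      (Char.degree ψ : ℂ) := by
    rw [← Char.apply_one_eq_degree ψ, ← D.chiL_res_indFun hψ]
    have e : (fun n : N => indFun T ψ.1 (n : G)) = ∑ η : IrrCharacter T,
        (m η : ℂ) • fun n : N => η.1 ⟨(n : G), D.le n.2⟩ := by
      funext n
      refine (congrFun hm (Subgroup.inclusion D.le n)).trans ?_
      simp only [Finset.sum_apply, Pi.smul_apply]
      rfl
    rw [e, chiL_eq_sum]
    simp only [Finset.sum_apply, Pi.smul_apply, smul_eq_mul, Finset.mul_sum]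
    rw [Finset.sum_comm, Nat.cast_sum, Finset.sum_filter]
    refine Finset.sum_congr rfl fun η _ => ?_
    simp only [mul_left_comm _ ((m η : ℂ)), ← Finset.mul_sum]
    rw [← chiL_eq_sum, ← chiL_embT D.le]
    split_ifs with h
    · have h2 : omega η.1 (embT N T (blockIdem b)) = 1 := h
      rw [omega, div_eq_one_iff_eq (irr_one_ne_zero η)] at h2
      rw [h2, Char.apply_one_eq_degree, Nat.cast_mul]
    · have h2 := (D.omega_eq η).resolve_right h
      rw [omega, div_eq_zero_iff] at h2
      rw [h2.resolve_right (irr_one_ne_zero η), mul_zero]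
  have htot' : ∑ η ∈ Finset.univ.filter (· ∈ overB T b), m η * Char.degree η = Char.degree ψ := by
    exact_mod_cast htot
  have hψ1 : m ψ ≠ 0 := fun h => by
    have := hm2 ψ
    rw [h, Nat.cast_zero] at this
    have := congrFun (Char.classInner_self_eq_zero this) 1
    rw [Char.indFun_apply_one, Pi.zero_apply] at this
    rcases mul_eq_zero.1 this with h' | h'
    · exact Subgroup.index_ne_zero_of_finite (Nat.cast_eq_zero.1 h')
    · exact irr_one_ne_zero ψ h'
  have hmem : ∀ η : IrrCharacter T, η ∈ overB T b →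
      η ∈ Finset.univ.filter (· ∈ overB T b) := fun η h => Finset.mem_filter.2 ⟨Finset.mem_univ η, h⟩
  have hge : Char.degree ψ ≤ m ψ * Char.degree ψ :=
    Nat.le_mul_of_pos_left _ (Nat.pos_of_ne_zero hψ1)
  split_ifs with h
  · subst h
    have h2 : m ψ * Char.degree ψ ≤ Char.degree ψ := htot'.symm ▸
      Finset.single_le_sum (f := fun η => m η * Char.degree η) (fun _ _ => Nat.zero_le _) (hmem ψ hψ)
    have : m ψ = 1 := by
      have := Nat.le_of_mul_le_mul_right (h2.trans_eq (one_mul _).symm) (Char.degree_pos ψ)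
      omega
    rw [hm2, this, Nat.cast_one]
  · have h2 : m ψ * Char.degree ψ + m ψ' * Char.degree ψ' ≤ Char.degree ψ := by
      rw [← Finset.sum_pair (f := fun η => m η * Char.degree η) h]
      refine le_of_le_of_eq (Finset.sum_le_sum_of_subset ?_) htot'
      intro η hη
      rcases Finset.mem_insert.1 hη with rfl | hη
      · exact hmem _ hψ
      · rw [Finset.mem_singleton.1 hη]; exact hmem _ hψ'
    have h3 : m ψ' * Char.degree ψ' = 0 := by omega
    rw [← Char.conj_classInner, hm2,
      (Nat.mul_eq_zero.1 h3).resolve_right (Char.degree_pos ψ').ne', Nat.cast_zero, map_zero]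

theorem StabData.isIrr_indFun (D : StabData M N T b) {ψ : IrrCharacter T} (hψ : ψ ∈ overB T b) :
    IsIrrCharacter G (indFun T ψ.1) := by
  classical
  exact Char.isIrrCharacter_iff.2 ⟨Char.isCharacter_indFun T (Char.irr_isCharacter ψ),
    by rw [D.classInner_indFun hψ hψ, if_pos rfl]⟩

open Classical in
/-- Induction from the stabilizer. -/
noncomputable def frMap (T : Subgroup G) (χ₀ : IrrCharacter G) (ψ : IrrCharacter T) :
    IrrCharacter G :=
  if h : IsIrrCharacter G (indFun T ψ.1) then ⟨_, h⟩ else χ₀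

theorem StabData.frMap_coe (D : StabData M N T b) {ψ : IrrCharacter T} (hψ : ψ ∈ overB T b) :
    (frMap T (Char.trivialChar G) ψ).1 = indFun T ψ.1 := by
  rw [frMap, dif_pos (D.isIrr_indFun hψ)]

theorem StabData.frMap_injOn (D : StabData M N T b) :
    Set.InjOn (frMap T (Char.trivialChar G)) (overB T b) := by
  classical
  intro ψ hψ ψ' hψ' h
  by_contra hne
  have h0 := D.classInner_indFun hψ hψ'
  rw [if_neg hne, ← D.frMap_coe hψ, ← D.frMap_coe hψ', ← h,
    Char.classInner_irr_self (frMap T (Char.trivialChar G) ψ).2] at h0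
  exact one_ne_zero h0

theorem StabData.exists_over_T (D : StabData M N T b) {χ : IrrCharacter G} {θ : IrrCharacter N}
    (hθ : θ ∈ b) (hc : classInner (fun n : N => χ.1 n) θ.1 ≠ 0) :
    ∃ ψ ∈ overB T b, χ.1 = indFun T ψ.1 := by
  classical
  obtain ⟨m, hm, hm'⟩ := Char.IsCharacter.exists_decomp
    (Char.IsCharacter.restrict (Char.irr_isCharacter χ) T)
  obtain ⟨ψ, hψ0, hψ⟩ : ∃ ψ : IrrCharacter T, m ψ ≠ 0 ∧
      classInner (fun n : N => ψ.1 ⟨(n : G), D.le n.2⟩) θ.1 ≠ 0 := by
    by_contra! hcon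
    refine hc ?_
    have hrw : (fun n : N => χ.1 n) =
        ∑ ψ : IrrCharacter T, (m ψ : ℂ) • fun n : N => ψ.1 ⟨(n : G), D.le n.2⟩ := by
      funext n
      refine (congrFun hm (Subgroup.inclusion D.le n)).trans ?_
      simp only [Finset.sum_apply, Pi.smul_apply]
      rfl
    rw [hrw, Char.classInner_sum_left]
    refine Finset.sum_eq_zero fun ψ _ => ?_
    rw [Char.classInner_smul_left]
    by_cases h0 : m ψ = 0
    · rw [h0, Nat.cast_zero, zero_mul]
    · rw [hcon ψ h0, mul_zero]
  have hmem := (D.mem_overB_iff ψ).2 ⟨θ, hθ, hψ⟩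
  refine ⟨ψ, hmem, ?_⟩
  by_contra hne
  have h0 := Char.classInner_irr_of_ne χ.2 (D.isIrr_indFun hmem) hne
  rw [Char.classInner_indFun_right _ _ (Char.IsCharacter.isClassFunction (Char.irr_isCharacter χ)),
    show classInner (fun h : T => χ.1 h) ψ.1 = (m ψ : ℂ) from hm' ψ] at h0
  exact hψ0 (Nat.cast_eq_zero.1 h0)

/-- The image of a block over `b` is the induced block. -/
theorem StabData.image_block (D : StabData M N T b) {B' : Set (IrrCharacter T)}
    (hB' : IsPBlock M B') (hsub : B' ⊆ overB T b) {ψ : IrrCharacter T} (hψ : ψ ∈ B') :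
    frMap T (Char.trivialChar G) '' B' = blockOf M (frMap T (Char.trivialChar G) ψ).1 := by
  classical
  refine Set.Subset.antisymm ?_ ?_
  · rintro _ ⟨η, hη, rfl⟩ g
    rw [D.frMap_coe (hsub hψ), D.frMap_coe (hsub hη), centralChar_indFun, centralChar_indFun,
      ← omega_resH_classSum, ← omega_resH_classSum]
    exact SameBlock.omega_sub (sameBlock_of_mem hB' hψ hη)
      (isCentralElt_resH (isCentralElt_classSum g)) (scoeff_resH (scoeff_classSum g))
  · refine blockOf_subset_of_scoeff (fun g => ?_) ⟨ψ, hψ, rfl⟩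
    rw [coeff_blockIdem, blockCoeff_image_indFun T _ (fun η hη => D.frMap_coe (hsub hη))
      (D.frMap_injOn.mono hsub)]
    refine memLocalRing_indFun T (fun a c => ?_) (fun t => memLocalRing_blockCoeff hB' t) g
    have := isCentralElt_blockIdem B' a c
    rwa [coeff_blockIdem, coeff_blockIdem] at this

theorem StabData.isInducedBlock (D : StabData M N T b) {B' : Set (IrrCharacter T)}
    (hB' : IsPBlock M B') (hsub : B' ⊆ overB T b) :
    IsInducedBlock M T B' (frMap T (Char.trivialChar G) '' B') := by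
  obtain ⟨ψ, hψ⟩ := block_nonempty hB'
  have hB : IsPBlock M (frMap T (Char.trivialChar G) '' B') :=
    D.image_block hB' hsub hψ ▸ isPBlock_blockOf _
  refine ⟨hB', hB, fun ξ hξ χ hχ g => ?_⟩
  have h := sameBlock_of_mem hB (Set.mem_image_of_mem _ hξ) hχ g
  rwa [D.frMap_coe (hsub hξ), centralChar_indFun] at h

theorem StabData.eq_image_of_induced (D : StabData M N T b) {B' : Set (IrrCharacter T)}
    (hsub : B' ⊆ overB T b) {B : Set (IrrCharacter G)} (h : IsInducedBlock M T B' B) :
    B = frMap T (Char.trivialChar G) '' B' := by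
  obtain ⟨ψ, hψ⟩ := block_nonempty h.1
  obtain ⟨χ, hχ⟩ := block_nonempty h.2.1
  rw [D.image_block h.1 hsub hψ, block_eq h.2.1 hχ]
  refine (blockOf_eq fun g => ?_).symm
  have := h.2.2 ψ hψ χ hχ g
  rwa [← centralChar_indFun, ← D.frMap_coe (hsub hψ)] at this

variable {p : ℕ} [hp : Fact p.Prime]

theorem StabData.degree_frMap (D : StabData M N T b) {ψ : IrrCharacter T} (hψ : ψ ∈ overB T b) :
    (Char.degree (frMap T (Char.trivialChar G) ψ)).factorization p =
      T.index.factorization p + (Char.degree ψ).factorization p := by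
  have h : (Char.degree (frMap T (Char.trivialChar G) ψ) : ℂ) =
      ((T.index * Char.degree ψ : ℕ) : ℂ) := by
    rw [← Char.apply_one_eq_degree, D.frMap_coe hψ, Char.indFun_apply_one,
      Char.apply_one_eq_degree, Nat.cast_mul]
  rw [Nat.cast_inj.1 h, Nat.factorization_mul Subgroup.index_ne_zero_of_finite
    (Char.degree_pos ψ).ne', Finsupp.add_apply]

theorem StabData.sInf_image (D : StabData M N T b) {B' : Set (IrrCharacter T)}
    (hne : B'.Nonempty) (hsub : B' ⊆ overB T b) :
    sInf ((fun χ : IrrCharacter G => (charDegree χ.1).factorization p) ''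
        (frMap T (Char.trivialChar G) '' B')) =
      T.index.factorization p +
        sInf ((fun ψ : IrrCharacter T => (charDegree ψ.1).factorization p) '' B') := by
  obtain ⟨ψ₀, hψ₀, he⟩ :=
    Nat.sInf_mem (hne.image fun ψ : IrrCharacter T => (charDegree ψ.1).factorization p)
  simp only [charDegree_eq] at he ⊢
  refine le_antisymm (Nat.sInf_le ⟨_, Set.mem_image_of_mem _ hψ₀, ?_⟩)
    (le_csInf ((hne.image _).image _) ?_)
  · show (Char.degree _).factorization p = _
    rw [D.degree_frMap (hsub hψ₀), ← he]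
  · rintro _ ⟨_, ⟨ψ, hψ, rfl⟩, rfl⟩
    dsimp only
    rw [D.degree_frMap (hsub hψ)]
    exact Nat.add_le_add_left (Nat.sInf_le (Set.mem_image_of_mem _ hψ)) _

theorem StabData.height_frMap (D : StabData M N T b) {B' : Set (IrrCharacter T)}
    (hsub : B' ⊆ overB T b) {ψ : IrrCharacter T} (hψ : ψ ∈ B') :
    blockHeight p (frMap T (Char.trivialChar G) '' B') (frMap T (Char.trivialChar G) ψ).1 =
      blockHeight p B' ψ.1 := by
  have hne : B'.Nonempty := ⟨ψ, hψ⟩
  rw [blockHeight, blockHeight, D.sInf_image hne hsub, charDegree_eq,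
    D.degree_frMap (hsub hψ), charDegree_eq]
  omega

theorem StabData.defect_image (D : StabData M N T b) {B' : Set (IrrCharacter T)}
    (hne : B'.Nonempty) (hsub : B' ⊆ overB T b) :
    blockDefect p (frMap T (Char.trivialChar G) '' B') = blockDefect p B' := by
  have hG : (Nat.card G).factorization p =
      (Nat.card T).factorization p + T.index.factorization p := by
    rw [← T.card_mul_index, Nat.factorization_mul Nat.card_pos.ne'
      Subgroup.index_ne_zero_of_finite, Finsupp.add_apply]
  rw [blockDefect, blockDefect, D.sInf_image hne hsub, hG]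
  omega

theorem StabData.defectGroup (D : StabData M N T b) (hpM : (p : AlgInt) ∈ M)
    {B' : Set (IrrCharacter T)} (hsub : B' ⊆ overB T b) {B : Set (IrrCharacter G)}
    (h : IsInducedBlock M T B' B) {Q : Subgroup T} (hQ : IsDefectGroup p M B' Q) :
    IsDefectGroup p M B (Q.map T.subtype) := by
  obtain ⟨E, hE, hle⟩ := IsInducedBlock.exists_defectGroup_ge hpM h hQ
  have hcard : Nat.card E ≤ Nat.card (Q.map T.subtype) := by
    rw [Subgroup.card_map_of_injective T.subtype_injective, card_defectGroup hpM h.2.1 hE,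
      card_defectGroup hpM h.1 hQ, D.eq_image_of_induced hsub h,
      D.defect_image (block_nonempty h.1) hsub]
  rwa [Subgroup.eq_of_le_of_card_ge hle hcard]

end Stabilizer

end Cfsg.Agent.BlocksX
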