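import Cfsg.Agent.Lib.BlocksX.Incl
import Mathlib.RingTheory.Artinian.Module
import Mathlib.RingTheory.SimpleModule.Basic
import Mathlib.RingTheory.Jacobson.Radical

/-!
# Annihilator and trace ideal of a block ideal in the algebra of a normal subgroup

For a central idempotent `e` of `k[G]` the annihilator of `k[G] e` in `k[N]` and the set of
restrictions of elements of `k[G] e` are complementary two-sided ideals.
-/

set_option linter.style.haveILetI false
set_option linter.unusedSectionVars false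

namespace Cfsg.Agent.BlocksX

open MonoidAlgebra Cfsg.Agent.Blocks

theorem eq_zero_of_idem_two_sided {Q : Type*} [Ring Q] [IsSemisimpleRing Q] {x : Q}
    (h : ∀ a b : Q, a * x * (b * x) = 0) : x = 0 := by
  have hx : x ∈ Ideal.jacobson (⊥ : Ideal Q) := by
    rw [Ideal.mem_jacobson_iff]
    intro y
    refine ⟨1 - y * x, ?_⟩
    rw [Ideal.mem_bot]
    have := h y y
    calc (1 - y * x) * y * x + (1 - y * x) - 1 = -(y * x * (y * x)) := by noncomm_ring
      _ = 0 := by rw [this, neg_zero]
  rw [Ideal.jacobson_bot, IsSemisimpleRing.jacobson_eq_bot] at hx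
  exact (Submodule.mem_bot Q).1 hx

/-- A two-sided ideal of a semisimple ring is generated by a central idempotent. -/
theorem exists_central_idem {Q : Type*} [Ring Q] [IsSemisimpleRing Q] (I : Ideal Q)
    [I.IsTwoSided] : ∃ u ∈ I, u * u = u ∧ (∀ a, u * a = a * u) ∧ ∀ a ∈ I, a * u = a := by
  obtain ⟨u, hu, hI⟩ := IsSemisimpleRing.ideal_eq_span_idempotent I
  have huI : u ∈ I := hI ▸ Ideal.subset_span rfl
  have hr : ∀ a ∈ I, a * u = a := fun a ha => by
    rw [hI, Ideal.mem_span_singleton'] at ha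
    obtain ⟨r, rfl⟩ := ha
    rw [mul_assoc, hu.eq]
  refine ⟨u, huI, hu.eq, fun a => ?_, hr⟩
  have h1 : u * a * u = u * a := hr _ (I.mul_mem_right a huI)
  have hx : a * u - u * a * u = 0 := by
    set x := a * u - u * a * u with hx
    have hxI : x ∈ I := sub_mem (I.mul_mem_left a huI) (I.mul_mem_left _ huI)
    have hux : u * x = 0 := by
      rw [hx, mul_sub, ← mul_assoc, ← mul_assoc, ← mul_assoc, hu.eq, sub_self]
    refine eq_zero_of_idem_two_sided fun r s => ?_
    have h2 : u * s * u = u * s := hr _ (I.mul_mem_right s huI)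
    calc r * x * (s * x) = r * (x * u) * (s * x) := by rw [hr x hxI]
      _ = r * x * (u * s * x) := by simp only [mul_assoc]
      _ = r * x * (u * s * (u * x)) := by rw [← mul_assoc (u * s) u x, h2]
      _ = 0 := by rw [hux, mul_zero, mul_zero]
  rw [sub_eq_zero] at hx
  rw [hx, h1]

variable {k : Type*} [CommRing k] [IsArtinianRing k] {G : Type*} [Group G] [Finite G] {N : Subgroup G} [hN : N.Normal]

theorem conjA_mem_jacobson (g : G) {a : MonoidAlgebra k N}
    (ha : a ∈ Ring.jacobson (MonoidAlgebra k N)) :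
    conjA g a ∈ Ring.jacobson (MonoidAlgebra k N) := by
  rw [← Ideal.jacobson_bot, Ideal.mem_jacobson_iff] at ha ⊢
  intro y
  obtain ⟨z, hz⟩ := ha (conjA g⁻¹ y)
  refine ⟨conjA g z, ?_⟩
  rw [Ideal.mem_bot] at hz ⊢
  have := congrArg (conjA g) hz
  rwa [conjA_sub, conjA_add, conjA_mul, conjA_mul, conjA_conjA_inv, conjA_one, conjA_zero] at this

/-- Membership of all coset components in an ideal. -/
def LiftI (I : Ideal (MonoidAlgebra k N)) (z : MonoidAlgebra k G) : Prop :=
  ∀ g, resH N (MonoidAlgebra.single g 1 * z) ∈ I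

theorem LiftI.mul {I J : Ideal (MonoidAlgebra k N)} (hI : ∀ g, ∀ a ∈ I, conjA g a ∈ I)
    {y z : MonoidAlgebra k G} (hy : LiftI I y) (hz : LiftI J z) : LiftI (I * J) (y * z) := by
  intro g
  haveI := Fintype.ofFinite (G ⧸ N)
  rw [eq_sum_single_mul_incl (N := N) z, Finset.mul_sum, Finset.mul_sum, resH_sum]
  refine Submodule.sum_mem _ fun q _ => ?_
  have e : MonoidAlgebra.single g (1 : k) * (y * (MonoidAlgebra.single q.out 1 *
      incl N (resH N (MonoidAlgebra.single q.out⁻¹ 1 * z)))) =
      MonoidAlgebra.single g (1 : k) * y * MonoidAlgebra.single q.out 1 *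
      incl N (resH N (MonoidAlgebra.single q.out⁻¹ 1 * z)) := by simp only [mul_assoc]
  rw [e, resH_mul_incl]
  refine Ideal.mul_mem_mul ?_ (hz _)
  have h1 := hI q.out⁻¹ _ (hy (q.out * g))
  have e2 : resH N (MonoidAlgebra.single g (1 : k) * y * MonoidAlgebra.single q.out 1) =
      conjA q.out⁻¹ (resH N (MonoidAlgebra.single (q.out * g) (1 : k) * y)) := by
    refine alg_ext fun n => ?_
    rw [conjA, coeff_resH, coeff_resH, inv_inv, coeff_mul_single', coeff_mul_single', mul_one,
      mul_one, coeff_single_mul', coeff_single_mul', one_mul, one_mul, inv_inv]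
    have hmem : q.out * ((n : G) * q.out⁻¹) ∈ N := by
      rw [← mul_assoc]; exact hN.conj_mem _ n.2 q.out
    rw [show q.out * ((n : G) * q.out⁻¹) = ((⟨_, hmem⟩ : N) : G) from rfl, coeff_incl_coe,
      coeff_resH, coeff_single_mul', one_mul]
    congr 1
    group
  rw [e2]
  exact h1

/-- The annihilator of `k[G] e` in `k[N]` and the trace ideal are complementary. -/
theorem exists_ann_trace (e : MonoidAlgebra k G) (hec : ∀ z, Commute e z) (hee : e * e = e) :
    ∃ a₁ : MonoidAlgebra k N, IsCentralElt a₁ ∧ a₁ * a₁ = a₁ ∧ incl N a₁ * e = 0 ∧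
      ∃ y : MonoidAlgebra k G, 1 - a₁ = resH N (y * e) := by
  classical
  haveI := Fintype.ofFinite G
  haveI := Fintype.ofFinite N
  haveI : Module.Finite k (MonoidAlgebra k N) :=
    Module.Finite.of_surjective (∑ x : N, (LinearMap.proj (R := k) (φ := fun _ : N => k) x).smulRight
      (MonoidAlgebra.single x (1 : k))) fun z => ⟨fun x => z.coeff x, by
        conv_rhs => rw [eq_sum_single z]
        simp [MonoidAlgebra.smul_single]⟩
  haveI : IsArtinianRing (MonoidAlgebra k N) := IsArtinianRing.of_finite k _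
  set J := Ring.jacobson (MonoidAlgebra k N) with hJ
  let tau : Ideal (MonoidAlgebra k N) :=
    { carrier := {a | ∃ y, resH N (y * e) = a}
      add_mem' := by
        rintro a b ⟨y, rfl⟩ ⟨z, rfl⟩
        exact ⟨y + z, by rw [add_mul, resH_add]⟩
      zero_mem' := ⟨0, by rw [zero_mul, resH_zero]⟩
      smul_mem' := by
        rintro c a ⟨y, rfl⟩
        exact ⟨incl N c * y, by rw [mul_assoc, resH_incl_mul]; rfl⟩ }
  let ann : Ideal (MonoidAlgebra k N) :=
    { carrier := {a | incl N a * e = 0}
      add_mem' := fun {a b} ha hb => by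
        show incl N (a + b) * e = 0
        rw [incl_add, add_mul, ha, hb, add_zero]
      zero_mem' := by show incl N 0 * e = 0; rw [incl_zero, zero_mul]
      smul_mem' := fun c a ha => by
        show incl N (c * a) * e = 0
        rw [incl_mul, mul_assoc, show incl N a * e = 0 from ha, mul_zero] }
  have htauR : ∀ a ∈ tau, ∀ c, a * c ∈ tau := by
    rintro a ⟨y, rfl⟩ c
    exact ⟨y * incl N c, by rw [mul_assoc, ← (hec (incl N c)).eq, ← mul_assoc, resH_mul_incl]⟩
  have hannR : ∀ a ∈ ann, ∀ c, a * c ∈ ann := fun a ha c => by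
    show incl N (a * c) * e = 0
    rw [incl_mul, mul_assoc, ← (hec (incl N c)).eq, ← mul_assoc, show incl N a * e = 0 from ha,
      zero_mul]
  have hannConj : ∀ g, ∀ a ∈ ann, conjA g a ∈ ann := fun g a ha => by
    show incl N (conjA g a) * e = 0
    rw [incl_conjA, mul_assoc, ← (hec _).eq, ← mul_assoc, mul_assoc (MonoidAlgebra.single g (1 : k)),
      show incl N a * e = 0 from ha, mul_zero, zero_mul]
  have htauConj : ∀ g, ∀ a ∈ tau, conjA g a ∈ tau := by
    rintro g a ⟨y, rfl⟩
    refine ⟨MonoidAlgebra.single g 1 * y * MonoidAlgebra.single g⁻¹ 1, ?_⟩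
    rw [mul_assoc (MonoidAlgebra.single g (1 : k) * y), ← (hec _).eq, ← mul_assoc,
      mul_assoc (MonoidAlgebra.single g (1 : k)) y e]
    refine alg_ext fun n => ?_
    rw [conjA, coeff_resH, coeff_resH, coeff_mul_single', coeff_mul_single', coeff_single_mul',
      coeff_single_mul', inv_inv, mul_one, mul_one, one_mul, one_mul]
    have hmem : g⁻¹ * ((n : G) * g) ∈ N := by
      simpa [mul_assoc] using hN.conj_mem _ n.2 g⁻¹
    rw [show g⁻¹ * ((n : G) * g) = ((⟨_, hmem⟩ : N) : G) from rfl, coeff_incl_coe, coeff_resH]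
  set b : Ideal (MonoidAlgebra k N) := tau ⊔ ann with hb
  haveI : b.IsTwoSided := ⟨fun {a} c ha => by
    obtain ⟨t, ht, s, hs, rfl⟩ := Submodule.mem_sup.1 ha
    rw [add_mul]
    exact Submodule.add_mem_sup (htauR t ht c) (hannR s hs c)⟩
  have hbConj : ∀ g, ∀ a ∈ b, conjA g a ∈ b := fun g a ha => by
    obtain ⟨t, ht, s, hs, rfl⟩ := Submodule.mem_sup.1 ha
    rw [conjA_add]
    exact Submodule.add_mem_sup (htauConj g t ht) (hannConj g s hs)
  have hJn : IsNilpotent J := IsSemiprimaryRing.isNilpotent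
  haveI : IsSemisimpleRing (MonoidAlgebra k N ⧸ J) := IsSemiprimaryRing.isSemisimpleRing
  set π := Ideal.Quotient.mk J with hπ
  have hπs : Function.Surjective π := Ideal.Quotient.mk_surjective
  have hmap : ∀ x, x ∈ b.map π ↔ ∃ a ∈ b, π a = x := fun x =>
    Ideal.mem_map_iff_of_surjective π hπs
  haveI : (b.map π).IsTwoSided := ⟨fun {x} c hx => by
    obtain ⟨a, ha, rfl⟩ := (hmap x).1 hx
    obtain ⟨c, rfl⟩ := hπs c
    exact (hmap _).2 ⟨a * c, b.mul_mem_right c ha, map_mul π a c⟩⟩
  obtain ⟨ub, hub, -, hcomm, hright⟩ := exists_central_idem (b.map π)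
  obtain ⟨u, hu, rfl⟩ := (hmap ub).1 hub
  have hπconj : ∀ g a a', π a = π a' → π (conjA g a) = π (conjA g a') := fun g a a' h => by
    rw [Ideal.Quotient.eq] at h ⊢
    rw [← conjA_sub]
    exact conjA_mem_jacobson g h
  have huconj : ∀ g, π (conjA g u) = π u := by
    intro g
    have h1 : π (conjA g u) * π u = π (conjA g u) :=
      hright _ ((hmap _).2 ⟨_, hbConj g u hu, rfl⟩)
    have h2 : π (conjA g⁻¹ u * u) = π (conjA g⁻¹ u) := by
      rw [map_mul]; exact hright _ ((hmap _).2 ⟨_, hbConj g⁻¹ u hu, rfl⟩)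
    have h3 := hπconj g _ _ h2
    rw [conjA_mul, conjA_conjA_inv, map_mul, hcomm] at h3
    exact h1.symm.trans h3
  set c : MonoidAlgebra k N := 1 - u with hc
  have hcb : ∀ t ∈ b, c * t ∈ J := fun t ht => by
    rw [← Ideal.Quotient.eq_zero_iff_mem]
    change π (c * t) = 0
    rw [map_mul, hc, map_sub, map_one, sub_mul, one_mul, hcomm, hright _ ((hmap _).2 ⟨t, ht, rfl⟩),
      sub_self]
  -- `incl c * e` lies over the radical
  have hce : LiftI J (incl N c * e) := by
    intro g
    rw [← mul_assoc, single_mul_incl, mul_assoc, resH_incl_mul]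
    have h1 : conjA g c - c ∈ J := by
      rw [← Ideal.Quotient.eq]
      change π (conjA g c) = π c
      rw [hc, conjA_sub, conjA_one, map_sub, map_sub, huconj]
    have h2 : resH N (MonoidAlgebra.single g 1 * e) ∈ b :=
      Submodule.mem_sup_left ⟨MonoidAlgebra.single g 1, rfl⟩
    rw [show conjA g c = (conjA g c - c) + c by rw [sub_add_cancel], add_mul]
    exact J.add_mem (J.mul_mem_right _ h1) (hcb _ h2)
  have hJconj : ∀ n : ℕ, ∀ g, ∀ a ∈ J ^ n, conjA g a ∈ J ^ n := by
    intro n
    induction n with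
    | zero => intro g a _; rw [Submodule.pow_zero, Ideal.one_eq_top]; exact Submodule.mem_top
    | succ n ih =>
      intro g a ha
      rw [Submodule.pow_succ] at ha ⊢
      induction ha using Submodule.mul_induction_on' with
      | mem_mul_mem x hx y hy =>
        rw [conjA_mul]
        exact Ideal.mul_mem_mul (ih g x hx) (conjA_mem_jacobson g hy)
      | add x _ y _ hx hy => rw [conjA_add]; exact add_mem hx hy
  have hpow : ∀ n : ℕ, LiftI (J ^ n) (incl N (c ^ n) * e) := by
    intro n
    induction n with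
    | zero => intro g; rw [Submodule.pow_zero, Ideal.one_eq_top]; exact Submodule.mem_top
    | succ n ih =>
      rw [Submodule.pow_succ, pow_succ, incl_mul]
      have := LiftI.mul (hJconj n) ih hce
      rwa [mul_assoc (incl N (c ^ n)), ← mul_assoc e, (hec (incl N c)).eq, mul_assoc (incl N c),
        hee, ← mul_assoc] at this
  obtain ⟨n, hn⟩ := hJn
  have hn1 : J ^ (n + 1) = ⊥ := by rw [Submodule.pow_succ, hn]; simp
  have hcn : c ^ (n + 1) ∈ ann := by
    show incl N (c ^ (n + 1)) * e = 0
    refine eq_zero_of_resH_single_mul (N := N) fun g => ?_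
    have := hpow (n + 1) g
    rwa [hn1, Submodule.mem_bot] at this
  have hcidem : π c * π c = π c := by
    rw [hc, map_sub, map_one, sub_mul, one_mul, mul_sub, mul_one,
      hright _ ((hmap _).2 ⟨u, hu, rfl⟩), sub_self, sub_zero]
  have hπc : π c = 0 := by
    have h1 : π (c ^ (n + 1)) = π c := by
      rw [map_pow]
      clear hn hn1 hcn
      induction n with
      | zero => rw [pow_one]
      | succ n ih => rw [pow_succ, ih, hcidem]
    have h2 := hright _ ((hmap _).2 ⟨_, Submodule.mem_sup_right hcn, rfl⟩)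
    rw [h1, hc, map_sub, map_one, sub_mul, one_mul, hright _ ((hmap _).2 ⟨u, hu, rfl⟩),
      sub_self] at h2
    rw [hc, map_sub, map_one]
    exact h2.symm
  have hcJ : c ∈ J := Ideal.Quotient.eq_zero_iff_mem.1 hπc
  have hcnil : IsNilpotent c := ⟨n, by
    have hp : ∀ m : ℕ, c ^ m ∈ J ^ m := by
      intro m
      induction m with
      | zero => rw [Submodule.pow_zero, Ideal.one_eq_top]; exact Submodule.mem_top
      | succ m ih => rw [Submodule.pow_succ, pow_succ]; exact Ideal.mul_mem_mul ih hcJ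
    have h := hp n
    rw [hn] at h
    exact (Submodule.mem_bot _).1 h⟩
  have hunit : IsUnit u := by
    have := IsNilpotent.isUnit_one_sub hcnil
    rwa [hc, sub_sub_cancel] at this
  have htop : (1 : MonoidAlgebra k N) ∈ b := by
    obtain ⟨v, hv⟩ := hunit.exists_left_inv
    exact hv ▸ b.mul_mem_left v hu
  obtain ⟨t, ⟨y, rfl⟩, a₁, ha₁, hsum⟩ := Submodule.mem_sup.1 htop
  have hat : ∀ a ∈ ann, ∀ z, a * resH N (z * e) = 0 := by
    intro a ha z
    rw [← resH_incl_mul, ← mul_assoc]
    haveI := Fintype.ofFinite (G ⧸ N)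
    suffices h : incl N a * z * e = 0 by rw [h, resH_zero]
    rw [eq_sum_single_mul_incl (N := N) z, Finset.mul_sum, Finset.sum_mul]
    refine Finset.sum_eq_zero fun q _ => ?_
    rw [mul_assoc, mul_assoc (MonoidAlgebra.single q.out (1 : k)), ← (hec (incl N _)).eq,
      ← mul_assoc (MonoidAlgebra.single q.out (1 : k)), ← (hec (MonoidAlgebra.single q.out (1 : k))).eq,
      ← mul_assoc (incl N a), ← mul_assoc (incl N a), show incl N a * e = 0 from ha, zero_mul,
      zero_mul]
  have hta : ∀ a ∈ ann, ∀ z, resH N (z * e) * a = 0 := by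
    intro a ha z
    rw [← resH_mul_incl, mul_assoc, (hec (incl N a)).eq, show incl N a * e = 0 from ha, mul_zero,
      resH_zero]
  have hid : a₁ * a₁ = a₁ := by
    conv_rhs => rw [← one_mul a₁, ← hsum]
    rw [add_mul, hta a₁ ha₁, zero_add]
  refine ⟨a₁, isCentralElt_iff_commute.2 fun x => ?_, hid, ha₁, y, ?_⟩
  · set z := MonoidAlgebra.single x (1 : k)
    have h1 : a₁ * z = a₁ * z * a₁ := by
      conv_lhs => rw [← mul_one (a₁ * z), ← hsum]
      rw [mul_add, hat _ (hannR _ ha₁ z), zero_add]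
    have h2 : z * a₁ = a₁ * (z * a₁) := by
      conv_lhs => rw [← one_mul (z * a₁), ← hsum]
      rw [add_mul, hta _ (ann.mul_mem_left z ha₁), zero_add]
    show a₁ * z = z * a₁
    rw [h1, h2, mul_assoc]
  · rw [← hsum, add_sub_cancel_right]

end Cfsg.Agent.BlocksX
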