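import Cfsg.Agent.Lib.Blocks.Defect
import Cfsg.Agent.Lib.Blocks.PPart
import Cfsg.Agent.Lib.Char.Descend
import Cfsg.Agent.Lib.Char.Congruence

/-!
# Auxiliary facts for blocks relative to normal subgroups
-/

set_option linter.style.haveILetI false
set_option linter.unusedSectionVars false

namespace Cfsg.Agent.BlocksX

open Cfsg MonoidAlgebra Cfsg.Agent.Blocks
open scoped ComplexConjugate

universe u

variable {G : Type u} [Group G] [Finite G]

theorem isPModular_inst {p : ℕ} {M : Ideal AlgInt} (h : IsPModular p M) :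
    Fact p.Prime ∧ M.IsMaximal ∧ (p : AlgInt) ∈ M := ⟨⟨h.1⟩, h.2.1, h.2.2⟩

/-- Summation of a function of the coset. -/
theorem sum_comp_mk [Fintype G] (N : Subgroup G) [Fintype (G ⧸ N)] (f : G ⧸ N → ℂ) :
    ∑ x : G, f (x : G ⧸ N) = (Nat.card N : ℂ) * ∑ q : G ⧸ N, f q := by
  classical
  haveI := Fintype.ofFinite N
  rw [← Equiv.sum_comp (Subgroup.groupEquivQuotientProdSubgroup (s := N)).symm
    (fun x : G => f (x : G ⧸ N)), Fintype.sum_prod_type, Finset.mul_sum]
  refine Finset.sum_congr rfl fun q _ => ?_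
  have : ∀ n : N, f (((Subgroup.groupEquivQuotientProdSubgroup (s := N)).symm (q, n) : G) : G ⧸ N)
      = f q := by
    intro n
    congr 1
    have h := (Subgroup.groupEquivQuotientProdSubgroup (s := N)).apply_symm_apply (q, n)
    exact congrArg Prod.fst h
  rw [Finset.sum_congr rfl fun n _ => this n, Finset.sum_const, Finset.card_univ,
    nsmul_eq_mul, Nat.card_eq_fintype_card]

theorem chiL_ofFun [Fintype G] (χ f : G → ℂ) : chiL χ (ofFun f) = ∑ g, f g * χ g := by
  rw [chiL_eq_sum]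
  simp

theorem omega_ofFun [Fintype G] (χ f : G → ℂ) :
    omega χ (ofFun f) = (∑ g, f g * χ g) / χ 1 := by
  rw [omega, chiL_ofFun]

open Classical in
/-- Summing over conjugates with multiplicity. -/
theorem sum_conj_eq [Fintype G] (f : G → ℂ) (g : G) :
    ∑ x : G, f (x * g * x⁻¹) =
      (Nat.card (Subgroup.centralizer ({g} : Set G)) : ℂ) *
        ∑ h ∈ Finset.univ.filter (IsConj g), f h := by
  rw [← Finset.sum_fiberwise_of_maps_to (g := fun x : G => x * g * x⁻¹)
    (t := Finset.univ.filter (IsConj g)) (fun x _ => by simp [isConj_iff]), Finset.mul_sum]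
  refine Finset.sum_congr rfl fun h hh => ?_
  obtain ⟨c, rfl⟩ := isConj_iff.1 (Finset.mem_filter.1 hh).2
  rw [Finset.sum_congr rfl (g := fun _ => f (c * g * c⁻¹))
      (fun x hx => by rw [(Finset.mem_filter.1 hx).2]),
    Finset.sum_const, nsmul_eq_mul]
  congr 2
  rw [Nat.card_eq_fintype_card, ← Finset.card_univ]
  refine Finset.card_bij' (fun x _ => (⟨c⁻¹ * x, ?_⟩ : Subgroup.centralizer ({g} : Set G)))
    (fun y _ => c * (y : G)) ?_ ?_ ?_ ?_
  · rename_i hx
    have := (Finset.mem_filter.1 hx).2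
    rw [Subgroup.mem_centralizer_singleton_iff]
    calc c⁻¹ * x * g = c⁻¹ * (x * g * x⁻¹) * x := by group
      _ = c⁻¹ * (c * g * c⁻¹) * x := by rw [this]
      _ = g * (c⁻¹ * x) := by group
  · intro x hx; exact Finset.mem_univ _
  · intro y _
    refine Finset.mem_filter.2 ⟨Finset.mem_univ _, ?_⟩
    have hy := Subgroup.mem_centralizer_singleton_iff.1 y.2
    calc c * (y : G) * g * (c * (y : G))⁻¹ = c * ((y : G) * g) * (y : G)⁻¹ * c⁻¹ := by group
      _ = c * (g * (y : G)) * (y : G)⁻¹ * c⁻¹ := by rw [hy]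
      _ = c * g * c⁻¹ := by group
  · intro x hx; simp
  · intro y _; ext; simp

theorem memLocalRing_pow {M : Ideal AlgInt} [M.IsPrime] {z : ℂ} (hz : MemLocalRing M z) (n : ℕ) :
    MemLocalRing M (z ^ n) := by
  induction n with
  | zero => simpa using memLocalRing_one (M := M)
  | succ n ih => rw [pow_succ]; exact MemLocalRing.mul ih hz

section Regular

variable {p : ℕ} [hp : Fact p.Prime]

/-- The `p`-regular elements lie in every normal subgroup of `p`-power index. -/
theorem mem_of_isPRegular_of_index {N : Subgroup G} [N.Normal] (hidx : ∃ k : ℕ, N.index = p ^ k)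
    {g : G} (hg : IsPRegular p g) : g ∈ N := by
  obtain ⟨k, hk⟩ := hidx
  have h1 : orderOf (g : G ⧸ N) ∣ p ^ k := hk ▸ orderOf_dvd_natCard _
  have h2 : orderOf (g : G ⧸ N) ∣ orderOf g := orderOf_map_dvd (QuotientGroup.mk' N) g
  exact (QuotientGroup.eq_one_iff g).1 (eq_one_of_orderOf_dvd_coprime h1 h2
    (Nat.Coprime.pow_left _ ((Nat.Prime.coprime_iff_not_dvd hp.out).2 hg)))

/-- A `p`-regular element of a quotient has a `p`-regular preimage. -/
theorem exists_isPRegular_lift {N : Subgroup G} [N.Normal] {q : G ⧸ N} (hq : IsPRegular p q) :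
    ∃ g : G, IsPRegular p g ∧ (g : G ⧸ N) = q := by
  obtain ⟨g, rfl⟩ := QuotientGroup.mk_surjective q
  obtain ⟨x, hx⟩ := exists_isPPart (p := p) g
  obtain ⟨y, rfl, hc, ⟨k, hk⟩, hy⟩ := hx
  refine ⟨y, hy, ?_⟩
  have hxc : Commute (x : G ⧸ N) (y : G ⧸ N) := hc.map (QuotientGroup.mk' N)
  have h1 : orderOf (x : G ⧸ N) ∣ p ^ k := hk ▸ orderOf_map_dvd (QuotientGroup.mk' N) x
  have h2 : ¬ p ∣ orderOf (y : G ⧸ N) := fun h =>
    hy (h.trans (orderOf_map_dvd (QuotientGroup.mk' N) y))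
  obtain ⟨j, -, hj⟩ := (Nat.dvd_prime_pow hp.out).1 h1
  rcases Nat.eq_zero_or_pos j with rfl | hj0
  · rw [pow_zero, orderOf_eq_one_iff] at hj
    rw [QuotientGroup.mk_mul, hj, one_mul]
  · refine absurd ?_ hq
    rw [QuotientGroup.mk_mul, hxc.orderOf_mul_eq_mul_orderOf_of_coprime, hj]
    · exact dvd_mul_of_dvd_left (dvd_pow_self p hj0.ne') _
    · rw [hj]
      exact Nat.Coprime.pow_left _ ((Nat.Prime.coprime_iff_not_dvd hp.out).2 h2)

variable {M : Ideal AlgInt} [M.IsMaximal]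

/-- A character value lies in `M` as soon as its value at the `p'`-part does. -/
theorem memLocalIdeal_of_pPart (hpM : (p : AlgInt) ∈ M) {χ : G → ℂ} (hχ : IsCharacter G χ)
    {g x y : G} (he : x * y = g) (hc : Commute x y) (hx : ∃ k, orderOf x = p ^ k)
    (hy : MemLocalIdeal M (χ y)) : MemLocalIdeal M (χ g) := by
  obtain ⟨k, hk⟩ := hx
  set N := (Nat.card G).factorization p with hN
  obtain ⟨γ, hγ⟩ := Char.exists_char_pow_sub hp.out hχ g N
  obtain ⟨δ, hδ⟩ := Char.exists_char_pow_sub hp.out hχ y N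
  have hpow : g ^ p ^ N = y ^ p ^ N := by
    rw [← he]; exact Char.pow_pPart_eq hp.out hc hk N le_rfl
  have hint : ∀ z, MemLocalRing M (χ z) := fun z =>
    memLocalRing_of_isIntegral (CharInt.isIntegral_char hχ z)
  have hp' : ∀ a : AlgInt, MemLocalIdeal M ((p : ℂ) * (a : ℂ)) := fun a =>
    MemLocalIdeal.mul_right (memLocalIdeal_p hpM) (memLocalRing_coe a)
  have e : χ g ^ p ^ N = χ y ^ p ^ N + ((p : ℂ) * γ - (p : ℂ) * δ) := by
    rw [← hγ, ← hδ, hpow]; ring
  refine MemLocalIdeal.of_pow (n := p ^ N) (hint g) ?_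
  rw [e]
  refine MemLocalIdeal.add ?_ (MemLocalIdeal.sub (hp' γ) (hp' δ))
  obtain ⟨j, hj⟩ := Nat.exists_eq_succ_of_ne_zero (pow_ne_zero N hp.out.ne_zero)
  rw [hj, pow_succ]
  refine MemLocalIdeal.mul_left ?_ hy
  exact memLocalRing_pow (hint y) j

end Regular

section Union

variable {M : Ideal AlgInt} [M.IsPrime]

open Classical in
/-- The idempotent of a union of blocks is locally integral. -/
theorem scoeff_blockIdem_of_closed (A : Set (IrrCharacter G))
    (hA : ∀ χ ∈ A, blockOf M χ.1 ⊆ A) : SCoeff M (blockIdem A) := by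
  intro g
  rw [coeff_blockIdem, blockCoeff_eq_sum]
  have key : ∑ B ∈ (Finset.univ.filter (· ∈ A)).image (fun χ => blockOf M χ.1),
      ∑ χ ∈ (Finset.univ.filter (· ∈ A)).filter (fun χ => blockOf M χ.1 = B),
        χ.1 1 * conj (χ.1 g) = ∑ χ ∈ Finset.univ.filter (· ∈ A), χ.1 1 * conj (χ.1 g) :=
    Finset.sum_fiberwise_of_maps_to (fun χ hχ => Finset.mem_image_of_mem _ hχ) _
  rw [← key, Finset.mul_sum]
  refine MemLocalRing.sum _ fun B hB => ?_
  obtain ⟨χ₀, hχ₀, rfl⟩ := Finset.mem_image.1 hB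
  have h := memLocalRing_blockCoeff (M := M) (isPBlock_blockOf χ₀) g
  rw [blockCoeff_eq_sum] at h
  convert h using 3
  ext χ
  simp only [Finset.mem_filter, Finset.mem_univ, true_and]
  refine ⟨fun h => h.2 ▸ mem_blockOf_self χ, fun h => ⟨hA χ₀ (Finset.mem_filter.1 hχ₀).2 h, ?_⟩⟩
  exact (blockOf_eq (show SameBlock M χ₀.1 χ.1 from h)).symm

end Union

end Cfsg.Agent.BlocksX
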