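import Cfsg.Agent.Lib.BlocksX.Basic
import Cfsg.Agent.Lib.Blocks.Nilpotent
import Cfsg.Agent.Lib.Char.Product
import Cfsg.Agent.Lib.Char.Congruence
import Mathlib.GroupTheory.NoncommCoprod

/-!
# The principal block of a central product over a `p`-group
-/

set_option linter.style.haveILetI false
set_option linter.unusedSectionVars false

namespace Cfsg.Agent.BlocksX

open Cfsg MonoidAlgebra Cfsg.Agent.Blocks
open scoped ComplexConjugate

universe u

variable {G : Type u} [Group G] [Finite G] {p : ℕ} [hp : Fact p.Prime] {M : Ideal AlgInt}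
  [M.IsMaximal] {U₁ U₂ : Subgroup G}

theorem centralChar_trivialChar (g : G) :
    centralChar (Char.trivialChar G).1 g = ((Subgroup.centralizer ({g} : Set G)).index : ℂ) := by
  simp [centralChar]

variable (hcomm : ∀ u ∈ U₁, ∀ v ∈ U₂, u * v = v * u)
include hcomm

/-- The multiplication map of a central product. -/
noncomputable def mulHomU : U₁ × U₂ →* G :=
  MonoidHom.noncommCoprod U₁.subtype U₂.subtype fun u v => hcomm u u.2 v v.2

theorem mulHomU_apply (x : U₁ × U₂) : mulHomU hcomm x = (x.1 : G) * (x.2 : G) := rfl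

theorem mulHomU_surjective (hgen : U₁ ⊔ U₂ = ⊤) : Function.Surjective (mulHomU hcomm) := by
  rw [← MonoidHom.range_eq_top, eq_top_iff, ← hgen]
  exact sup_le (fun u hu => ⟨(⟨u, hu⟩, 1), by simp [mulHomU_apply]⟩)
    fun v hv => ⟨(1, ⟨v, hv⟩), by simp [mulHomU_apply]⟩

theorem exists_regular_components (hgen : U₁ ⊔ U₂ = ⊤) {g : G} (hg : IsPRegular p g) :
    ∃ (a : U₁) (b : U₂), IsPRegular p a ∧ IsPRegular p b ∧ g = (a : G) * (b : G) := by
  obtain ⟨⟨u, v⟩, rfl⟩ := mulHomU_surjective hcomm hgen g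
  obtain ⟨n, hn, he⟩ := exists_large_pow_eq hg
    ((Nat.card U₁).factorization p + (Nat.card U₂).factorization p)
  refine ⟨u ^ p ^ n, v ^ p ^ n, isPRegular_pow_of_le u (by omega), isPRegular_pow_of_le v (by omega),
    ?_⟩
  conv_lhs => rw [← he]
  rw [← map_pow]
  rfl

theorem eq_of_mul_eq (hZ : IsPGroup p ↥(U₁ ⊓ U₂)) {a a' : U₁} {b b' : U₂}
    (ha : IsPRegular p a) (ha' : IsPRegular p a') (h : (a : G) * b = (a' : G) * b') :
    a = a' ∧ b = b' := by
  have hz : (a' : G)⁻¹ * a = (b' : G) * (b : G)⁻¹ := by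
    rw [inv_mul_eq_iff_eq_mul, ← mul_assoc, ← h, mul_inv_cancel_right]
  set z : G := (a' : G)⁻¹ * a with hzdef
  have hz1 : z ∈ U₁ := mul_mem (inv_mem a'.2) a.2
  have hz2 : z ∈ U₂ := hz ▸ mul_mem b'.2 (inv_mem b.2)
  obtain ⟨k, hk⟩ := IsPGroup.iff_orderOf.1 hZ ⟨z, hz1, hz2⟩
  have hc : Commute (⟨z, hz1⟩ : U₁) a' := Subtype.ext (hcomm a' a'.2 z hz2).symm
  have hmul : a = a' * ⟨z, hz1⟩ := Subtype.ext (by simp [hzdef])
  have hz0 : (⟨z, hz1⟩ : U₁) = 1 := by
    refine (isPRegular_mul_iff hc.symm ha' ⟨k, ?_⟩).1 (hmul ▸ ha)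
    rw [← Subgroup.orderOf_coe, ← hk]
    exact Subgroup.orderOf_coe (⟨z, hz1, hz2⟩ : ↥(U₁ ⊓ U₂))
  rw [hz0, mul_one] at hmul
  subst hmul
  exact ⟨rfl, Subtype.ext (mul_left_cancel h)⟩

theorem index_centralizer_mul (hgen : U₁ ⊔ U₂ = ⊤) (hZ : IsPGroup p ↥(U₁ ⊓ U₂)) {a : U₁} {b : U₂}
    (ha : IsPRegular p a) :
    (Subgroup.centralizer ({(a : G) * b} : Set G)).index =
      (Subgroup.centralizer ({a} : Set U₁)).index *
        (Subgroup.centralizer ({b} : Set U₂)).index := by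
  rw [← card_isConj_eq_index, ← card_isConj_eq_index, ← card_isConj_eq_index, ← Nat.card_prod]
  refine (Nat.card_congr (Equiv.ofBijective
    (fun x : {x : U₁ // IsConj a x} × {y : U₂ // IsConj b y} =>
      (⟨(x.1.1 : G) * (x.2.1 : G), by
        obtain ⟨c, hc⟩ := isConj_iff.1 x.1.2
        obtain ⟨d, hd⟩ := isConj_iff.1 x.2.2
        refine isConj_iff.2 ⟨mulHomU hcomm (c, d), ?_⟩
        rw [show (a : G) * b = mulHomU hcomm (a, b) from rfl, ← map_mul, ← map_inv, ← map_mul]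
        show _ = mulHomU hcomm (x.1.1, x.2.1)
        exact congrArg _ (Prod.ext hc hd)⟩ : {x : G // IsConj ((a : G) * b) x})) ⟨?_, ?_⟩)).symm
  · rintro ⟨⟨x, hx⟩, ⟨y, hy⟩⟩ ⟨⟨x', hx'⟩, ⟨y', hy'⟩⟩ h
    have hreg : ∀ x : U₁, IsConj a x → IsPRegular p x := fun x hx => by
      obtain ⟨c, rfl⟩ := isConj_iff.1 hx
      rwa [IsPRegular, show c * a * c⁻¹ = MulAut.conj c a from rfl, MulEquiv.orderOf_eq]
    obtain ⟨rfl, rfl⟩ := eq_of_mul_eq hcomm hZ (hreg x hx) (hreg x' hx')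
      (congrArg (fun w : {x : G // IsConj ((a : G) * b) x} => w.1) h)
    rfl
  · rintro ⟨w, hw⟩
    obtain ⟨g, rfl⟩ := isConj_iff.1 hw
    obtain ⟨⟨c, d⟩, rfl⟩ := mulHomU_surjective hcomm hgen g
    refine ⟨(⟨c * a * c⁻¹, isConj_iff.2 ⟨c, rfl⟩⟩, ⟨d * b * d⁻¹, isConj_iff.2 ⟨d, rfl⟩⟩),
      Subtype.ext ?_⟩
    show mulHomU hcomm (c * a * c⁻¹, d * b * d⁻¹) = _
    show mulHomU hcomm (c * a * c⁻¹, d * b * d⁻¹) =
      mulHomU hcomm (c, d) * mulHomU hcomm (a, b) * (mulHomU hcomm (c, d))⁻¹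
    rw [← map_mul, ← map_inv, ← map_mul]
    rfl

theorem exists_constituents (hgen : U₁ ⊔ U₂ = ⊤) [Fintype U₁] [Fintype U₂] (χ : IrrCharacter G)
    (ψ₁ : IrrCharacter U₁) (ψ₂ : IrrCharacter U₂)
    (h₁ : classInner (fun u : U₁ => χ.1 u) ψ₁.1 ≠ 0)
    (h₂ : classInner (fun u : U₂ => χ.1 u) ψ₂.1 ≠ 0) (a : U₁) (b : U₂) :
    χ.1 ((a : G) * b) = ψ₁.1 a * ψ₂.1 b := by
  obtain ⟨φ₁, φ₂, hφ₁, hφ₂, he⟩ := Char.exists_eq_prod_mul
    (Char.IsIrrCharacter.comp_surjective χ.2 (mulHomU hcomm) (mulHomU_surjective hcomm hgen))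
  have hv : ∀ (a : U₁) (b : U₂), χ.1 ((a : G) * b) = φ₁ a * φ₂ b := fun a b => congrFun he (a, b)
  have e₁ : φ₁ = ψ₁.1 := by
    by_contra hne
    refine h₁ ?_
    have : (fun u : U₁ => χ.1 u) = φ₂ 1 • φ₁ := funext fun u => by
      have := hv u 1
      rw [Subgroup.coe_one, mul_one] at this
      rw [this, Pi.smul_apply, smul_eq_mul, mul_comm]
    rw [this, Char.classInner_smul_left, Char.classInner_irr_of_ne hφ₁ ψ₁.2 hne, mul_zero]
  have e₂ : φ₂ = ψ₂.1 := by
    by_contra hne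
    refine h₂ ?_
    have : (fun u : U₂ => χ.1 u) = φ₁ 1 • φ₂ := funext fun u => by
      have := hv 1 u
      rw [Subgroup.coe_one, one_mul] at this
      rw [this, Pi.smul_apply, smul_eq_mul]
    rw [this, Char.classInner_smul_left, Char.classInner_irr_of_ne hφ₂ ψ₂.2 hne, mul_zero]
  rw [hv a b, e₁, e₂]

theorem mem_principalBlock_iff_constituents (hpM : (p : AlgInt) ∈ M) (hgen : U₁ ⊔ U₂ = ⊤)
    (hZ : IsPGroup p ↥(U₁ ⊓ U₂)) [Fintype U₁] [Fintype U₂] (χ : IrrCharacter G)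
    (ψ₁ : IrrCharacter U₁) (ψ₂ : IrrCharacter U₂)
    (h₁ : classInner (fun u : U₁ => χ.1 u) ψ₁.1 ≠ 0)
    (h₂ : classInner (fun u : U₂ => χ.1 u) ψ₂.1 ≠ 0) :
    χ ∈ principalBlock M G ↔ ψ₁ ∈ principalBlock M U₁ ∧ ψ₂ ∈ principalBlock M U₂ := by
  have hreg1 : ∀ {H : Type u} [Group H], IsPRegular p (1 : H) := by
    intro H _
    rw [IsPRegular, orderOf_one]
    exact hp.out.not_dvd_one
  have hidx : ∀ (a : U₁) (b : U₂), IsPRegular p a →
      centralChar χ.1 ((a : G) * b) = centralChar ψ₁.1 a * centralChar ψ₂.1 b := by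
    intro a b ha
    have h11 := exists_constituents hcomm hgen χ ψ₁ ψ₂ h₁ h₂ 1 1
    simp only [Subgroup.coe_one, mul_one] at h11
    rw [centralChar, centralChar, centralChar, index_centralizer_mul hcomm hgen hZ ha,
      exists_constituents hcomm hgen χ ψ₁ ψ₂ h₁ h₂ a b, h11]
    push_cast
    ring
  have htriv : ∀ (a : U₁) (b : U₂), IsPRegular p a →
      centralChar (Char.trivialChar G).1 ((a : G) * b) =
        centralChar (Char.trivialChar U₁).1 a * centralChar (Char.trivialChar U₂).1 b := by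
    intro a b ha
    rw [centralChar_trivialChar, centralChar_trivialChar, centralChar_trivialChar,
      index_centralizer_mul hcomm hgen hZ ha, Nat.cast_mul]
  have hone : ∀ {H : Type u} [Group H] [Finite H] (η : IrrCharacter H),
      centralChar η.1 (1 : H) = 1 := by
    intro H _ _ η
    rw [← omega_classSum (irr_classFun η)]
    have : classSum ℂ (1 : H) = 1 := alg_ext fun x => by
      classical
      simp [coeff_classSum, MonoidAlgebra.one_def, Finsupp.single_apply]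
    rw [this, omega_one]
  refine ⟨fun h => ⟨?_, ?_⟩, fun ⟨hA, hB⟩ => ?_⟩
  · refine sameBlock_of_regular hpM (χ := Char.trivialChar U₁) (ψ := ψ₁) fun a ha => ?_
    have := (show SameBlock M (Char.trivialChar G).1 χ.1 from h) ((a : G) * (1 : U₂))
    rwa [hidx a 1 ha, htriv a 1 ha, hone, hone, mul_one, mul_one] at this
  · refine sameBlock_of_regular hpM (χ := Char.trivialChar U₂) (ψ := ψ₂) fun b _ => ?_
    have := (show SameBlock M (Char.trivialChar G).1 χ.1 from h) (((1 : U₁) : G) * b)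
    rwa [hidx 1 b hreg1, htriv 1 b hreg1, hone, hone, one_mul, one_mul] at this
  · refine sameBlock_of_regular hpM (χ := Char.trivialChar G) (ψ := χ) fun g hg => ?_
    obtain ⟨a, b, ha, -, rfl⟩ := exists_regular_components hcomm hgen hg
    rw [hidx a b ha, htriv a b ha]
    have e : centralChar (Char.trivialChar U₁).1 a * centralChar (Char.trivialChar U₂).1 b -
        centralChar ψ₁.1 a * centralChar ψ₂.1 b =
        (centralChar (Char.trivialChar U₁).1 a - centralChar ψ₁.1 a) *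
            centralChar (Char.trivialChar U₂).1 b +
          centralChar ψ₁.1 a * (centralChar (Char.trivialChar U₂).1 b - centralChar ψ₂.1 b) := by
      ring
    rw [e]
    exact MemLocalIdeal.add
      (MemLocalIdeal.mul_right ((show SameBlock M (Char.trivialChar U₁).1 ψ₁.1 from hA) a)
        (memLocalRing_centralChar _ b))
      (MemLocalIdeal.mul_left (memLocalRing_centralChar ψ₁ a)
        ((show SameBlock M (Char.trivialChar U₂).1 ψ₂.1 from hB) b))

end Cfsg.Agent.BlocksX
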