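import Cfsg.Agent.Lib.BlocksX.CentralProduct

/-!
# Values of the characters of a block with defect group `P` in `P C_G(P)`
-/

set_option linter.style.haveILetI false
set_option linter.unusedSectionVars false

namespace Cfsg.Agent.BlocksX

open Cfsg MonoidAlgebra Cfsg.Agent.Blocks
open scoped ComplexConjugate

universe u

variable {G : Type u} [Group G] [Finite G] {p : ℕ} [hp : Fact p.Prime] {M : Ideal AlgInt}
  [M.IsMaximal]

/-- The description by a character of `P`, a fixed character and vanishing off the sections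
of `P`. -/
def IsExtendedBy (p : ℕ) (P : Subgroup G) (χ : G → ℂ) (θ : G → ℂ) (ζ : P → ℂ) : Prop :=
  (∀ (y : P) (x : G), ¬ p ∣ orderOf x → Commute (y : G) x →
      θ ((y : G) * x) = ζ y * χ x) ∧
    ∀ z : G, (∀ y : G, IsPPart p z y → y ∉ P) → θ z = 0

variable {P : Subgroup G}

theorem IsExtendedBy.unique {χ θ θ' : G → ℂ} {ζ : P → ℂ} (h : IsExtendedBy p P χ θ ζ)
    (h' : IsExtendedBy p P χ θ' ζ) : θ = θ' := by
  funext z
  by_cases hz : ∀ y : G, IsPPart p z y → y ∉ P
  · rw [h.2 z hz, h'.2 z hz]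
  · push Not at hz
    obtain ⟨y, ⟨x, rfl, hc, -, hx⟩, hy⟩ := hz
    rw [h.1 ⟨y, hy⟩ x hx hc, h'.1 ⟨y, hy⟩ x hx hc]

/-- Characters with maximal degree in a block with central defect group agree on regular
elements. -/
theorem apply_eq_of_isPRegular (hpM : (p : AlgInt) ∈ M) {D : Subgroup G}
    (hDZ : D ≤ Subgroup.center G) (hD : IsPGroup p D) {ψ ξ : IrrCharacter G}
    (hψ : (Char.degree ψ).factorization p = D.index.factorization p)
    (hξ : (Char.degree ξ).factorization p = D.index.factorization p)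
    (h : SameBlock M ξ.1 ψ.1) {g : G} (hg : IsPRegular p g) : ψ.1 g = ξ.1 g := by
  haveI := Fintype.ofFinite D
  have hB := blockOf_eq h
  have key : ∀ x : G, IsPRegular p x → ψ.1 1 * conj (ψ.1 x) = ξ.1 1 * conj (ξ.1 x) := by
    intro x hx
    have h1 : ∀ φ : IrrCharacter G, (Char.degree φ).factorization p = D.index.factorization p →
        blockCoeff (blockOf M φ.1) x =
          (Nat.card G : ℂ)⁻¹ * (Nat.card D : ℂ) * (φ.1 1 * conj (φ.1 x)) := fun φ hφ => by
      have h2 := twist_maxDegree hpM hDZ hD φ hφ x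
      rwa [Finset.sum_eq_single (1 : D) (fun u _ hu => by
          rw [blockCoeff_eq_zero hpM (isPBlock_blockOf φ) fun hr =>
            hu (Subtype.ext (eq_one_of_regular_mul hDZ hD hx u.2 hr)), mul_zero])
        (fun hn => absurd (Finset.mem_univ _) hn), Subgroup.coe_one, centScalar_one, mul_one,
        one_mul] at h2
    have h2 := h1 ψ hψ
    rw [← hB, h1 ξ hξ] at h2
    exact (mul_left_cancel₀ (mul_ne_zero (inv_ne_zero (Nat.cast_ne_zero.2 Nat.card_pos.ne'))
      (Nat.cast_ne_zero.2 Nat.card_pos.ne')) h2).symm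
  have hone : ψ.1 1 = ξ.1 1 := by
    have h2 := key 1 (by rw [IsPRegular, orderOf_one]; exact hp.out.not_dvd_one)
    rw [Char.apply_one_eq_degree, Char.apply_one_eq_degree, map_natCast, map_natCast, ← Nat.cast_mul,
      ← Nat.cast_mul, Nat.cast_inj] at h2
    rw [Char.apply_one_eq_degree, Char.apply_one_eq_degree, Nat.mul_self_inj.1 h2]
  have h3 := key g hg
  rw [hone] at h3
  exact (starRingEnd ℂ).injective (mul_left_cancel₀ (irr_one_ne_zero ξ) h3)

variable {B : Set (IrrCharacter G)}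

theorem exists_isExtendedBy (hpM : (p : AlgInt) ∈ M) [P.Normal] (hP : IsPGroup p P)
    (hG : P ⊔ Subgroup.centralizer (P : Set G) = ⊤) (hB : IsPBlock M B)
    (hD : IsDefectGroup p M B P) {χ : IrrCharacter G} (hχ : χ ∈ B) (hχP : Char.TrivOn P χ.1)
    {θ : IrrCharacter G} (hθ : θ ∈ B) :
    ∃ ζ : IrrCharacter P, IsExtendedBy p P χ.1 θ.1 ζ.1 := by
  classical
  have hC := exists_pow_index_centralizer hP hG
  set D := P.subgroupOf (Subgroup.centralizer (P : Set G)) with hDdef
  have hDZ : D ≤ Subgroup.center (Subgroup.centralizer (P : Set G)) := subgroupOf_le_center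
  have hDp : IsPGroup p D := by
    refine hP.of_injective
      { toFun := fun z => ⟨((z : Subgroup.centralizer (P : Set G)) : G), z.2⟩
        map_one' := rfl
        map_mul' := fun _ _ => rfl } ?_
    intro a b h
    exact Subtype.ext (Subtype.ext (congrArg (fun w : P => (w : G)) h))
  obtain ⟨φ₀, ξ₀, h₀⟩ := exists_components hG χ
  have hconst : ∀ u : P, φ₀.1 u = φ₀.1 1 := fun u => by
    have h1 := h₀ u 1
    have h2 := h₀ 1 1
    simp only [Subgroup.coe_one, mul_one] at h1 h2
    rw [hχP u u.2, h2] at h1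
    exact (mul_right_cancel₀ (irr_one_ne_zero ξ₀) h1).symm
  have hone : φ₀.1 1 = 1 := by
    haveI := Fintype.ofFinite P
    have h1 := Char.classInner_irr_self φ₀.2
    rw [classInner, Finset.sum_congr rfl fun u _ => by rw [hconst u], Finset.sum_const,
      Finset.card_univ, nsmul_eq_mul, Char.apply_one_eq_degree, map_natCast,
      ← Nat.card_eq_fintype_card, ← mul_assoc, inv_mul_cancel₀ Char.card_ne_zero, one_mul] at h1
    have h2 : Char.degree φ₀ * Char.degree φ₀ = 1 := by exact_mod_cast h1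
    rw [Char.apply_one_eq_degree, Nat.eq_one_of_mul_eq_one_right h2, Nat.cast_one]
  have hξ : ∀ c : Subgroup.centralizer (P : Set G), χ.1 (c : G) = ξ₀.1 c := fun c => by
    have := h₀ 1 c
    simpa [hone] using this
  have hdeg₀ : (Char.degree ξ₀).factorization p = D.index.factorization p := by
    have hd : Char.degree ξ₀ = Char.degree χ := by
      have h2 := hξ 1
      rw [Subgroup.coe_one, Char.apply_one_eq_degree, Char.apply_one_eq_degree] at h2
      exact_mod_cast h2.symm
    rw [hd, (degree_of_trivOn hpM hB hD hχ hχP).1, hDdef, index_subgroupOf_centralizer hG]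
  have hbD := isDefectGroup_central hpM hDZ hDp ξ₀ hdeg₀
  obtain ⟨φ, ψ, hφψ⟩ := exists_components hG θ
  have hψb : SameBlock M ξ₀.1 ψ.1 := fun c => by
    have h := sameBlock_of_mem hB hχ hθ (c : G)
    rwa [centralChar_of_components hG h₀, centralChar_of_components hG hφψ] at h
  have hdeg := degree_eq_of_defectGroup hpM hDZ (isPBlock_blockOf ξ₀) hbD
    (show ψ ∈ blockOf M ξ₀.1 from hψb)
  refine ⟨φ, fun y x hx _ => ?_, fun z hz => ?_⟩
  · have hxC := mem_centralizer_of_isPRegular hC hx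
    rw [show x = ((⟨x, hxC⟩ : Subgroup.centralizer (P : Set G)) : G) from rfl, hφψ, hξ,
      apply_eq_of_isPRegular hpM hDZ hDp hdeg hdeg₀ hψb (by rwa [IsPRegular, ← Subgroup.orderOf_coe])]
  · obtain ⟨⟨u, c⟩, rfl⟩ := mulHomC_surjective hG z
    rw [mulHomC_apply, hφψ, vanish_of_not_inSection hpM hDZ hDp ψ hdeg, mul_zero]
    rintro ⟨v, hv, hreg⟩
    have hreg' : IsPRegular p (((c * v : Subgroup.centralizer (P : Set G)) : G)) := by
      rwa [IsPRegular, Subgroup.orderOf_coe]
    obtain ⟨k, hk⟩ := IsPGroup.iff_orderOf.1 hP (u * (⟨v, hv⟩ : P)⁻¹)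
    have hpart : IsPPart p (mulHomC P (u, c)) (((u * (⟨v, hv⟩ : P)⁻¹ : P)) : G) := by
      have := isPPart_mul (x := (((u * (⟨v, hv⟩ : P)⁻¹ : P)) : G))
        (s := ((c * v : Subgroup.centralizer (P : Set G)) : G))
        (Subgroup.mem_centralizer_iff.1 (c * v).2 _ (u * (⟨v, hv⟩ : P)⁻¹).2)
        ⟨k, by rw [← hk, Subgroup.orderOf_coe]⟩ hreg'
      have hcomm : (c : G) * (v : G) = (v : G) * c :=
        (Subgroup.mem_centralizer_iff.1 c.2 _ hv).symm
      rwa [mulHomC_apply, show (u : G) * (c : G) =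
        (((u * (⟨v, hv⟩ : P)⁻¹ : P)) : G) * ((c * v : Subgroup.centralizer (P : Set G)) : G) from by
        simp only [Subgroup.coe_mul, Subgroup.coe_inv]
        rw [hcomm]
        group]
    exact hz _ hpart (u * (⟨v, hv⟩ : P)⁻¹).2

theorem block_characters (hpM : (p : AlgInt) ∈ M) [P.Normal] (hP : IsPGroup p P)
    (hG : P ⊔ Subgroup.centralizer (P : Set G) = ⊤) (hB : IsPBlock M B)
    (hD : IsDefectGroup p M B P) {χ : IrrCharacter G} (hχ : χ ∈ B) (hχP : Char.TrivOn P χ.1) :
    (∀ θ : IrrCharacter G, θ ∈ B ↔ ∃ ζ : IrrCharacter P, IsExtendedBy p P χ.1 θ.1 ζ.1) ∧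
      ∀ ζ : IrrCharacter P, ∃ θ ∈ B, IsExtendedBy p P χ.1 θ.1 ζ.1 := by
  classical
  choose f hf using fun θ : B => exists_isExtendedBy hpM hP hG hB hD hχ hχP θ.2
  have hinj : Function.Injective f := fun a b h => Subtype.ext (Subtype.ext
    ((hf a).unique (h ▸ hf b)))
  have hsur : Function.Surjective f := by
    have hcard : Nat.card B = Nat.card (IrrCharacter P) := by
      rw [card_block_eq hpM hP hG hB hD, Char.card_irr]
    haveI := Fintype.ofFinite B
    exact ((Fintype.bijective_iff_injective_and_card f).2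
      ⟨hinj, by rwa [← Nat.card_eq_fintype_card, ← Nat.card_eq_fintype_card]⟩).2
  refine ⟨fun θ => ⟨fun h => ⟨_, hf ⟨θ, h⟩⟩, ?_⟩, fun ζ => ?_⟩
  · rintro ⟨ζ, hζ⟩
    obtain ⟨a, rfl⟩ := hsur ζ
    rw [show θ = (a : IrrCharacter G) from Subtype.ext (hζ.unique (hf a))]
    exact a.2
  · obtain ⟨a, rfl⟩ := hsur ζ
    exact ⟨a, a.2, hf a⟩

end Cfsg.Agent.BlocksX
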