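import Cfsg.Agent.Lib.Blocks.Defect
import Mathlib.LinearAlgebra.Dimension.Constructions

/-!
# Counting blocks of large defect by regular classes
-/

set_option linter.style.haveILetI false
set_option linter.unusedSectionVars false

namespace Cfsg.Agent.BlocksX

open Cfsg MonoidAlgebra Cfsg.Agent.Blocks

universe u

variable {G : Type u} [Group G] [Finite G] {M : Ideal AlgInt} [M.IsMaximal]
variable {p : ℕ} [hp : Fact p.Prime]

/-- A class with unit central character on `B` has at least the defect of `B`. -/
theorem blockDefect_le_of_centralChar (hpM : (p : AlgInt) ∈ M) {B : Set (IrrCharacter G)}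
    (hB : IsPBlock M B) {χ : IrrCharacter G} (hχ : χ ∈ B) {g : G}
    (hg : ¬ MemLocalIdeal M (centralChar χ.1 g)) :
    blockDefect p B ≤ (Nat.card (Subgroup.centralizer ({g} : Set G))).factorization p := by
  obtain ⟨D, hD⟩ := exists_defectGroup (p := p) hB
  obtain ⟨h, hh, hhD⟩ := isDefectGroup_iff.1 hD
  obtain ⟨x, hx, hle⟩ := exists_isConj_le_centralizer hpM hB hχ hg hh.2.1
    (SylIn.isPGroup hhD) hhD.1
  obtain ⟨c, rfl⟩ := isConj_iff.1 hx
  have h2 := Subgroup.card_dvd_of_le hle
  rw [← map_conj_centralizer,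
    card_map_conj,
    card_defectGroup hpM hB hD] at h2
  exact (hp.out.pow_dvd_iff_le_factorization Nat.card_pos.ne').1 h2

theorem card_blocks_le (hpM : (p : AlgInt) ∈ M) (d : ℕ) :
    Nat.card {B : Set (IrrCharacter G) // IsPBlock M B ∧ d ≤ blockDefect p B} ≤
      Nat.card {C : ConjClasses G // ∃ g : G, ConjClasses.mk g = C ∧ IsPRegular p g ∧
        d ≤ (Nat.card (Subgroup.centralizer ({g} : Set G))).factorization p} := by
  classical
  haveI := Fintype.ofFinite (ConjClasses G)
  haveI : Field (AlgInt ⧸ M) := Ideal.Quotient.field M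
  set P : ConjClasses G → Prop := fun C => ∃ g : G, ConjClasses.mk g = C ∧ IsPRegular p g ∧
    d ≤ (Nat.card (Subgroup.centralizer ({g} : Set G))).factorization p with hPdef
  let v : {B : Set (IrrCharacter G) // IsPBlock M B ∧ d ≤ blockDefect p B} →
      ({C : ConjClasses G // P C} → AlgInt ⧸ M) :=
    fun B C => red M (blockCoeff B.1 C.1.out)
  have hpair : ∀ (B B' : {B : Set (IrrCharacter G) // IsPBlock M B ∧ d ≤ blockDefect p B})
      (χ : IrrCharacter G), χ ∈ B'.1 →
      ∑ C, v B C * red M (centralChar χ.1 C.1.out) = if B = B' then 1 else 0 := by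
    intro B B' χ hχ
    have hterm : ∀ C : ConjClasses G, MemLocalRing M (blockCoeff B.1 C.out * centralChar χ.1 C.out) :=
      fun C => MemLocalRing.mul (memLocalRing_blockCoeff B.2.1 _) (memLocalRing_centralChar χ _)
    have hmem : χ ∈ B.1 ↔ B = B' :=
      ⟨fun h => Subtype.ext (block_eq_of_mem B.2.1 B'.2.1 h hχ), fun h => h ▸ hχ⟩
    have h1 : red M (∑ C : ConjClasses G, blockCoeff B.1 C.out * centralChar χ.1 C.out) =
        if B = B' then 1 else 0 := by
      rw [← Finset.sum_congr rfl fun C _ =>
        show (blockIdem B.1).coeff C.out * centralChar χ.1 C.out = _ by rw [coeff_blockIdem],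
        ← omega_eq_sum_classes χ (isCentralElt_blockIdem _), omega_blockIdem]
      simp only [hmem]
      split_ifs <;> simp
    rw [← h1, red_sum _ fun C _ => hterm C]
    simp only [red_mul (memLocalRing_blockCoeff B.2.1 _) (memLocalRing_centralChar χ _), v]
    rw [← Finset.sum_subtype (Finset.univ.filter P) (by simp)
      (fun C : ConjClasses G => red M (blockCoeff B.1 C.out) * red M (centralChar χ.1 C.out))]
    refine Finset.sum_subset (Finset.subset_univ _) fun C _ hC => ?_
    by_contra hne
    obtain ⟨hne1, hne2⟩ := mul_ne_zero_iff.1 hne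
    refine hC (Finset.mem_filter.2 ⟨Finset.mem_univ _, C.out, Quotient.out_eq C, ?_, ?_⟩)
    · by_contra hr
      exact hne1 (by rw [blockCoeff_eq_zero hpM B.2.1 hr, red_zero])
    · exact le_trans B'.2.2 (blockDefect_le_of_centralChar hpM B'.2.1 hχ
        fun hI => hne2 (red_eq_zero_of_mem hI))
  have hli : LinearIndependent (AlgInt ⧸ M) v := by
    haveI := Fintype.ofFinite {B : Set (IrrCharacter G) // IsPBlock M B ∧ d ≤ blockDefect p B}
    rw [Fintype.linearIndependent_iff]
    intro a ha B'
    obtain ⟨χ, hχ⟩ := block_nonempty B'.2.1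
    have := congrArg (fun F => ∑ C, F C * red M (centralChar χ.1 C.1.out)) ha
    simp only [Finset.sum_apply, Pi.smul_apply, smul_eq_mul, Finset.sum_mul, Pi.zero_apply,
      zero_mul, Finset.sum_const_zero] at this
    rw [Finset.sum_comm] at this
    simp only [mul_assoc, ← Finset.mul_sum] at this
    rw [Finset.sum_congr rfl fun B _ => by rw [hpair B B' χ hχ]] at this
    simpa using this
  haveI := Fintype.ofFinite {B : Set (IrrCharacter G) // IsPBlock M B ∧ d ≤ blockDefect p B}
  have h := hli.fintype_card_le_finrank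
  rwa [Module.finrank_pi, ← Nat.card_eq_fintype_card, ← Nat.card_eq_fintype_card] at h

end Cfsg.Agent.BlocksX
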