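import Cfsg.Agent.Lib.BlocksX.Normal
import Cfsg.Agent.Lib.BlocksX.Count
import Cfsg.Agent.Lib.Char.NormalAction

/-!
# Covering blocks of maximal defect of an invariant block
-/

set_option linter.style.haveILetI false
set_option linter.unusedSectionVars false

namespace Cfsg.Agent.BlocksX

open Cfsg MonoidAlgebra Cfsg.Agent.Blocks
open scoped ComplexConjugate

universe u

variable {G : Type u} [Group G] [Finite G] {M : Ideal AlgInt} [M.IsMaximal]

theorem inducedCentralChar_of_isConj (H : Subgroup G) (ξ : H → ℂ) {g g' : G} (h : IsConj g g') :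
    inducedCentralChar H ξ g = inducedCentralChar H ξ g' := by
  rw [inducedCentralChar, inducedCentralChar]
  exact finsum_mem_congr (Set.ext fun k => ⟨fun hk => h.symm.trans hk, fun hk => h.trans hk⟩)
    fun _ _ => rfl

open Classical in
theorem exists_block_unit_of_closed (A : Set (IrrCharacter G))
    (hA : ∀ χ ∈ A, blockOf M χ.1 ⊆ A) {g : G} (hg : ¬ MemLocalIdeal M (blockCoeff A g)) :
    ∃ χ ∈ A, ¬ MemLocalIdeal M (blockCoeff (blockOf M χ.1) g) := by
  by_contra! hno
  refine hg ?_
  rw [blockCoeff_eq_sum]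
  have key : ∑ B ∈ (Finset.univ.filter (· ∈ A)).image (fun χ => blockOf M χ.1),
      ∑ χ ∈ (Finset.univ.filter (· ∈ A)).filter (fun χ => blockOf M χ.1 = B),
        χ.1 1 * conj (χ.1 g) = ∑ χ ∈ Finset.univ.filter (· ∈ A), χ.1 1 * conj (χ.1 g) :=
    Finset.sum_fiberwise_of_maps_to (fun χ hχ => Finset.mem_image_of_mem _ hχ) _
  rw [← key, Finset.mul_sum]
  refine MemLocalIdeal.sum _ fun B hB => ?_
  obtain ⟨χ₀, hχ₀, rfl⟩ := Finset.mem_image.1 hB
  have h := hno χ₀ (Finset.mem_filter.1 hχ₀).2
  rw [blockCoeff_eq_sum] at h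
  convert h using 3
  ext χ
  simp only [Finset.mem_filter, Finset.mem_univ, true_and]
  refine ⟨fun h => h.2 ▸ mem_blockOf_self χ, fun h => ⟨hA χ₀ (Finset.mem_filter.1 hχ₀).2 h, ?_⟩⟩
  exact (blockOf_eq (show SameBlock M χ₀.1 χ.1 from h)).symm

variable {p : ℕ} [hp : Fact p.Prime] (N : Subgroup G) [N.Normal] [Fintype N]

/-- The `p`-part of the centraliser order, when `N C(x)` has `p'`-index. -/
theorem factorization_card_centralizer (x : N)
    (hidx : ¬ p ∣ (Subgroup.centralizer ({(x : G)} : Set G) ⊔ N).index) :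
    (Nat.card (Subgroup.centralizer ({(x : G)} : Set G))).factorization p =
      (Nat.card (Subgroup.centralizer ({x} : Set N))).factorization p +
        N.index.factorization p := by
  set C := Subgroup.centralizer ({(x : G)} : Set G) with hC
  have h1 : Nat.card (N.subgroupOf C) = Nat.card (Subgroup.centralizer ({x} : Set N)) :=
    Nat.card_congr
      { toFun := fun z => ⟨⟨((z : C) : G), z.2⟩, Subgroup.mem_centralizer_singleton_iff.2
          (Subtype.ext (Subgroup.mem_centralizer_singleton_iff.1 (z : C).2))⟩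
        invFun := fun z => ⟨⟨((z : N) : G), Subgroup.mem_centralizer_singleton_iff.2
          (congrArg Subtype.val (Subgroup.mem_centralizer_singleton_iff.1 z.2))⟩, (z : N).2⟩
        left_inv := fun _ => rfl
        right_inv := fun _ => rfl }
  have h2 : N.relIndex C * (C ⊔ N).index = N.index := by
    rw [← Subgroup.relIndex_sup_right (H := C) (K := N)]
    exact Subgroup.relIndex_mul_index le_sup_right
  have h3 := Subgroup.card_mul_index (N.subgroupOf C)
  have hne : N.relIndex C ≠ 0 := by
    intro h0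
    exact (Subgroup.index_ne_zero_of_finite (H := N)) (by rw [← h2, h0, zero_mul])
  have h4 : (N.relIndex C).factorization p = N.index.factorization p := by
    rw [← h2, Nat.factorization_mul hne Subgroup.index_ne_zero_of_finite, Finsupp.add_apply,
      Nat.factorization_eq_zero_of_not_dvd hidx, add_zero]
  rw [← h4, ← h1, ← h3, show (N.subgroupOf C).index = N.relIndex C from rfl, Nat.factorization_mul Nat.card_pos.ne' hne, Finsupp.add_apply]

variable [Fintype G]

open Classical in
/-- The idempotent of an invariant set of characters of `N`, extended by zero, is that of the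
covering characters. -/
theorem ofFun_blockCoeff_covering {b : Set (IrrCharacter N)}
    (hinv : ∀ (g : G), ∀ θ ∈ b, Char.conjChar N θ g ∈ b) :
    ofFun (fun g : G => if h : g ∈ N then blockCoeff b ⟨g, h⟩ else 0) =
      blockIdem {χ : IrrCharacter G | ∃ θ ∈ b, classInner (Char.resFun N χ.1) θ.1 ≠ 0} := by
  set S : Set (IrrCharacter G) :=
    {χ | ∃ θ ∈ b, classInner (Char.resFun N χ.1) θ.1 ≠ 0} with hS
  have hcinv : ∀ (g : G) (n : N), blockCoeff b (MulAut.conjNormal g n) = blockCoeff b n := by
    intro g n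
    rw [blockCoeff_eq_sum, blockCoeff_eq_sum]
    congr 1
    refine Finset.sum_nbij' (fun ξ => Char.conjChar N ξ g) (fun ξ => Char.conjChar N ξ g⁻¹)
      (fun ξ hξ => ?_) (fun ξ hξ => ?_) (fun ξ _ => ?_) (fun ξ _ => ?_) (fun ξ _ => ?_)
    · exact Finset.mem_filter.2 ⟨Finset.mem_univ _, hinv g ξ (Finset.mem_filter.1 hξ).2⟩
    · exact Finset.mem_filter.2 ⟨Finset.mem_univ _, hinv g⁻¹ ξ (Finset.mem_filter.1 hξ).2⟩
    · show Char.conjChar N (Char.conjChar N ξ g) g⁻¹ = ξ
      rw [← conjChar_mul, mul_inv_cancel, conjChar_one]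
    · show Char.conjChar N (Char.conjChar N ξ g⁻¹) g = ξ
      rw [← conjChar_mul, inv_mul_cancel, conjChar_one]
    · show _ = (Char.conjFun N ξ.1 g) 1 * conj (Char.conjFun N ξ.1 g n)
      rw [Char.conjFun_apply_one]
      rfl
  set e : G → ℂ := fun g => if h : g ∈ N then blockCoeff b ⟨g, h⟩ else 0 with he
  have hec : IsCentralElt (ofFun e) := isCentralElt_ofFun fun a c => by
    by_cases ha : a ∈ N
    · rw [he]
      dsimp only
      rw [dif_pos ((conj_mem_iff N a c).2 ha), dif_pos ha, ← hcinv c ⟨a, ha⟩]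
      exact congrArg _ (Subtype.ext (by simp))
    · rw [he]
      dsimp only
      rw [dif_neg ha, dif_neg (mt (conj_mem_iff N a c).1 ha)]
  have key : ofFun e = blockIdem S := by
    refine central_ext hec (isCentralElt_blockIdem S) fun χ => ?_
    obtain ⟨η, hη⟩ := Char.exists_constituent N χ
    have hmem : χ ∈ S ↔ η ∈ b := by
      refine ⟨fun ⟨θ, hθ, hc⟩ => ?_, fun h => ⟨η, h, hη⟩⟩
      obtain ⟨g, rfl⟩ := Char.exists_conjChar_of_constituents N χ θ η hc hη
      exact hinv g θ hθ
    rw [omega_blockIdem, omega_ofFun]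
    have hs : ∑ g, e g * χ.1 g = ∑ n : N, blockCoeff b n * χ.1 (n : G) := by
      rw [← Finset.sum_subset (Finset.subset_univ
        ((Finset.univ : Finset N).map ⟨Subtype.val, Subtype.val_injective⟩)) fun g _ hg => ?_,
        Finset.sum_map]
      · exact Finset.sum_congr rfl fun n _ => by
          simp only [he, Function.Embedding.coeFn_mk, dif_pos n.2, Subtype.coe_eta]
      · have : g ∉ N := fun h => hg (Finset.mem_map.2 ⟨⟨g, h⟩, Finset.mem_univ _, rfl⟩)
        simp [he, this]
    have hterm : ∀ ξ ∈ Char.orbitFinset N η,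
        ∑ n : N, blockCoeff b n * ξ.1 n = if η ∈ b then η.1 1 else 0 := by
      intro ξ hξ
      obtain ⟨g, rfl⟩ := (Char.mem_orbitFinset N).1 hξ
      have hiff : Char.conjChar N η g ∈ b ↔ η ∈ b := ⟨fun h => by
        have := hinv g⁻¹ _ h
        rwa [← conjChar_mul, mul_inv_cancel, conjChar_one] at this, hinv g η⟩
      have := chiL_blockIdem (Char.conjChar N η g) b
      rw [chiL_eq_sum] at this
      simp only [coeff_blockIdem, hiff] at this
      rw [this, Char.conjChar_coe, Char.conjFun_apply_one]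
    rw [hs, Finset.sum_congr rfl fun n _ => by
      rw [show χ.1 (n : G) = Char.resFun N χ.1 n from rfl,
        congrFun (Char.resFun_eq_smul_orbitSum N χ η hη) n, Pi.smul_apply, Char.orbitSum,
        Finset.sum_apply, smul_eq_mul, mul_left_comm, Finset.mul_sum],
      ← Finset.mul_sum, Finset.sum_comm, Finset.sum_congr rfl hterm, Finset.sum_const,
      nsmul_eq_mul, Char.apply_one_eq_mul_card_orbit N χ η hη]
    by_cases h : η ∈ b
    · rw [if_pos h, if_pos (hmem.2 h), div_self]
      rw [← Char.apply_one_eq_mul_card_orbit N χ η hη]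
      exact irr_one_ne_zero χ
    · rw [if_neg h, if_neg (mt hmem.1 h), mul_zero, mul_zero, zero_div]
  exact key

open Classical in
/-- The idempotent of an invariant block, read in `G`, is that of the covering characters. -/
theorem blockCoeff_covering {b : Set (IrrCharacter N)}
    (hinv : ∀ (g : G), ∀ θ ∈ b, Char.conjChar N θ g ∈ b) (x : N) :
    blockCoeff {χ : IrrCharacter G | ∃ θ ∈ b, classInner (Char.resFun N χ.1) θ.1 ≠ 0} (x : G) =
      blockCoeff b x := by
  have := congrArg (fun z => MonoidAlgebra.coeff z (x : G)) (ofFun_blockCoeff_covering N hinv)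
  simp only [coeff_ofFun, coeff_blockIdem, dif_pos x.2, Subtype.coe_eta] at this
  exact this.symm

/-- A class of `N` witnessing the defects of an invariant block and of its covering blocks. -/
theorem exists_witness (hpM : (p : AlgInt) ∈ M) {b : Set (IrrCharacter N)} (hb : IsPBlock M b)
    (hinv : ∀ (g : G), ∀ θ ∈ b, Char.conjChar N θ g ∈ b) :
    ∃ x : N, IsDefectClass M b x ∧
      ¬ p ∣ (Subgroup.centralizer ({(x : G)} : Set G) ⊔ N).index ∧
      ∀ θ ∈ b, ¬ MemLocalIdeal M (inducedCentralChar N θ.1 (x : G)) := by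
  classical
  obtain ⟨θ, hθ⟩ := block_nonempty hb
  have hcinv : ∀ (g : G) (n : N), blockCoeff b (MulAut.conjNormal g n) = blockCoeff b n := fun g n => by
    rw [← blockCoeff_covering N hinv, ← blockCoeff_covering N hinv, MulAut.conjNormal_apply]
    simpa [coeff_blockIdem] using isCentralElt_blockIdem
      {χ : IrrCharacter G | ∃ θ ∈ b, classInner (Char.resFun N χ.1) θ.1 ≠ 0} (n : G) g
  have hz : ∀ y : G, IsCentralElt (ofFun fun k : N => if IsConj y (k : G) then (1 : ℂ) else 0) :=
    fun y => isCentralElt_ofFun fun a c => by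
      simp only [Subgroup.coe_mul, Subgroup.coe_inv, isConj_conj_iff]
  have hzS : ∀ y : G, SCoeff M (ofFun fun k : N => if IsConj y (k : G) then (1 : ℂ) else 0) :=
    fun y => scoeff_ofFun fun k => by
      split_ifs
      exacts [memLocalRing_one, memLocalRing_zero]
  have hom : ∀ y : G, ∀ ξ : IrrCharacter N, inducedCentralChar N ξ.1 y =
      omega ξ.1 (ofFun fun k : N => if IsConj y (k : G) then (1 : ℂ) else 0) := fun y ξ => by
    rw [omega_ofFun, inducedCentralChar_eq]
    simp only [ite_mul, one_mul, zero_mul, Finset.sum_filter]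
  obtain ⟨y, hy1, hy2⟩ : ∃ y : N, ¬ MemLocalIdeal M (blockCoeff b y) ∧
      ¬ MemLocalIdeal M (inducedCentralChar N θ.1 (y : G)) := by
    by_contra! hno
    refine not_memLocalIdeal_one (M := M) ?_
    have h1 : omega θ.1 (blockIdem b) = 1 := by rw [omega_blockIdem, if_pos hθ]
    rw [← h1, omega, chiL_eq_sum, Finset.sum_div]
    have key : ∑ C ∈ Finset.univ.image (fun n : N => ConjClasses.mk (n : G)),
        ∑ n ∈ Finset.univ.filter (fun n : N => ConjClasses.mk (n : G) = C),
          ((blockIdem b).coeff n * θ.1 n / θ.1 1) =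
        ∑ n : N, ((blockIdem b).coeff n * θ.1 n / θ.1 1) :=
      Finset.sum_fiberwise_of_maps_to (fun n hn => Finset.mem_image_of_mem _ hn) _
    rw [← key]
    refine MemLocalIdeal.sum _ fun C hC => ?_
    obtain ⟨n₀, -, rfl⟩ := Finset.mem_image.1 hC
    have hfib : Finset.univ.filter (fun n : N => ConjClasses.mk (n : G) = ConjClasses.mk (n₀ : G)) =
        Finset.univ.filter (fun n : N => IsConj (n₀ : G) (n : G)) := by
      ext n
      simp only [Finset.mem_filter, Finset.mem_univ, true_and, ConjClasses.mk_eq_mk_iff_isConj]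
      exact isConj_comm
    rw [hfib, Finset.sum_congr rfl (g := fun n => blockCoeff b n₀ * (θ.1 n / θ.1 1)) fun n hn => by
      obtain ⟨c, hc⟩ := isConj_iff.1 (Finset.mem_filter.1 hn).2
      rw [coeff_blockIdem, show n = MulAut.conjNormal c n₀ from Subtype.ext (by simp [hc]), hcinv,
        mul_div_assoc], ← Finset.mul_sum, ← Finset.sum_div, ← inducedCentralChar_eq]
    by_cases h : MemLocalIdeal M (blockCoeff b n₀)
    · exact MemLocalIdeal.mul_right h (hom _ θ ▸ memLocalRing_omega θ (hz _) (hzS _))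
    · exact MemLocalIdeal.mul_left (memLocalRing_blockCoeff hb _) (hno n₀ h)
  obtain ⟨R⟩ : Nonempty (Sylow p G) := inferInstance
  haveI := Fintype.ofFinite (ConjClasses N)
  set f : ConjClasses N → ℂ := fun C =>
    (if IsConj (y : G) ((C.out : N) : G) then (1 : ℂ) else 0) * centralChar θ.1 C.out with hf
  have hfS : ∀ C, MemLocalRing M (f C) := fun C => by
    refine MemLocalRing.mul ?_ (memLocalRing_centralChar θ _)
    split_ifs
    exacts [memLocalRing_one, memLocalRing_zero]
  have homf : inducedCentralChar N θ.1 (y : G) = ∑ C, f C := by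
    rw [hom, omega_eq_sum_classes θ (hz _)]
    simp only [coeff_ofFun, hf]
  letI := Char.classConjAction N
  letI act : MulAction (R : Subgroup G) (ConjClasses N) :=
    MulAction.compHom _ (R : Subgroup G).subtype
  have hinvf : ∀ (g : (R : Subgroup G)) (C : ConjClasses N), red M (f (g • C)) = red M (f C) := by
    intro g C
    obtain ⟨k, rfl⟩ := ConjClasses.mk_surjective C
    have hgC : g • ConjClasses.mk k = ConjClasses.mk (MulAut.conjNormal (g : G) k) :=
      Char.classConjAction_smul_mk N (g : G) k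
    have h1 : IsConj (ConjClasses.mk k).out k :=
      ConjClasses.mk_eq_mk_iff_isConj.1 (Quotient.out_eq _)
    have h2 : IsConj (ConjClasses.mk (MulAut.conjNormal (g : G) k)).out
        (MulAut.conjNormal (g : G) k) :=
      ConjClasses.mk_eq_mk_iff_isConj.1 (Quotient.out_eq _)
    have e2 : ∀ a c : N, IsConj a c → (IsConj (y : G) (a : G) ↔ IsConj (y : G) (c : G)) :=
      fun a c hac =>
        ⟨fun hc => hc.trans (N.subtype.map_isConj hac), fun hc => hc.trans (N.subtype.map_isConj hac).symm⟩
    have e3 : IsConj (y : G) ((MulAut.conjNormal (g : G) k : N) : G) ↔ IsConj (y : G) (k : G) := by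
      rw [MulAut.conjNormal_apply, isConj_conj_iff]
    rw [red_eq_iff (hfS _) (hfS _), hf, hgC]
    dsimp only
    rw [← centralChar_of_isConj θ h1, ← centralChar_of_isConj θ h2,
      if_congr ((e2 _ _ h2).trans (e3.trans (e2 _ _ h1).symm)) rfl rfl, ← centralChar_conjFun,
      ← mul_sub]
    refine MemLocalIdeal.mul_left ?_ (sameBlock_of_mem hb (hinv (g : G) θ hθ) hθ k)
    split_ifs
    exacts [memLocalRing_one, memLocalRing_zero]
  obtain ⟨C, hC, hne⟩ : ∃ C : ConjClasses N, C ∈ MulAction.fixedPoints (R : Subgroup G) (ConjClasses N) ∧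
      red M (f C) ≠ 0 := by
    by_contra! hno
    refine hy2 ((red_eq_zero_iff (homf ▸ MemLocalRing.sum _ fun C _ => hfS C)).1 ?_)
    rw [homf, red_sum _ fun C _ => hfS C,
      sum_eq_sum_fixedPoints R.isPGroup' (nsmul_residue_eq_zero hpM) _ hinvf]
    exact Finset.sum_eq_zero fun C hC => hno C (Finset.mem_filter.1 hC).2
  have hconj : IsConj (y : G) ((C.out : N) : G) := by
    by_contra h
    exact hne (by rw [hf]; simp only [if_neg h, zero_mul, red_zero])
  have hcc : ¬ MemLocalIdeal M (centralChar θ.1 C.out) := fun hI => hne (by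
    rw [hf]
    simp only [if_pos hconj, one_mul]
    exact red_eq_zero_of_mem hI)
  have hbx : blockCoeff b C.out = blockCoeff b y := by
    obtain ⟨c, hc⟩ := isConj_iff.1 hconj
    rw [show C.out = MulAut.conjNormal c y from Subtype.ext (by simp [hc]), hcinv]
  refine ⟨C.out, (isDefectClass_iff hb hθ).2 ⟨hbx ▸ hy1, hcc⟩, ?_, fun η hη => ?_⟩
  · have hRle : (R : Subgroup G) ≤ Subgroup.centralizer ({((C.out : N) : G)} : Set G) ⊔ N := by
      intro r hr
      have h3 : (⟨r, hr⟩ : (R : Subgroup G)) • C = C := hC _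
      have hCk : C = ConjClasses.mk C.out := (Quotient.out_eq C).symm
      rw [hCk] at h3
      obtain ⟨l, hl⟩ := isConj_iff.1 (ConjClasses.mk_eq_mk_iff_isConj.1
        ((Char.classConjAction_smul_mk N r C.out).symm.trans h3))
      have e := congrArg Subtype.val hl
      simp only [Subgroup.coe_mul, Subgroup.coe_inv, MulAut.conjNormal_apply] at e
      have hmem : (l : G) * r ∈ Subgroup.centralizer ({((C.out : N) : G)} : Set G) := by
        rw [Subgroup.mem_centralizer_singleton_iff]
        calc (l : G) * r * ((C.out : N) : G) =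
            ((l : G) * (r * ((C.out : N) : G) * r⁻¹) * (l : G)⁻¹) * ((l : G) * r) := by group
          _ = _ := by rw [e]
      rw [show r = (l : G)⁻¹ * ((l : G) * r) by group]
      exact mul_mem (Subgroup.mem_sup_right (inv_mem l.2)) (Subgroup.mem_sup_left hmem)
    exact fun hd => R.not_dvd_index (hd.trans (Subgroup.index_dvd_of_le hRle))
  · intro hI
    refine hy2 ?_
    rw [inducedCentralChar_of_isConj N θ.1 hconj]
    exact memLocalIdeal_of_sub (inducedCentralChar_sub N (sameBlock_of_mem hb hθ hη) _) hI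

variable {B : Set (IrrCharacter G)}

theorem maxCovering (hpM : (p : AlgInt) ∈ M) {b : Set (IrrCharacter N)} (hb : IsPBlock M b)
    (hinv : ∀ (g : G), ∀ θ ∈ b, Char.conjChar N θ g ∈ b) (hB : IsPBlock M B)
    (hcov : ∃ χ ∈ B, ∃ θ ∈ b, classInner (Char.resFun N χ.1) θ.1 ≠ 0)
    (hmax : ∀ B' : Set (IrrCharacter G), IsPBlock M B' →
      (∃ χ ∈ B', ∃ θ ∈ b, classInner (Char.resFun N χ.1) θ.1 ≠ 0) →
        blockDefect p B' ≤ blockDefect p B)
    {P : Subgroup G} (hP : IsDefectGroup p M B P) :
    ¬ p ∣ (P ⊔ N).index ∧ IsDefectGroup p M b ((P ⊓ N).subgroupOf N) ∧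
      blockDefect p B = blockDefect p b + N.index.factorization p := by
  classical
  obtain ⟨x₀, hx₀, hidx₀, hind₀⟩ := exists_witness N hpM hb hinv
  -- a covering block with this class as defect class
  set S : Set (IrrCharacter G) :=
    {χ | ∃ θ ∈ b, classInner (Char.resFun N χ.1) θ.1 ≠ 0} with hS
  have hScoeff : SCoeff M (blockIdem S) := fun g => by
    rw [coeff_blockIdem]
    by_cases hg : g ∈ N
    · rw [show g = ((⟨g, hg⟩ : N) : G) from rfl, blockCoeff_covering N hinv]
      exact memLocalRing_blockCoeff hb _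
    · rw [blockCoeff_eq_sum]
      have h0 : ∀ a ∈ S, blockOf M a.1 ⊆ S := fun a ⟨θ, hθ, hc⟩ => fun a' ha' => by
        obtain ⟨θ', hθ', hc'⟩ := covers_of_congr N (isPBlock_blockOf a) hb
          (fun χ hχ η hη n => congr_of_covers N (isPBlock_blockOf a) hb (mem_blockOf_self a) hθ hc
            hχ hη n) a' ha'
        exact ⟨θ', hθ', hc'⟩
      have := scoeff_blockIdem_of_closed (M := M) S h0 g
      rwa [coeff_blockIdem, blockCoeff_eq_sum] at this
  have hclosed : ∀ χ ∈ S, blockOf M χ.1 ⊆ S := fun χ hχ => blockOf_subset_of_scoeff hScoeff hχ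
  obtain ⟨χ₁, hχ₁, hu₁⟩ := exists_block_unit_of_closed S hclosed (g := (x₀ : G))
    (by rw [blockCoeff_covering N hinv]; exact hx₀.2.1)
  have hcc : ∀ B' : Set (IrrCharacter G), IsPBlock M B' →
      (∃ χ ∈ B', ∃ θ ∈ b, classInner (Char.resFun N χ.1) θ.1 ≠ 0) →
      ∀ χ ∈ B', ¬ MemLocalIdeal M (centralChar χ.1 (x₀ : G)) := by
    rintro B' hB' ⟨χ', hχ', θ', hθ', hc'⟩ χ hχ hI
    have h := congr_of_covers N hB' hb hχ' hθ' hc' hχ hθ' x₀
    exact hind₀ θ' hθ' ((memLocalIdeal_iff_of_sub h).1 hI)
  have hB₁ := isPBlock_blockOf (M := M) χ₁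
  have hcov₁ : ∃ χ ∈ blockOf M χ₁.1, ∃ θ ∈ b, classInner (Char.resFun N χ.1) θ.1 ≠ 0 :=
    ⟨χ₁, mem_blockOf_self χ₁, hχ₁⟩
  have hdc₁ : IsDefectClass M (blockOf M χ₁.1) (x₀ : G) :=
    (isDefectClass_iff hB₁ (mem_blockOf_self χ₁)).2
      ⟨hu₁, hcc _ hB₁ hcov₁ χ₁ (mem_blockOf_self χ₁)⟩
  obtain ⟨χ, hχ⟩ := block_nonempty hB
  have hdB : blockDefect p B =
      (Nat.card (Subgroup.centralizer ({(x₀ : G)} : Set G))).factorization p := by
    refine le_antisymm (blockDefect_le_of_centralChar hpM hB hχ (hcc B hB hcov χ hχ)) ?_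
    rw [← blockDefect_eq hpM hB₁ hdc₁]
    exact hmax _ hB₁ hcov₁
  have hsum := factorization_card_centralizer N x₀ hidx₀
  have hd : blockDefect p B = blockDefect p b + N.index.factorization p := by
    rw [hdB, blockDefect_eq hpM hb hx₀, hsum]
  -- move the class into the centraliser of `P`
  obtain ⟨h, hh, hhP⟩ := isDefectGroup_iff.1 hP
  obtain ⟨z, hz, hPz⟩ := exists_isConj_le_centralizer hpM hB hχ (hcc B hB hcov χ hχ) hh.2.1
    (SylIn.isPGroup hhP) hhP.1
  obtain ⟨c, rfl⟩ := isConj_iff.1 hz
  set x : N := MulAut.conjNormal c x₀ with hx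
  have hxc : (x : G) = c * (x₀ : G) * c⁻¹ := by simp [hx]
  have hbx : IsDefectClass M b x := by
    obtain ⟨θ, hθ⟩ := block_nonempty hb
    refine (isDefectClass_iff hb hθ).2 ⟨?_, ?_⟩
    · have e1 : blockCoeff b x = blockCoeff b x₀ := by
        rw [← blockCoeff_covering N hinv, ← blockCoeff_covering N hinv, hxc]
        simpa [coeff_blockIdem] using isCentralElt_blockIdem
          {χ : IrrCharacter G | ∃ θ ∈ b, classInner (Char.resFun N χ.1) θ.1 ≠ 0} (x₀ : G) c
      rw [e1]
      exact hx₀.2.1
    · rw [hx, ← centralChar_conjFun]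
      exact fun hI => hx₀.2.2 _ (hinv c θ hθ) hI
  have hcard : (Nat.card (Subgroup.centralizer ({(x : G)} : Set G))).factorization p =
      blockDefect p B := by
    rw [hdB, hxc, ← map_conj_centralizer, card_map_conj]
  have hxN : (Nat.card (Subgroup.centralizer ({x} : Set N))).factorization p = blockDefect p b :=
    (blockDefect_eq hpM hb hbx).symm
  have hPp := SylIn.isPGroup hhP
  have hPcard : Nat.card P = p ^ blockDefect p B := card_defectGroup hpM hB hP
  set T : Subgroup N := (P ⊓ N).subgroupOf N with hT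
  have hTle : T ≤ Subgroup.centralizer ({x} : Set N) := fun t ht => by
    rw [Subgroup.mem_centralizer_singleton_iff]
    exact Subtype.ext (by
      have := Subgroup.mem_centralizer_singleton_iff.1 (hPz (Subgroup.mem_subgroupOf.1 ht).1)
      rwa [← hxc] at this)
  obtain ⟨a, ha⟩ := IsPGroup.iff_card.1 ((hPp.to_le (inf_le_left : P ⊓ N ≤ P)).comap_subtype
    (K := N) : IsPGroup p T)
  have hale : a ≤ blockDefect p b := by
    rw [← hxN]
    exact (hp.out.pow_dvd_iff_le_factorization Nat.card_pos.ne').1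
      (ha ▸ Subgroup.card_dvd_of_le hTle)
  have ha' : Nat.card T = p ^ a := ha
  have hTP : Nat.card T = Nat.card (N.subgroupOf P) :=
    Nat.card_congr
      { toFun := fun t => ⟨⟨((t : N) : G), t.2.1⟩, (t : N).2⟩
        invFun := fun t => ⟨⟨((t : P) : G), t.2⟩, ⟨(t : P).2, t.2⟩⟩
        left_inv := fun _ => rfl
        right_inv := fun _ => rfl }
  have hmul := Subgroup.card_mul_index (N.subgroupOf P)
  rw [← hTP, ha', hPcard] at hmul
  have hrel : N.relIndex P * (P ⊔ N).index = N.index := by
    rw [← Subgroup.relIndex_sup_right (H := P) (K := N)]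
    exact Subgroup.relIndex_mul_index le_sup_right
  have hr0 : N.relIndex P ≠ 0 := fun h0 =>
    Subgroup.index_ne_zero_of_finite (H := N) (by rw [← hrel, h0, zero_mul])
  have hv : a + (N.relIndex P).factorization p = blockDefect p B := by
    have := congrArg (fun n : ℕ => n.factorization p) hmul
    rw [show (N.subgroupOf P).index = N.relIndex P from rfl] at this
    simp only [Nat.factorization_mul (pow_ne_zero a hp.out.ne_zero) hr0,
      Finsupp.add_apply, hp.out.factorization_pow, Finsupp.single_eq_same] at this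
    exact this
  have hsup : (N.relIndex P).factorization p + (P ⊔ N).index.factorization p =
      N.index.factorization p := by
    rw [← hrel, Nat.factorization_mul hr0 Subgroup.index_ne_zero_of_finite, Finsupp.add_apply]
  refine ⟨fun hdvd => ?_, isDefectGroup_iff.2 ⟨x, hbx, hTle, ?_⟩, hd⟩
  · have := hp.out.factorization_pos_of_dvd Subgroup.index_ne_zero_of_finite hdvd
    omega
  · rw [ha', hxN]
    congr 1
    omega

end Cfsg.Agent.BlocksX
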