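import Cfsg.Agent.Lib.BlocksX.AnnTrace
import Cfsg.Agent.Lib.BlocksX.MaxCovering
import Cfsg.Agent.Lib.BlocksX.Scalar

/-!
# Every member of a covered block lies under the covering block
-/

set_option linter.style.haveILetI false
set_option linter.unusedSectionVars false

namespace Cfsg.Agent.BlocksX

open Cfsg MonoidAlgebra Cfsg.Agent.Blocks
open scoped ComplexConjugate

universe u

variable {G : Type u} [Group G] [Finite G] {M : Ideal AlgInt} [M.IsMaximal]

/-- An element with local coefficients in `M` acting as a scalar acts as an element of `M`. -/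
theorem memLocalIdeal_scalar_of_mcoeff {V : Type*} [AddCommGroup V] [Module ℂ V] [Nontrivial V]
    (ρ : Representation ℂ G V) {z : MonoidAlgebra ℂ G} (hz : MCoeff M z) {s : ℂ}
    (h : ρ.asAlgebraHom z = s • (1 : Module.End ℂ V)) : MemLocalIdeal M s := by
  classical
  haveI := Fintype.ofFinite G
  choose a b ha hb he using hz
  set d : AlgInt := ∏ g, b g with hd
  have hdM : d ∉ M := by
    intro hmem
    obtain ⟨g, -, hg⟩ := (Ideal.IsPrime.prod_mem_iff).1 hmem
    exact hb g hg
  set c : G → AlgInt := fun g => a g * ∏ x ∈ Finset.univ.erase g, b x with hc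
  have hcd : ofFun (fun g => (c g : ℂ)) = (d : ℂ) • z := alg_ext fun g => by
    rw [coeff_ofFun, coeff_smul_apply, smul_eq_mul, ← he g, hc, hd,
      ← Finset.mul_prod_erase _ _ (Finset.mem_univ g)]
    have := coe_ne_zero_of_not_mem (hb g)
    push_cast
    field_simp
  have h1 : MemLocalIdeal M ((d : ℂ) * s) := by
    refine memLocalIdeal_scalar ρ c (fun g => M.mul_mem_right _ (ha g)) ?_
    rw [hcd, map_smul, h, smul_smul]
  have h2 := MemLocalIdeal.mul_right h1
    (memLocalRing_inv (memLocalRing_coe d) fun hI => hdM ((memLocalIdeal_coe_iff d).1 hI))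
  rwa [mul_comm (d : ℂ) s, mul_assoc, mul_inv_cancel₀ (coe_ne_zero_of_not_mem hdM), mul_one] at h2

variable (N : Subgroup G) [N.Normal] [Fintype N]

theorem redA_incl (z : MonoidAlgebra ℂ N) : redA M (incl N z) = incl N (redA M z) :=
  alg_ext fun g => by
    classical
    simp only [coeff_redA, coeff_incl]
    split_ifs <;> simp

theorem scoeff_incl {z : MonoidAlgebra ℂ N} (hz : SCoeff M z) : SCoeff M (incl N z) := fun g => by
  classical
  rw [coeff_incl]
  split_ifs
  exacts [hz _, memLocalRing_zero]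

theorem redA_resH (z : MonoidAlgebra ℂ G) : redA M (resH N z) = resH N (redA M z) :=
  alg_ext fun n => by simp

open Classical in
theorem incl_blockIdem (b : Set (IrrCharacter N)) :
    incl N (blockIdem b) =
      ofFun (fun g : G => if h : g ∈ N then blockCoeff b ⟨g, h⟩ else 0) :=
  alg_ext fun g => by simp only [coeff_incl, coeff_blockIdem, coeff_ofFun]

set_option synthInstance.maxHeartbeats 200000 in
theorem exists_over_in_block [Fintype G] {B : Set (IrrCharacter G)} (hB : IsPBlock M B)
    {b : Set (IrrCharacter N)} (hb : IsPBlock M b)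
    (hcov : ∃ χ ∈ B, ∃ θ ∈ b, classInner (Char.resFun N χ.1) θ.1 ≠ 0)
    {θ : IrrCharacter N} (hθ : θ ∈ b) :
    ∃ χ ∈ B, classInner (Char.resFun N χ.1) θ.1 ≠ 0 := by
  classical
  haveI : IsArtinianRing (AlgInt ⧸ M) := by
    letI := Ideal.Quotient.field M
    infer_instance
  by_contra hno
  -- the orbit of `θ` and the conjugates of `b`
  set O : Set (IrrCharacter N) := {η | ∃ g : G, Char.conjChar N θ g = η} with hO
  set T : Set (IrrCharacter N) := {η | ∃ g : G, Char.conjChar N η g ∈ b} with hT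
  have hOinv : ∀ (g : G), ∀ η ∈ O, Char.conjChar N η g ∈ O := by
    rintro g _ ⟨h, rfl⟩
    exact ⟨h * g, conjChar_mul N θ h g⟩
  have hTinv : ∀ (g : G), ∀ η ∈ T, Char.conjChar N η g ∈ T := by
    rintro g η ⟨h, hh⟩
    exact ⟨g⁻¹ * h, by rwa [← conjChar_mul, mul_inv_cancel_left]⟩
  have hOT : O ⊆ T := by
    rintro _ ⟨h, rfl⟩
    exact ⟨h⁻¹, by rwa [← conjChar_mul, mul_inv_cancel, conjChar_one]⟩
  have hθO : θ ∈ O := ⟨1, conjChar_one N θ⟩
  have hTclosed : ∀ η ∈ T, blockOf M η.1 ⊆ T := by
    rintro ξ ⟨g, hg⟩ ζ hζ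
    refine ⟨g, ?_⟩
    rw [block_eq hb hg]
    exact sameBlock_conjFun N hζ g
  set eB := blockIdem B with heB
  set eT := blockIdem T with heT
  have hBS : SCoeff M eB := scoeff_blockIdem hB
  have hTS : SCoeff M eT := scoeff_blockIdem_of_closed T hTclosed
  -- `θ` does not occur under `B`
  have hdisj : incl N (blockIdem O) * eB = 0 := by
    rw [incl_blockIdem, ofFun_blockCoeff_covering N hOinv, heB, blockIdem_mul]
    have : {χ : IrrCharacter G | ∃ η ∈ O, classInner (Char.resFun N χ.1) η.1 ≠ 0} ∩ B = ∅ := by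
      rw [Set.eq_empty_iff_forall_notMem]
      rintro χ ⟨⟨_, ⟨g, rfl⟩, hc⟩, hχ⟩
      refine hno ⟨χ, hχ, ?_⟩
      rwa [Char.conjChar_coe,
        Char.classInner_resFun_conjFun N (irr_classFun χ) θ.1] at hc
    rw [this]
    refine central_ext (isCentralElt_blockIdem _) isCentralElt_zero fun χ => ?_
    rw [omega_blockIdem, omega_zero, if_neg (Set.notMem_empty χ)]
  set e : MonoidAlgebra (AlgInt ⧸ M) G := redA M eB with he
  have hec : ∀ w, Commute e w :=
    IsCentralElt.commute (isCentralElt_redA (isCentralElt_blockIdem B))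
  have hee : e * e = e := by rw [he, ← redA_mul hBS hBS, heB, blockIdem_mul_self]
  obtain ⟨a₁, ha₁c, ha₁i, ha₁e, y, hy⟩ := exists_ann_trace (N := N) e hec hee
  have ha₁inv : ∀ g : G, conjA g a₁ = a₁ := by
    have hkill : ∀ g : G, conjA g a₁ * a₁ = conjA g a₁ := fun g => by
      have h0 : incl N (conjA g a₁) * e = 0 := by
        rw [incl_conjA, mul_assoc, ← (hec _).eq, ← mul_assoc,
          mul_assoc (MonoidAlgebra.single g (1 : AlgInt ⧸ M)), ha₁e, mul_zero, zero_mul]
      have h1 : conjA g a₁ * (1 - a₁) = 0 := by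
        rw [hy, ← resH_incl_mul, ← (hec y).eq, ← mul_assoc, h0, zero_mul, resH_zero]
      rw [mul_sub, mul_one, sub_eq_zero] at h1
      exact h1.symm
    intro g
    have h2 := congrArg (conjA g) (hkill g⁻¹)
    rw [conjA_mul, conjA_conjA_inv, ← (IsCentralElt.commute ha₁c _).symm.eq] at h2
    exact (hkill g).symm.trans h2
  -- lift `a₁`
  set z : MonoidAlgebra ℂ N := ofFun fun n => (((a₁.coeff n).out : AlgInt) : ℂ) with hz
  have hzc : IsCentralElt z := isCentralElt_ofFun fun n h => by rw [ha₁c n h]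
  have hzS : SCoeff M z := scoeff_ofFun fun n => memLocalRing_coe _
  have hzred : redA M z = a₁ := alg_ext fun n => by
    rw [coeff_redA, hz, coeff_ofFun, red_coe]
    exact Ideal.Quotient.mk_out _
  have hzconj : ∀ (g : G) (η : IrrCharacter N), omega (Char.conjChar N η g).1 z = omega η.1 z := by
    intro g η
    rw [hz, omega_ofFun, omega_ofFun, Char.conjChar_coe, Char.conjFun_apply_one]
    congr 1
    refine Fintype.sum_equiv (MulAut.conjNormal g : MulAut N).toEquiv _ _ fun n => ?_
    have h1 := congrArg (fun t => MonoidAlgebra.coeff t (MulAut.conjNormal g n)) (ha₁inv g)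
    rw [conjA, coeff_resH, coeff_mul_single', inv_inv, mul_one, coeff_single_mul', one_mul,
      MulAut.conjNormal_apply, show g⁻¹ * (g * (n : G) * g⁻¹ * g) = (n : G) by group,
      coeff_incl_coe] at h1
    rw [h1]
    rfl
  set c : ℂ := omega θ.1 z with hc
  have hcS : MemLocalRing M c := memLocalRing_omega θ hzc hzS
  have hTc : IsCentralElt eT := isCentralElt_blockIdem T
  set w := (z - c • 1) * eT with hw
  have hwc : IsCentralElt w :=
    IsCentralElt.mul (IsCentralElt.sub hzc (IsCentralElt.smul _ isCentralElt_one)) hTc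
  have hwS : SCoeff M w := SCoeff.mul (SCoeff.sub hzS (SCoeff.smul hcS scoeff_one)) hTS
  have hw0 : ∀ η : IrrCharacter N, MemLocalIdeal M (omega η.1 w) := by
    intro η
    rw [hw, omega_mul η (IsCentralElt.sub hzc (IsCentralElt.smul _ isCentralElt_one)), omega_sub,
      omega_smul, omega_one, mul_one, heT, omega_blockIdem]
    split_ifs with hη
    · obtain ⟨g, hg⟩ := hη
      rw [mul_one, ← hzconj g η]
      exact SameBlock.omega_sub (sameBlock_of_mem hb hg hθ) hzc hzS
    · rw [mul_zero]
      exact memLocalIdeal_zero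
  set n := Fintype.card (IrrCharacter N)
  have hn : 0 < n := Fintype.card_pos_iff.2 ⟨θ⟩
  have hpow : (redA M w) ^ n = 0 := by
    rw [← redA_pow hwS, redA_eq_zero_iff (SCoeff.pow hwS n)]
    exact mcoeff_pow_of_omega hwc hwS hw0
  set εT : MonoidAlgebra (AlgInt ⧸ M) N := redA M eT with hεT
  have hwred : redA M w = (a₁ - red M c • 1) * εT := by
    rw [hw, redA_mul (SCoeff.sub hzS (SCoeff.smul hcS scoeff_one)) hTS,
      redA_sub hzS (SCoeff.smul hcS scoeff_one), redA_smul hcS scoeff_one, redA_one, hzred]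
  have hεεT : εT * εT = εT := by rw [hεT, ← redA_mul hTS hTS, heT, blockIdem_mul_self]
  have hεc : ∀ v, Commute εT v := IsCentralElt.commute (isCentralElt_redA hTc)
  have hidem : ∀ x : MonoidAlgebra (AlgInt ⧸ M) N, x * x = x → x ^ n = 0 → x = 0 := by
    intro x hx hxn
    have : ∀ m, 0 < m → x ^ m = x := fun m hm => IsIdempotentElem.pow_eq hx hm.ne'
    rw [← this n hn, hxn]
  have hc01 : red M c = 0 ∨ red M c = 1 := by
    have h1 : MemLocalIdeal M (omega θ.1 (z * z - z)) :=
      memLocalIdeal_omega θ (IsCentralElt.sub (IsCentralElt.mul hzc hzc) hzc)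
        ((redA_eq_iff (SCoeff.mul hzS hzS) hzS).1 (by rw [redA_mul hzS hzS, hzred, ha₁i]))
    rw [omega_sub, omega_mul θ hzc, ← hc] at h1
    have h2 := red_eq_zero_of_mem h1
    rw [red_sub (MemLocalRing.mul hcS hcS) hcS, red_mul hcS hcS, sub_eq_zero] at h2
    exact IsIdempotentElem.iff_eq_zero_or_one.1 h2
  rcases hc01 with hc0 | hc1
  · -- the idempotent of `b` lies in the trace ideal
    rw [hwred, hc0, zero_smul, sub_zero] at hpow
    have hx : a₁ * εT = 0 := hidem _ (by
      rw [mul_assoc, ← mul_assoc εT, (hεc a₁).eq, mul_assoc, hεεT, ← mul_assoc, ha₁i]) hpow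
    have hε : εT = resH N (incl N εT * (y * e)) := by
      rw [resH_incl_mul, ← hy, mul_sub, mul_one, (hεc a₁).eq, hx, sub_zero]
    set Y : MonoidAlgebra ℂ G := ofFun fun g => (((y.coeff g).out : AlgInt) : ℂ) with hY
    have hYS : SCoeff M Y := scoeff_ofFun fun g => memLocalRing_coe _
    have hYred : redA M Y = y := alg_ext fun g => by
      rw [coeff_redA, hY, coeff_ofFun, red_coe]
      exact Ideal.Quotient.mk_out _
    set W := resH N (incl N eT * (Y * eB)) with hW
    have hWS : SCoeff M W := scoeff_resH (SCoeff.mul (scoeff_incl N hTS) (SCoeff.mul hYS hBS))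
    have hm : MCoeff M (eT - W) := by
      rw [← redA_eq_iff hTS hWS, hW, redA_resH, redA_mul (scoeff_incl N hTS) (SCoeff.mul hYS hBS),
        redA_mul hYS hBS, redA_incl, hYred, ← hεT, ← he]
      exact hε
    have hWO : blockIdem O * W = 0 := by
      rw [hW, ← resH_incl_mul, ← mul_assoc, ← incl_mul, heT, blockIdem_mul,
        Set.inter_eq_left.2 hOT, ← (IsCentralElt.commute (isCentralElt_blockIdem B) Y).eq,
        ← mul_assoc, hdisj, zero_mul, resH_zero]
    obtain ⟨d, ρ, hρ, hρe⟩ := θ.2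
    haveI := hρ
    haveI := Char.nontrivial_of_isIrreducible ρ
    have h1 : ∀ A : Set (IrrCharacter N), θ ∈ A → ρ.asAlgebraHom (blockIdem A) = 1 := fun A hA => by
      rw [exists_eq_omega_smul ρ (isCentralElt_blockIdem A), hρe, omega_blockIdem, if_pos hA,
        one_smul]
    refine not_memLocalIdeal_one (memLocalIdeal_scalar_of_mcoeff ρ hm (s := 1) ?_)
    have hρW : ρ.asAlgebraHom W = 0 := by
      rw [← one_mul (ρ.asAlgebraHom W), ← h1 O hθO, ← map_mul, hWO, map_zero]
    rw [map_sub, hρW, sub_zero, heT, h1 T (hOT hθO), one_smul]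
  · -- the idempotent of `b` annihilates `B`
    rw [hwred, hc1, one_smul] at hpow
    have hx : (a₁ - 1) * εT = 0 := by
      have h2 : ((1 - a₁) * εT) ^ n = 0 := by
        rw [show (1 - a₁) * εT = -((a₁ - 1) * εT) by rw [← neg_mul, neg_sub], neg_pow, hpow,
          mul_zero]
      have h3 : (1 - a₁) * εT = 0 := hidem _ (by
        rw [mul_assoc, ← mul_assoc εT, (hεc _).eq, mul_assoc, hεεT, ← mul_assoc]
        congr 1
        rw [sub_mul, one_mul, mul_sub, mul_one, ha₁i, sub_self, sub_zero]) h2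
      rw [← neg_sub, neg_mul, h3, neg_zero]
    rw [sub_mul, one_mul, sub_eq_zero] at hx
    have hM : MCoeff M (incl N eT * eB) := by
      rw [← redA_eq_zero_iff (SCoeff.mul (scoeff_incl N hTS) hBS),
        redA_mul (scoeff_incl N hTS) hBS, redA_incl, ← hεT, ← he, ← hx, ← (hεc a₁).eq, incl_mul,
        mul_assoc, ha₁e, mul_zero]
    obtain ⟨χ, hχ, η, hη, hcη⟩ := hcov
    have hT' : η ∈ T := ⟨1, by rwa [conjChar_one]⟩
    rw [heT, incl_blockIdem, ofFun_blockCoeff_covering N hTinv, heB, blockIdem_mul] at hM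
    have h := memLocalIdeal_omega χ (isCentralElt_blockIdem _) hM
    rw [omega_blockIdem, if_pos ⟨⟨η, hT', hcη⟩, hχ⟩] at h
    exact not_memLocalIdeal_one h

end Cfsg.Agent.BlocksX
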