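import Cfsg.Agent.S4492
import Cfsg.Agent.S0887
import Cfsg.Agent.Lib.BlocksX.FongReynolds

/-!
# Fong's height bound for `p`-solvable groups
-/

set_option linter.style.haveILetI false
set_option linter.unusedSectionVars false

namespace Cfsg.Agent.BlocksX

open Cfsg Cfsg.Agent.Blocks

universe u

variable {p : ℕ} [hp : Fact p.Prime] {M : Ideal AlgInt}

/-- Over an invariant character of `O_{p'}(G)` the height is at most that of `[P : Z(P)]`. -/
theorem degree_le_of_invariant {G : Type u} [Group G] [Fintype G] (hs : IsPSolvable p G)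
    (N : Subgroup G) [N.Normal] [Fintype N] (hNdef : N = pPrimeCore p G) (θ : IrrCharacter N)
    (hinv : ∀ g : G, Char.conjFun N θ.1 g = θ.1)
    {χ : IrrCharacter G} (hχ : classInner (Char.resFun N χ.1) θ.1 ≠ 0)
    (P : Sylow p G) :
    (Char.degree χ).factorization p ≤
      ((Subgroup.center (P : Subgroup G)).index).factorization p := by
  classical
  have hNp : (Nat.card N).Coprime p := hNdef ▸ PCore.coprime_card_pPrimeCore
  have hcore : pPrimeCore p (G ⧸ N) = ⊥ := by
    subst hNdef
    exact PCore.pPrimeCore_quotient_self_eq_bot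
  set π := QuotientGroup.mk' N
  set K := pCore p (G ⧸ N) with hK
  -- the centre of the Sylow subgroup, as a subgroup of `G`
  set Z := (Subgroup.center (P : Subgroup G)).map (P : Subgroup G).subtype with hZ
  have hZp : IsPGroup p Z := (P.isPGroup'.to_subgroup _).map _
  have hZP : Z ≤ P := Subgroup.map_subtype_le _
  have hKP : K ≤ (P : Subgroup G).map π :=
    PCore.pCore_le_sylow (P.mapSurjective (QuotientGroup.mk'_surjective N))
  have hCK := PCore.centralizer_pCore_le (PCore.isPSolvable_quotient hs N) hcore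
  have hZc : ∀ z ∈ Z, ∀ y ∈ (P : Subgroup G), z * y = y * z := by
    rintro _ ⟨c, hc, rfl⟩ y hy
    exact (congrArg Subtype.val (Subgroup.mem_center_iff.1 hc ⟨y, hy⟩)).symm
  -- the normal subgroup `A`
  set W := (Subgroup.center K).map K.subtype with hW
  haveI : W.Normal := inferInstance
  set A := W.comap π with hA
  haveI : A.Normal := Subgroup.Normal.comap inferInstance π
  have hNA : N ≤ A := fun n hn => by
    rw [hA, Subgroup.mem_comap, show π n = 1 from (QuotientGroup.eq_one_iff n).2 hn]
    exact one_mem _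
  have hZA : Z ≤ A := by
    intro z hz
    have hzC : π z ∈ Subgroup.centralizer (K : Set (G ⧸ N)) := by
      refine Subgroup.mem_centralizer_iff.2 fun k hk => ?_
      obtain ⟨y, hy, rfl⟩ := hKP hk
      rw [← map_mul, ← map_mul, hZc z hz y hy]
    refine ⟨⟨π z, hCK hzC⟩, Subgroup.mem_center_iff.2 fun k => Subtype.ext ?_, rfl⟩
    exact Subgroup.mem_centralizer_iff.1 hzC k k.2
  have hWab : ∀ a b : A ⧸ N.subgroupOf A, a * b = b * a := by
    intro a b
    obtain ⟨a, rfl⟩ := QuotientGroup.mk_surjective a
    obtain ⟨b, rfl⟩ := QuotientGroup.mk_surjective b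
    rw [← QuotientGroup.mk_mul, ← QuotientGroup.mk_mul, QuotientGroup.eq, Subgroup.mem_subgroupOf]
    obtain ⟨c, hc, hca⟩ := a.2
    obtain ⟨d, hd, hdb⟩ := b.2
    have e : π (a : G) * π (b : G) = π (b : G) * π (a : G) := by
      rw [← hca, ← hdb, ← map_mul, ← map_mul, Subgroup.mem_center_iff.1 hd c]
    rw [Subgroup.coe_mul, Subgroup.coe_inv, Subgroup.coe_mul, Subgroup.coe_mul,
      ← QuotientGroup.eq, QuotientGroup.mk_mul, QuotientGroup.mk_mul]
    exact e
  obtain ⟨j, hj⟩ : ∃ j, N.relIndex A = p ^ j := by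
    obtain ⟨j, hj⟩ := IsPGroup.iff_card.1 ((PCore.isPGroup_pCore (p := p) (G := G ⧸ N)).to_le
      (Subgroup.map_subtype_le _ : W ≤ K))
    refine ⟨j, ?_⟩
    rw [show N = (⊥ : Subgroup (G ⧸ N)).comap π by
      rw [MonoidHom.comap_bot, QuotientGroup.ker_mk'], hA, Subgroup.relIndex_comap,
      Subgroup.map_comap_eq_self_of_surjective (QuotientGroup.mk'_surjective N),
      Subgroup.relIndex_bot_left, hj]
  obtain ⟨ψ, hψ, -⟩ := S4492.exists_invariant_extension hNA
    (by rw [hj]; exact Nat.Coprime.pow_left j hNp.symm) θ fun g n =>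
      (Char.conjFun_eq_self_iff N θ.1 g).1 (hinv g) n _ rfl
  -- a constituent on `A`
  obtain ⟨η, hη, hηN⟩ : ∃ η : IrrCharacter A, classInner (Char.resFun A χ.1) η.1 ≠ 0 ∧
      classInner (fun n : N => η.1 (Subgroup.inclusion hNA n)) θ.1 ≠ 0 := by
    by_contra! hno
    refine hχ ?_
    obtain ⟨m, hm, hm'⟩ :=
      Char.IsCharacter.exists_decomp (Char.IsCharacter.restrict (Char.irr_isCharacter χ) A)
    rw [show Char.resFun N χ.1 = ∑ η : IrrCharacter A,
        (m η : ℂ) • fun n : N => η.1 (Subgroup.inclusion hNA n) from funext fun n => by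
      have := congrFun hm (Subgroup.inclusion hNA n)
      simpa using this, Char.classInner_sum_left]
    refine Finset.sum_eq_zero fun η _ => ?_
    rw [Char.classInner_smul_left]
    by_cases h : classInner (Char.resFun A χ.1) η.1 = 0
    · rw [show (m η : ℂ) = 0 from (hm' η).symm.trans h, zero_mul]
    · rw [hno η h, mul_zero]
  let e := Subgroup.subgroupOfEquivOfLe hNA
  haveI : (N.subgroupOf A).Normal := Subgroup.normal_subgroupOf
  have hres : IsIrrCharacter (N.subgroupOf A) (Char.resFun (N.subgroupOf A) ψ.1) := by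
    have h1 : Char.resFun (N.subgroupOf A) ψ.1 = θ.1 ∘ e.toMonoidHom :=
      funext fun x => hψ (e x)
    rw [h1]
    exact Char.IsIrrCharacter.comp_surjective θ.2 e.toMonoidHom e.surjective
  have hov : classInner (Char.resFun (N.subgroupOf A) η.1) (Char.resFun (N.subgroupOf A) ψ.1) ≠
      0 := by
    refine fun h0 => hηN ?_
    rw [← h0]
    simp only [classInner]
    rw [Nat.card_congr e.toEquiv]
    congr 1
    refine (Fintype.sum_equiv e.toEquiv _ _ fun x => ?_).symm
    show _ = _ * _
    congr 2
    exact hψ (e x)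
  obtain ⟨β, hβ⟩ := Char.exists_mulQuotient_eq (N.subgroupOf A) ψ hres η hov
  have hηdeg : η.1 1 = (Char.degree θ : ℂ) := by
    rw [← hβ, Char.mulQuotient_apply, QuotientGroup.mk_one, Char.apply_one_of_comm hWab β, mul_one,
      ← Char.apply_one_eq_degree]
    exact (hψ 1)
  obtain ⟨hd1, hd2⟩ := S0887.result A χ.1 χ.2 η.1 η.2 hη _ _ (Char.apply_one_eq_degree χ) hηdeg
  have hθp : (Char.degree θ).factorization p = 0 := Nat.factorization_eq_zero_of_not_dvd fun h =>
    hp.out.coprime_iff_not_dvd.1 hNp.symm (h.trans (Char.degree_dvd_natCard θ))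
  obtain ⟨r, hr⟩ := hd1
  have hθ0 := Char.degree_pos θ
  rw [hr, Nat.mul_div_cancel_left _ hθ0] at hd2
  have hr0 : r ≠ 0 := fun h => (Char.degree_pos χ).ne' (by rw [hr, h, mul_zero])
  have h1 : (Char.degree χ).factorization p ≤ A.index.factorization p := by
    rw [hr, Nat.factorization_mul hθ0.ne' hr0, Finsupp.add_apply, hθp, zero_add]
    exact (Nat.factorization_le_iff_dvd hr0 Subgroup.index_ne_zero_of_finite).2 hd2 p
  have h2 := factorization_index (p := p) A
  have h3 : (Nat.card Z).factorization p ≤ (Nat.card A).factorization p :=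
    (Nat.factorization_le_iff_dvd Nat.card_pos.ne' Nat.card_pos.ne').2
      (Subgroup.card_dvd_of_le hZA) p
  have h4 : (Nat.card (P : Subgroup G)).factorization p = (Nat.card G).factorization p := by
    rw [Sylow.card_eq_multiplicity, hp.out.factorization_pow, Finsupp.single_eq_same]
  have h5 := factorization_index (p := p) (Subgroup.center (P : Subgroup G))
  have h6 : Nat.card Z = Nat.card (Subgroup.center (P : Subgroup G)) :=
    Subgroup.card_map_of_injective (P : Subgroup G).subtype_injective
  rw [h6] at h3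
  omega

/-- **Fong**: heights in `p`-solvable groups are at most that of `[D : Z(D)]`. -/
theorem fong_height (hM : IsPModular p M) :
    ∀ {G : Type u} [Group G] [Fintype G], IsPSolvable p G →
      ∀ (B : Set (IrrCharacter G)), IsPBlock M B → ∀ D : Subgroup G, IsDefectGroup p M B D →
        ∀ χ ∈ B, blockHeight p B χ.1 ≤ ((Subgroup.center D).index).factorization p := by
  classical
  haveI := hM.2.1
  suffices h : ∀ (n : ℕ) (G : Type u) [Group G] [Fintype G], Nat.card G = n → IsPSolvable p G →
      ∀ (B : Set (IrrCharacter G)), IsPBlock M B → ∀ D : Subgroup G, IsDefectGroup p M B D →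
        ∀ χ ∈ B, blockHeight p B χ.1 ≤ ((Subgroup.center D).index).factorization p by
    intro G _ _
    exact h _ G rfl
  intro n
  induction n using Nat.strong_induction_on with
  | _ n ih =>
  intro G _ _ hn hs B hB D hD χ hχ
  have hpM := hM.2.2
  have hiso : ∀ {H₁ H₂ : Type u} [Group H₁] [Group H₂], (H₁ ≃* H₂) →
      (Subgroup.center H₁).index = (Subgroup.center H₂).index := fun f => by
    have h : (Subgroup.center _).map f.toMonoidHom = Subgroup.center _ := by
      ext y
      obtain ⟨x, rfl⟩ := f.surjective y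
      rw [show f x = f.toMonoidHom x from rfl, Subgroup.mem_map_iff_mem f.injective,
        Subgroup.mem_center_iff, Subgroup.mem_center_iff, f.surjective.forall]
      simp only [MulEquiv.coe_toMonoidHom, ← map_mul, f.injective.eq_iff]
    rw [← h, Subgroup.index_map_of_bijective f.bijective]
  set N := pPrimeCore p G with hNdef
  haveI := Fintype.ofFinite N
  have hNp : ¬ p ∣ Nat.card N :=
    hp.out.coprime_iff_not_dvd.1 (PCore.coprime_card_pPrimeCore (p := p) (G := G)).symm
  obtain ⟨θ, hθ⟩ := Char.exists_constituent N χ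
  have hb : blockOf M θ.1 = {θ} := (blockOf_eq_singleton_iff hpM θ).2 (by
    rw [Nat.factorization_eq_zero_of_not_dvd hNp,
      Nat.factorization_eq_zero_of_not_dvd fun h => hNp (h.trans (Char.degree_dvd_natCard θ))])
  set T := Char.inertia N θ.1 with hT
  haveI := Fintype.ofFinite T
  have hNT : N ≤ T := Char.le_inertia N (Char.IsCharacter.isClassFunction (Char.irr_isCharacter θ))
  have SD : StabData M N T {θ} := ⟨hNT, hb ▸ isPBlock_blockOf θ, fun g => by
    rw [hT, Char.mem_inertia]
    exact ⟨fun h η hη => by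
      rw [Set.mem_singleton_iff] at hη ⊢
      subst hη
      exact Subtype.ext h, fun h => congrArg Subtype.val (Set.mem_singleton_iff.1 (h θ rfl))⟩⟩
  by_cases htop : T = ⊤
  · have hinv : ∀ g : G, Char.conjFun N θ.1 g = θ.1 := fun g => by
      rw [← Char.mem_inertia, ← hT, htop]; exact Subgroup.mem_top g
    obtain ⟨B₀, hB₀, hiff, hsyl, hdef⟩ := S4492.result p M hM hs N hNdef θ fun g m =>
      (Char.conjFun_eq_self_iff N θ.1 g).1 (hinv g) m _ rfl
    obtain rfl : B = B₀ := block_eq_of_mem hB hB₀ hχ ((hiff χ).2 hθ)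
    obtain ⟨P, rfl⟩ := hdef D hD
    refine le_trans ?_ (degree_le_of_invariant hs N hNdef θ hinv hθ P)
    rw [blockHeight, charDegree_eq]
    exact Nat.sub_le _ _
  · have hlt : Nat.card T < n := by
      rw [← hn]
      refine lt_of_le_of_ne (Nat.le_of_dvd Nat.card_pos T.card_subgroup_dvd_card) fun h => htop ?_
      exact Subgroup.eq_top_of_card_eq T h
    obtain ⟨ψ, hψ, he⟩ := SD.exists_over_T (Set.mem_singleton θ) hθ
    have hB' := isPBlock_blockOf (M := M) ψ
    have hsub : blockOf M ψ.1 ⊆ overB T {θ} := SD.blockOf_subset hψ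
    have hχeq : frMap T (Char.trivialChar G) ψ = χ :=
      Subtype.ext ((SD.frMap_coe hψ).trans he.symm)
    have himg : B = frMap T (Char.trivialChar G) '' blockOf M ψ.1 := by
      rw [SD.image_block hB' hsub (mem_blockOf_self ψ), hχeq]
      exact block_eq hB hχ
    obtain ⟨Q, hQ⟩ := exists_defectGroup (p := p) hB'
    have hQG := SD.defectGroup hpM hsub (B := B) (himg ▸ SD.isInducedBlock hB' hsub) hQ
    obtain ⟨x, hx⟩ := defectGroup_conj hpM hB hD hQG
    have hc : (Subgroup.center D).index = (Subgroup.center Q).index := by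
      rw [← hx]
      exact ((hiso (Subgroup.equivMapOfInjective (Q.map T.subtype) _
        (MulAut.conj x).injective)).symm).trans
        (hiso (Subgroup.equivMapOfInjective Q _ T.subtype_injective)).symm
    rw [hc, ← hχeq, himg, SD.height_frMap hsub (mem_blockOf_self ψ)]
    exact ih _ hlt T rfl (PCore.isPSolvable_subgroup hs T) _ hB' Q hQ ψ (mem_blockOf_self ψ)

end Cfsg.Agent.BlocksX
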