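import Cfsg.Agent.Lib.BlocksX.Basic
import Cfsg.Agent.Lib.Blocks.FirstMain
import Cfsg.Agent.Lib.BlocksX.CentralProduct
import Mathlib.GroupTheory.Nilpotent

/-!
# Green's theorem on defect groups as Sylow intersections
-/

set_option linter.style.haveILetI false
set_option linter.unusedSectionVars false

namespace Cfsg.Agent.BlocksX

open Cfsg MonoidAlgebra Cfsg.Agent.Blocks
open scoped ComplexConjugate

universe u

variable {G : Type u} [Group G] [Finite G]

theorem coeff_pow_eq_zero_off {R : Type*} [CommRing R] (C : Subgroup G) {z : MonoidAlgebra R G}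
    (hz : ∀ x ∉ C, z.coeff x = 0) : ∀ (n : ℕ), ∀ x ∉ C, (z ^ n).coeff x = 0 := by
  classical
  haveI := Fintype.ofFinite G
  intro n
  induction n with
  | zero =>
    intro x hx
    have h1 : x ≠ 1 := fun h => hx (h ▸ C.one_mem)
    simp [MonoidAlgebra.one_def, Finsupp.single_apply, h1.symm]
  | succ n ih =>
    intro x hx
    rw [pow_succ, coeff_mul_eq_sum]
    refine Finset.sum_eq_zero fun y _ => ?_
    by_cases hy : y ∈ C
    · rw [hz _ fun h => hx (by simpa using C.mul_mem hy h), mul_zero]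
    · rw [ih y hy, zero_mul]

variable {p : ℕ} [hp : Fact p.Prime] {M : Ideal AlgInt} [M.IsMaximal] {B : Set (IrrCharacter G)}

/-- Modulo `M` a block idempotent lives on the centraliser of each normal `p`-subgroup. -/
theorem mem_centralizer_of_unit_blockCoeff (hpM : (p : AlgInt) ∈ M) (hB : IsPBlock M B)
    {Q : Subgroup G} [hQn : Q.Normal] (hQ : IsPGroup p Q) {x : G}
    (hx : ¬ MemLocalIdeal M (blockCoeff B x)) : x ∈ Subgroup.centralizer (Q : Set G) := by
  classical
  haveI := charP_residue hpM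
  haveI : CharP (MonoidAlgebra (AlgInt ⧸ M) G) p := by
    refine charP_of_injective_ringHom
      (f := (MonoidAlgebra.singleOneRingHom : (AlgInt ⧸ M) →+* MonoidAlgebra (AlgInt ⧸ M) G)) ?_ p
    intro a b h
    have := congrArg (fun w => MonoidAlgebra.coeff w 1) h
    simpa [MonoidAlgebra.singleOneRingHom] using this
  by_contra hxC
  set e := redA M (blockIdem B) with he
  set t : MonoidAlgebra (AlgInt ⧸ M) G :=
    ofFun fun g => if g ∈ Subgroup.centralizer (Q : Set G) then e.coeff g else 0 with ht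
  have hec : IsCentralElt e := isCentralElt_redA (isCentralElt_blockIdem B)
  have htc : IsCentralElt t := isCentralElt_ofFun fun g c => by
    simp only [conj_mem_iff' g c, hec g c]
  obtain ⟨N, hN⟩ := isNilpotent_of_central Q hQ (IsCentralElt.sub hec htc) fun g hg => by
    simp [ht, hg]
  have hidem : e * e = e := by
    rw [he, ← redA_mul (scoeff_blockIdem hB) (scoeff_blockIdem hB), blockIdem_mul_self]
  have hpow : ∀ k, 1 ≤ k → e ^ k = e := fun k hk => by
    induction k, hk using Nat.le_induction with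
    | base => rw [pow_one]
    | succ k _ ih => rw [pow_succ, ih, hidem]
  have hq : (e - t) ^ p ^ N = 0 :=
    pow_eq_zero_of_le (Nat.lt_pow_self hp.out.one_lt).le hN
  have key : e = t ^ p ^ N := by
    calc e = e ^ p ^ N := (hpow _ (Nat.one_le_pow _ _ hp.out.pos)).symm
      _ = (t + (e - t)) ^ p ^ N := by rw [add_sub_cancel]
      _ = t ^ p ^ N + (e - t) ^ p ^ N := add_pow_char_pow_of_commute p N (IsCentralElt.commute htc _)
      _ = _ := by rw [hq, add_zero]
  refine hx ((red_eq_zero_iff (memLocalRing_blockCoeff hB x)).1 ?_)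
  rw [← coeff_blockIdem, ← coeff_redA, ← he, key]
  exact coeff_pow_eq_zero_off _ (fun g hg => by simp [ht, hg]) _ x hxC
where
  conj_mem_iff' (g c : G) {Q : Subgroup G} [Q.Normal] :
      c * g * c⁻¹ ∈ Subgroup.centralizer (Q : Set G) ↔ g ∈ Subgroup.centralizer (Q : Set G) :=
    ⟨fun h => by
      simpa [mul_assoc] using
        (inferInstance : (Subgroup.centralizer (Q : Set G)).Normal).conj_mem _ h c⁻¹,
    fun h => (inferInstance : (Subgroup.centralizer (Q : Set G)).Normal).conj_mem g h c⟩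

theorem exists_trivOn_of_defectGroup (hpM : (p : AlgInt) ∈ M) (hB : IsPBlock M B) {D : Subgroup G}
    [D.Normal] (hD : IsDefectGroup p M B D) : ∃ θ ∈ B, Char.TrivOn D θ.1 := by
  classical
  haveI := Fintype.ofFinite G
  haveI := Fintype.ofFinite D
  obtain ⟨g, hg⟩ := exists_defectClass hB
  have hDp := IsDefectGroup.isPGroup hD
  have hgr := IsDefectClass.isPRegular hpM hB hg
  have hgC := mem_centralizer_of_unit_blockCoeff hpM hB hDp hg.2.1
  by_contra hno
  have h1 : ∑ u : D, blockCoeff B (g * u) = blockCoeff B g := by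
    rw [Finset.sum_eq_single (1 : D)]
    · simp
    · intro u _ hu
      refine blockCoeff_eq_zero hpM hB fun hr => hu ?_
      obtain ⟨k, hk⟩ := IsPGroup.iff_orderOf.1 hDp u
      exact Subtype.ext ((isPRegular_mul_iff (hgC u u.2).symm hgr
        ⟨k, by rw [← hk, Subgroup.orderOf_coe]⟩).1 hr)
    · exact fun h => absurd (Finset.mem_univ _) h
  refine hg.2.1 ?_
  rw [← h1]
  simp only [blockCoeff_eq_sum, ← Finset.mul_sum]
  rw [Finset.sum_comm, Finset.sum_eq_zero, mul_zero]
  · exact memLocalIdeal_zero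
  intro θ hθ
  rw [← Finset.mul_sum, ← map_sum, Char.sum_coset_eq_zero_of_not_trivOn D θ
    (fun h => hno ⟨θ, (Finset.mem_filter.1 hθ).2, h⟩), map_zero, mul_zero]

/-- Some left coset of a Sylow subgroup has unit coefficient sum. -/
theorem exists_coset_sum_unit (hpM : (p : AlgInt) ∈ M) (hB : IsPBlock M B) {D : Subgroup G}
    [D.Normal] (hD : IsDefectGroup p M B D) (S : Sylow p G) [Fintype (S : Subgroup G)] :
    ∃ g, ¬ MemLocalIdeal M (∑ u : (S : Subgroup G), blockCoeff B (g * u)) := by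
  classical
  haveI := Fintype.ofFinite G
  haveI := Fintype.ofFinite D
  haveI := Fintype.ofFinite (G ⧸ D)
  haveI := Fintype.ofFinite (G ⧸ (S : Subgroup G))
  have hDp := IsDefectGroup.isPGroup hD
  have hDS : D ≤ (S : Subgroup G) := by
    obtain ⟨R, hR⟩ := hDp.exists_le_sylow
    obtain ⟨c, hc⟩ := MulAction.exists_smul_eq G R S
    intro d hd
    rw [← hc, Sylow.coe_subgroup_smul, Subgroup.mem_pointwise_smul_iff_inv_smul_mem]
    refine hR ?_
    simpa [MulAut.smul_def] using ‹D.Normal›.conj_mem d hd c⁻¹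
  obtain ⟨θ, hθ, ht⟩ := exists_trivOn_of_defectGroup hpM hB hD
  obtain ⟨-, θ', rfl, hdeg⟩ := degree_of_trivOn hpM hB hD hθ ht
  by_contra! hall
  set F : G → ℂ := fun g => ∑ u : (S : Subgroup G), blockCoeff B (g * u) with hF
  have hε : ∀ a c : G, blockCoeff B (c * a * c⁻¹) = blockCoeff B a := fun a c => by
    simpa [coeff_blockIdem] using isCentralElt_blockIdem B a c
  have hFS : ∀ (s : G), s ∈ (S : Subgroup G) → ∀ a, F (s⁻¹ * a * s) = F a := by
    intro s hs a
    refine Fintype.sum_equiv (MulAut.conj (⟨s, hs⟩ : (S : Subgroup G))).toEquiv _ _ fun u => ?_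
    show blockCoeff B (s⁻¹ * a * s * u) = blockCoeff B (a * (s * u * s⁻¹))
    rw [← hε (s⁻¹ * a * s * u) s]
    congr 1
    group
  have hFD : ∀ d ∈ D, ∀ a, F (a * d) = F a := by
    intro d hd a
    refine Fintype.sum_equiv (Equiv.mulLeft (⟨d, hDS hd⟩ : (S : Subgroup G))) _ _ fun u => ?_
    simp [mul_assoc]
  set Z : G → ℂ := fun g => ∑ q : G ⧸ (S : Subgroup G), F (q.out⁻¹ * g * q.out) with hZ
  have hZc : ∀ a c : G, Z (c * a * c⁻¹) = Z a := by
    intro a c
    refine Fintype.sum_equiv (MulAction.toPerm c⁻¹) _ _ fun q => ?_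
    obtain ⟨s, hs⟩ := QuotientGroup.mk_out_eq_mul (S : Subgroup G) (c⁻¹ * q.out)
    have : (MulAction.toPerm c⁻¹ q) = ((c⁻¹ * q.out : G) : G ⧸ (S : Subgroup G)) := by
      rw [MulAction.toPerm_apply, ← smul_eq_mul, MulAction.Quotient.coe_smul_out]
    rw [this, hs]
    calc F (q.out⁻¹ * (c * a * c⁻¹) * q.out) =
        F ((s : G)⁻¹ * (q.out⁻¹ * (c * a * c⁻¹) * q.out) * (s : G)) := (hFS _ s.2 _).symm
      _ = _ := by congr 1; group
  have hZD : ∀ d ∈ D, ∀ a, Z (a * d) = Z a := by
    intro d hd a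
    refine Finset.sum_congr rfl fun q _ => ?_
    rw [show q.out⁻¹ * (a * d) * q.out = (q.out⁻¹ * a * q.out) * (q.out⁻¹ * d * q.out) by group,
      hFD _ (by simpa using ‹D.Normal›.conj_mem d hd q.out⁻¹)]
  have hZout : ∀ g : G, Z ((g : G ⧸ D).out) = Z g := fun g => by
    obtain ⟨d, hd⟩ := QuotientGroup.mk_out_eq_mul D g
    rw [hd, hZD d d.2]
  set zb : MonoidAlgebra ℂ (G ⧸ D) := ofFun fun q => Z q.out with hzb
  have hzbc : IsCentralElt zb := isCentralElt_ofFun fun a c => by
    obtain ⟨a, rfl⟩ := QuotientGroup.mk_surjective a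
    obtain ⟨c, rfl⟩ := QuotientGroup.mk_surjective c
    rw [← QuotientGroup.mk_inv, ← QuotientGroup.mk_mul, ← QuotientGroup.mk_mul, hZout, hZout, hZc]
  have hzbM : MCoeff M zb := fun q => by
    rw [hzb, coeff_ofFun]
    exact MemLocalIdeal.sum _ fun r _ => hall _
  have homega := memLocalIdeal_omega θ' hzbc hzbM
  have hvan : ∀ u : (S : Subgroup G), (u : G) ∉ D → (Char.inflate D θ').1 (u : G) = 0 := by
    intro u hu
    have hreg : ¬ IsPRegular p ((u : G) : G ⧸ D) := by
      intro hr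
      obtain ⟨k, hk⟩ := IsPGroup.iff_orderOf.1 S.isPGroup' u
      refine hu ((QuotientGroup.eq_one_iff _).1 (eq_one_of_orderOf_dvd_coprime
        (a := p ^ k) (b := orderOf ((u : G) : G ⧸ D)) ?_ dvd_rfl
        (Nat.Coprime.pow_left _ ((Nat.Prime.coprime_iff_not_dvd hp.out).2 hr))))
      rw [← hk, ← Subgroup.orderOf_coe]
      exact orderOf_map_dvd (QuotientGroup.mk' D) (u : G)
    have h0 := blockCoeff_eq_zero hpM (isPBlock_blockOf (M := M) θ') hreg
    rw [(blockOf_eq_singleton_iff hpM θ').2 hdeg, blockCoeff_eq_sum] at h0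
    simpa [Finset.filter_eq', Nat.card_pos.ne', irr_one_ne_zero θ'] using h0
  have hsum : ∑ u : (S : Subgroup G), (Char.inflate D θ').1 (u : G) =
      (Nat.card D : ℂ) * θ'.1 1 := by
    rw [← Finset.sum_filter_add_sum_filter_not Finset.univ (fun u : (S : Subgroup G) => (u : G) ∈ D),
      Finset.sum_eq_zero (s := Finset.univ.filter fun u : (S : Subgroup G) => ¬ (u : G) ∈ D)
        (fun u hu => hvan u (Finset.mem_filter.1 hu).2), add_zero,
      Finset.sum_congr rfl (g := fun _ => θ'.1 1) fun u hu => by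
        rw [Char.inflate_apply, (QuotientGroup.eq_one_iff _).2 (Finset.mem_filter.1 hu).2],
      Finset.sum_const, nsmul_eq_mul]
    congr 2
    rw [← Fintype.card_subtype, Nat.card_eq_fintype_card]
    exact Fintype.card_congr (Subgroup.subgroupOfEquivOfLe hDS).toEquiv
  have hkey : ∑ g, Z g * (Char.inflate D θ').1 g =
      ((S : Subgroup G).index : ℂ) * ((Nat.card D : ℂ) * θ'.1 1) := by
    simp only [hZ, Finset.sum_mul]
    rw [Finset.sum_comm]
    have hq : ∀ q : G ⧸ (S : Subgroup G),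
        ∑ g, F (q.out⁻¹ * g * q.out) * (Char.inflate D θ').1 g = (Nat.card D : ℂ) * θ'.1 1 := by
      intro q
      calc ∑ g, F (q.out⁻¹ * g * q.out) * (Char.inflate D θ').1 g
          = ∑ g, F g * (Char.inflate D θ').1 g := by
            refine Fintype.sum_equiv (MulAut.conj q.out⁻¹).toEquiv _ _ fun g => ?_
            simp only [MulEquiv.toEquiv_eq_coe, MulEquiv.coe_toEquiv, MulAut.conj_apply, inv_inv]
            congr 1
            simpa using (irr_classFun (Char.inflate D θ') g q.out⁻¹).symm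
        _ = ∑ u : (S : Subgroup G), (Char.inflate D θ').1 (u : G)⁻¹ := by
            simp only [hF, Finset.sum_mul]
            rw [Finset.sum_comm]
            refine Finset.sum_congr rfl fun u _ => ?_
            have h2 := chiL_mul_of_central (Char.inflate D θ') (isCentralElt_blockIdem B)
              (MonoidAlgebra.single (u : G)⁻¹ (1 : ℂ))
            rw [omega_blockIdem, if_pos hθ, chiL_single, one_mul, one_mul, chiL_eq_sum] at h2
            rw [← h2]
            exact Finset.sum_congr rfl fun g _ => by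
              rw [coeff_mul_single', inv_inv, coeff_blockIdem, mul_one]
        _ = ∑ u : (S : Subgroup G), (Char.inflate D θ').1 (u : G) :=
            Fintype.sum_equiv (Equiv.inv _) _ _ fun u => by simp
        _ = _ := hsum
    rw [Finset.sum_congr rfl fun q _ => hq q, Finset.sum_const, Finset.card_univ, nsmul_eq_mul,
      ← Nat.card_eq_fintype_card, Subgroup.index]
  have hom : omega θ'.1 zb = ((S : Subgroup G).index : ℂ) := by
    rw [omega_ofFun]
    have h1 := sum_comp_mk D (fun q => Z q.out * θ'.1 q)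
    simp only [hZout] at h1
    rw [show (∑ x : G, Z x * θ'.1 (x : G ⧸ D)) = ∑ g, Z g * (Char.inflate D θ').1 g from rfl,
      hkey, mul_left_comm] at h1
    have hD0 : (Nat.card D : ℂ) ≠ 0 := Nat.cast_ne_zero.2 Nat.card_pos.ne'
    rw [← mul_left_cancel₀ hD0 h1, mul_div_assoc, div_self (irr_one_ne_zero θ'), mul_one]
  rw [hom] at homega
  exact S.not_dvd_index ((memLocalIdeal_natCast_iff hpM _).1 homega)

/-- Green's theorem when the defect group is normal. -/
theorem green_normal (hpM : (p : AlgInt) ∈ M) (hB : IsPBlock M B) {D : Subgroup G} [D.Normal]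
    (hD : IsDefectGroup p M B D) (S : Sylow p G) :
    ∃ x, IsPRegular p x ∧ SylIn p (Subgroup.centralizer ({x} : Set G)) D ∧
      (S : Subgroup G) ⊓ (S : Subgroup G).map (MulAut.conj x).toMonoidHom ≤ D := by
  classical
  haveI := Fintype.ofFinite (S : Subgroup G)
  have hDp := IsDefectGroup.isPGroup hD
  have hε : ∀ a c : G, blockCoeff B (c * a * c⁻¹) = blockCoeff B a := fun a c => by
    simpa [coeff_blockIdem] using isCentralElt_blockIdem B a c
  obtain ⟨g, hg⟩ := exists_coset_sum_unit hpM hB hD S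
  set R : Subgroup G := (S : Subgroup G) ⊓ (S : Subgroup G).map (MulAut.conj g).toMonoidHom with hR
  have hRmem : ∀ r ∈ R, g⁻¹ * r * g ∈ (S : Subgroup G) := fun r hr => by
    simpa using mem_map_conj.1 hr.2
  have hRp : IsPGroup p R := S.isPGroup'.to_le inf_le_left
  letI act : MulAction R (S : Subgroup G) :=
    { smul := fun r u => ⟨(g⁻¹ * (r : G) * g) * u * (r : G)⁻¹,
        mul_mem (mul_mem (hRmem r r.2) u.2) (inv_mem r.2.1)⟩
      one_smul := fun u => Subtype.ext (by
        show (g⁻¹ * ((1 : R) : G) * g) * u * ((1 : R) : G)⁻¹ = u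
        simp)
      mul_smul := fun r r' u => Subtype.ext (by
        show (g⁻¹ * ((r * r' : R) : G) * g) * u * ((r * r' : R) : G)⁻¹ =
          (g⁻¹ * (r : G) * g) * ((g⁻¹ * (r' : G) * g) * u * (r' : G)⁻¹) * (r : G)⁻¹
        rw [Subgroup.coe_mul]
        group) }
  have hsmul : ∀ (r : R) (u : (S : Subgroup G)),
      g * ((r • u : (S : Subgroup G)) : G) = (r : G) * (g * u) * (r : G)⁻¹ := fun r u => by
    show g * ((g⁻¹ * (r : G) * g) * u * (r : G)⁻¹) = _
    group
  obtain ⟨u, hu, hru⟩ : ∃ u : (S : Subgroup G), u ∈ MulAction.fixedPoints R (S : Subgroup G) ∧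
      ¬ MemLocalIdeal M (blockCoeff B (g * u)) := by
    by_contra! hno
    refine hg ((red_eq_zero_iff (MemLocalRing.sum _ fun u _ => memLocalRing_blockCoeff hB _)).1 ?_)
    rw [red_sum _ fun u _ => memLocalRing_blockCoeff hB _,
      sum_eq_sum_fixedPoints hRp (nsmul_residue_eq_zero hpM) _ fun r u => by rw [hsmul, hε]]
    exact Finset.sum_eq_zero fun u hu => red_eq_zero_of_mem (hno u (Finset.mem_filter.1 hu).2)
  set x := g * (u : G) with hx
  have hxreg : IsPRegular p x := by
    by_contra h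
    exact hru (by rw [blockCoeff_eq_zero hpM hB h]; exact memLocalIdeal_zero)
  have hxD : x ∈ Subgroup.centralizer (D : Set G) :=
    mem_centralizer_of_unit_blockCoeff hpM hB hDp hru
  obtain ⟨d, hd, hdD⟩ := isDefectGroup_iff.1 hD
  obtain ⟨χ, hχ⟩ := block_nonempty hB
  have hbound : ∀ Q : Subgroup G, IsPGroup p Q → Q ≤ Subgroup.centralizer ({x} : Set G) →
      Nat.card Q ≤ Nat.card D := fun Q hQ hQx => by
    obtain ⟨c, hc⟩ := minmax hpM hB hχ (hd.2.2 χ hχ) hru hdD hQ hQx
    have := Subgroup.card_le_of_le hc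
    rwa [card_map_conj] at this
  have hDx : D ≤ Subgroup.centralizer ({x} : Set G) := le_centralizer_singleton.2 hxD
  have hsyl : SylIn p (Subgroup.centralizer ({x} : Set G)) D := by
    obtain ⟨T, hT⟩ := exists_sylIn (p := p) (Subgroup.centralizer ({x} : Set G))
    obtain ⟨c, hc, hle⟩ := SylIn.exists_conj_le hT hDp hDx
    have h1 := Subgroup.card_le_of_le hle
    rw [card_map_conj] at h1
    exact ⟨hDx, (le_antisymm h1 (hbound T (SylIn.isPGroup hT) hT.1)).trans hT.2⟩
  refine ⟨x, hxreg, hsyl, ?_⟩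
  have hS : (S : Subgroup G).map (MulAut.conj x).toMonoidHom =
      (S : Subgroup G).map (MulAut.conj g).toMonoidHom := by
    ext y
    rw [mem_map_conj, mem_map_conj, hx, show (g * (u : G))⁻¹ * y * (g * (u : G)) =
      (u : G)⁻¹ * (g⁻¹ * y * g) * (u : G) by group,
      Subgroup.mul_mem_cancel_right _ u.2, Subgroup.mul_mem_cancel_left _ (inv_mem u.2)]
  rw [hS, ← hR]
  have hRx : R ≤ Subgroup.centralizer ({x} : Set G) := fun r hr => by
    rw [Subgroup.mem_centralizer_singleton_iff]
    have h1 : g * ((( ⟨r, hr⟩ : R) • u : (S : Subgroup G)) : G) = g * (u : G) := by rw [hu ⟨r, hr⟩]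
    rw [hsmul, mul_inv_eq_iff_eq_mul] at h1
    exact h1
  have hDR : D ≤ R := fun d hd => by
    have hDS : D ≤ (S : Subgroup G) := by
      obtain ⟨R', hR'⟩ := hDp.exists_le_sylow
      obtain ⟨c, hc⟩ := MulAction.exists_smul_eq G R' S
      intro d hd
      rw [← hc, Sylow.coe_subgroup_smul, Subgroup.mem_pointwise_smul_iff_inv_smul_mem]
      refine hR' ?_
      simpa [MulAut.smul_def] using ‹D.Normal›.conj_mem d hd c⁻¹
    refine ⟨hDS hd, mem_map_conj.2 (hDS ?_)⟩
    simpa using ‹D.Normal›.conj_mem d hd g⁻¹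
  exact (Subgroup.eq_of_le_of_card_ge hDR (hbound R hRp hRx)).ge

/-- **Green's theorem**: a defect group is the intersection of two Sylow subgroups. -/
theorem green (hpM : (p : AlgInt) ∈ M) (hB : IsPBlock M B) {D : Subgroup G}
    (hD : IsDefectGroup p M B D) (P : Sylow p G) (hDP : D ≤ P) :
    ∃ x, IsPRegular p x ∧ SylIn p (Subgroup.centralizer ({x} : Set G)) D ∧
      (P : Subgroup G) ⊓ (P : Subgroup G).map (MulAut.conj x).toMonoidHom = D := by
  set N := Subgroup.normalizer (D : Set G) with hN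
  obtain ⟨b, hbi, hbD⟩ := exists_block_normalizer hpM hB hD
  haveI : (D.subgroupOf N).Normal := normal_subgroupOf_of_le_normalizer le_rfl
  have hPN : IsPGroup p ((P : Subgroup G).subgroupOf N) := P.isPGroup'.comap_subtype
  obtain ⟨S, hS⟩ := hPN.exists_le_sylow
  obtain ⟨x, hxr, hxS, hxI⟩ := green_normal hpM hbi.1 hbD S
  have hxD : SylIn p (Subgroup.centralizer ({(x : G)} : Set G)) D :=
    sylIn_centralizer_of_normalizer (sylIn_centralizer_normalizer_iff.1 hxS)
  have hxC : (x : G) ∈ Subgroup.centralizer (D : Set G) := le_centralizer_singleton.1 hxD.1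
  refine ⟨(x : G), ?_, hxD, ?_⟩
  · rwa [IsPRegular, Subgroup.orderOf_coe]
  set Q : Subgroup G := (P : Subgroup G) ⊓ (P : Subgroup G).map (MulAut.conj (x : G)).toMonoidHom
    with hQ
  have hDQ : D ≤ Q := fun d hd => by
    refine ⟨hDP hd, mem_map_conj.2 (hDP ?_)⟩
    rwa [mul_assoc, hxC d hd, inv_mul_cancel_left]
  have hNQ : ∀ q ∈ Q, q ∈ N → q ∈ D := by
    intro q hq hqN
    refine hxI (x := (⟨q, hqN⟩ : N)) ⟨hS hq.1, mem_map_conj.2 (hS ?_)⟩
    show ((x⁻¹ * (⟨q, hqN⟩ : N) * x : N) : G) ∈ (P : Subgroup G)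
    simpa using mem_map_conj.1 hq.2
  by_contra hne
  have hlt : D.subgroupOf Q < ⊤ := by
    refine lt_top_iff_ne_top.2 fun h => hne (le_antisymm (Subgroup.subgroupOf_eq_top.1 h) hDQ)
  haveI : Group.IsNilpotent Q := (P.isPGroup'.to_le (inf_le_left : Q ≤ P)).isNilpotent
  obtain ⟨q, hqN, hqD⟩ := SetLike.exists_of_lt
    (Group.normalizerCondition_of_isNilpotent (G := Q) _ hlt)
  refine hqD (Subgroup.mem_subgroupOf.2 (hNQ _ q.2 ?_))
  rw [hN, Subgroup.mem_normalizer_iff]
  intro d
  rw [Subgroup.mem_normalizer_iff] at hqN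
  constructor
  · intro hd
    exact Subgroup.mem_subgroupOf.1 ((hqN ⟨d, hDQ hd⟩).1 hd)
  · intro hd
    have hdQ : d ∈ Q := by
      have := mul_mem (mul_mem (inv_mem q.2) (hDQ hd)) q.2
      simpa [mul_assoc] using this
    exact (hqN ⟨d, hdQ⟩).2 (Subgroup.mem_subgroupOf.2 hd)

end Cfsg.Agent.BlocksX
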