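import Cfsg.Agent.Lib.Blocks.Brauer

/-!
# The group algebra of a subgroup inside the group algebra
-/

set_option linter.style.haveILetI false
set_option linter.unusedSectionVars false

namespace Cfsg.Agent.BlocksX

open MonoidAlgebra Cfsg.Agent.Blocks

variable {R : Type*} [CommRing R] {G : Type*} [Group G] [Finite G] {N : Subgroup G}

open Classical in
/-- Extension of coefficients by zero. -/
noncomputable def incl (N : Subgroup G) (a : MonoidAlgebra R N) : MonoidAlgebra R G :=
  ofFun fun g => if h : g ∈ N then a.coeff ⟨g, h⟩ else 0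

open Classical in
theorem coeff_incl (a : MonoidAlgebra R N) (g : G) :
    (incl N a).coeff g = if h : g ∈ N then a.coeff ⟨g, h⟩ else 0 := by simp [incl]

theorem coeff_incl_coe (a : MonoidAlgebra R N) (n : N) : (incl N a).coeff (n : G) = a.coeff n := by
  classical
  rw [coeff_incl, dif_pos n.2]

theorem coeff_incl_of_not_mem (a : MonoidAlgebra R N) {g : G} (hg : g ∉ N) :
    (incl N a).coeff g = 0 := by
  classical
  rw [coeff_incl, dif_neg hg]

@[simp] theorem resH_incl (a : MonoidAlgebra R N) : resH N (incl N a) = a :=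
  alg_ext fun n => by rw [coeff_resH, coeff_incl_coe]

theorem incl_resH {z : MonoidAlgebra R G} (h : ∀ g ∉ N, z.coeff g = 0) : incl N (resH N z) = z :=
  alg_ext fun g => by
    by_cases hg : g ∈ N
    · rw [show g = ((⟨g, hg⟩ : N) : G) from rfl, coeff_incl_coe, coeff_resH]
    · rw [coeff_incl_of_not_mem _ hg, h g hg]

theorem incl_injective : Function.Injective (incl N : MonoidAlgebra R N → MonoidAlgebra R G) :=
  fun a b h => by rw [← resH_incl a, h, resH_incl]

theorem incl_add (a b : MonoidAlgebra R N) : incl N (a + b) = incl N a + incl N b :=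
  alg_ext fun g => by
    classical
    simp only [coeff_incl, MonoidAlgebra.coeff_add, Finsupp.coe_add, Pi.add_apply]
    split_ifs <;> simp

theorem incl_sub (a b : MonoidAlgebra R N) : incl N (a - b) = incl N a - incl N b :=
  alg_ext fun g => by
    classical
    simp only [coeff_incl, MonoidAlgebra.coeff_sub, Finsupp.coe_sub, Pi.sub_apply]
    split_ifs <;> simp

theorem incl_zero : incl N (0 : MonoidAlgebra R N) = 0 :=
  alg_ext fun g => by
    classical
    simp [coeff_incl]

theorem incl_one : incl N (1 : MonoidAlgebra R N) = 1 := by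
  conv_lhs => rw [← resH_one (R := R) (H := N)]
  refine incl_resH fun g hg => ?_
  classical
  simp only [MonoidAlgebra.one_def, coeff_single, Finsupp.single_apply]
  exact if_neg fun h => hg (by rw [← h]; exact N.one_mem)

theorem resH_add (z w : MonoidAlgebra R G) : resH N (z + w) = resH N z + resH N w :=
  alg_ext fun h => by simp

theorem resH_zero : resH N (0 : MonoidAlgebra R G) = 0 := alg_ext fun h => by simp

theorem resH_incl_mul (a : MonoidAlgebra R N) (z : MonoidAlgebra R G) :
    resH N (incl N a * z) = a * resH N z := by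
  classical
  haveI := Fintype.ofFinite G
  haveI := Fintype.ofFinite N
  refine alg_ext fun n => ?_
  rw [coeff_resH, coeff_mul_eq_sum, coeff_mul_eq_sum]
  symm
  refine Fintype.sum_of_injective (Subtype.val : N → G) Subtype.val_injective _ _
    (fun x hx => by rw [coeff_incl_of_not_mem _ (fun h => hx ⟨⟨x, h⟩, rfl⟩), zero_mul]) fun y => ?_
  rw [coeff_incl_coe, coeff_resH, Subgroup.coe_mul, Subgroup.coe_inv]

theorem resH_mul_incl (z : MonoidAlgebra R G) (a : MonoidAlgebra R N) :
    resH N (z * incl N a) = resH N z * a := by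
  classical
  haveI := Fintype.ofFinite G
  haveI := Fintype.ofFinite N
  refine alg_ext fun n => ?_
  rw [coeff_resH, coeff_mul_eq_sum', coeff_mul_eq_sum']
  symm
  refine Fintype.sum_of_injective (Subtype.val : N → G) Subtype.val_injective _ _
    (fun x hx => by rw [coeff_incl_of_not_mem _ (fun h => hx ⟨⟨x, h⟩, rfl⟩), mul_zero]) fun y => ?_
  rw [coeff_incl_coe, coeff_resH, Subgroup.coe_mul, Subgroup.coe_inv]

theorem incl_mul (a b : MonoidAlgebra R N) : incl N (a * b) = incl N a * incl N b := by
  classical
  haveI := Fintype.ofFinite G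
  conv_lhs => rw [show a * b = resH N (incl N a * incl N b) by rw [resH_incl_mul, resH_incl]]
  refine incl_resH fun g hg => ?_
  rw [coeff_mul_eq_sum]
  refine Finset.sum_eq_zero fun x _ => ?_
  by_cases hx : x ∈ N
  · rw [coeff_incl_of_not_mem (g := x⁻¹ * g) _ fun h => hg (by
      have := mul_mem hx h; rwa [mul_inv_cancel_left] at this), mul_zero]
  · rw [coeff_incl_of_not_mem _ hx, zero_mul]

theorem incl_single (n : N) (r : R) :
    incl N (MonoidAlgebra.single n r) = MonoidAlgebra.single (n : G) r := by
  classical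
  refine alg_ext fun g => ?_
  by_cases hg : g ∈ N
  · rw [show g = ((⟨g, hg⟩ : N) : G) from rfl, coeff_incl_coe]
    simp only [coeff_single, Finsupp.single_apply, Subtype.ext_iff]
  · rw [coeff_incl_of_not_mem _ hg]
    simp only [coeff_single, Finsupp.single_apply]
    rw [if_neg fun h => hg (by rw [← h]; exact n.2)]

/-- Decomposition of an element along the cosets of `N`. -/
theorem eq_sum_single_mul_incl [Fintype (G ⧸ N)] (z : MonoidAlgebra R G) :
    z = ∑ q : G ⧸ N, MonoidAlgebra.single q.out 1 *
      incl N (resH N (MonoidAlgebra.single q.out⁻¹ 1 * z)) := by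
  classical
  refine alg_ext fun g => ?_
  rw [MonoidAlgebra.coeff_sum, Finsupp.finsetSum_apply, Finset.sum_eq_single (g : G ⧸ N)]
  · rw [coeff_single_mul', one_mul]
    have hm : (g : G ⧸ N).out⁻¹ * g ∈ N := QuotientGroup.eq.1 (QuotientGroup.out_eq' _)
    rw [show (g : G ⧸ N).out⁻¹ * g = ((⟨_, hm⟩ : N) : G) from rfl, coeff_incl_coe, coeff_resH,
      coeff_single_mul', one_mul]
    simp
  · intro q _ hq
    rw [coeff_single_mul', one_mul, coeff_incl_of_not_mem]
    intro h
    exact hq (by rw [← QuotientGroup.out_eq' q]; exact QuotientGroup.eq.2 h)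
  · exact fun h => absurd (Finset.mem_univ _) h

theorem eq_zero_of_resH_single_mul {z : MonoidAlgebra R G}
    (h : ∀ g, resH N (MonoidAlgebra.single g 1 * z) = 0) : z = 0 := by
  haveI := Fintype.ofFinite (G ⧸ N)
  rw [eq_sum_single_mul_incl (N := N) z]
  exact Finset.sum_eq_zero fun q _ => by rw [h, incl_zero, mul_zero]

/-- Conjugation of the subgroup algebra of a normal subgroup. -/
noncomputable def conjA (g : G) (a : MonoidAlgebra R N) : MonoidAlgebra R N :=
  resH N (MonoidAlgebra.single g 1 * incl N a * MonoidAlgebra.single g⁻¹ 1)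

variable [hN : N.Normal]

theorem incl_conjA (g : G) (a : MonoidAlgebra R N) :
    incl N (conjA g a) = MonoidAlgebra.single g 1 * incl N a * MonoidAlgebra.single g⁻¹ 1 := by
  refine incl_resH fun x hx => ?_
  rw [coeff_mul_single', inv_inv, mul_one, coeff_single_mul', one_mul, coeff_incl_of_not_mem]
  intro h
  exact hx (by simpa [mul_assoc] using hN.conj_mem _ h g)

theorem single_mul_incl (g : G) (a : MonoidAlgebra R N) :
    MonoidAlgebra.single g 1 * incl N a = incl N (conjA g a) * MonoidAlgebra.single g 1 := by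
  rw [incl_conjA, mul_assoc (MonoidAlgebra.single g (1 : R) * incl N a),
    MonoidAlgebra.single_mul_single, inv_mul_cancel, one_mul, ← MonoidAlgebra.one_def, mul_one]

theorem conjA_mul (g : G) (a b : MonoidAlgebra R N) :
    conjA g (a * b) = conjA g a * conjA g b := by
  refine incl_injective ?_
  rw [incl_mul, incl_conjA, incl_conjA, incl_conjA, incl_mul]
  have h1 : MonoidAlgebra.single g⁻¹ (1 : R) * MonoidAlgebra.single g (1 : R) = 1 := by
    rw [MonoidAlgebra.single_mul_single, inv_mul_cancel, one_mul, ← MonoidAlgebra.one_def]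
  simp only [mul_assoc]
  rw [← mul_assoc (MonoidAlgebra.single g⁻¹ (1 : R)) (MonoidAlgebra.single g 1), h1, one_mul]

theorem conjA_add (g : G) (a b : MonoidAlgebra R N) :
    conjA g (a + b) = conjA g a + conjA g b := by
  rw [conjA, incl_add, mul_add, add_mul, resH_add]; rfl

theorem conjA_one (g : G) : conjA g (1 : MonoidAlgebra R N) = 1 := by
  rw [conjA, incl_one, mul_one, MonoidAlgebra.single_mul_single, mul_inv_cancel, one_mul,
    ← MonoidAlgebra.one_def, resH_one]

theorem conjA_zero (g : G) : conjA g (0 : MonoidAlgebra R N) = 0 := by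
  rw [conjA, incl_zero, mul_zero, zero_mul, resH_zero]

theorem conjA_sub (g : G) (a b : MonoidAlgebra R N) :
    conjA g (a - b) = conjA g a - conjA g b := by
  rw [conjA, incl_sub, mul_sub, sub_mul, resH_sub]; rfl

theorem conjA_conjA_inv (g : G) (a : MonoidAlgebra R N) : conjA g (conjA g⁻¹ a) = a := by
  refine incl_injective ?_
  rw [incl_conjA, incl_conjA, inv_inv]
  have h1 : MonoidAlgebra.single g (1 : R) * MonoidAlgebra.single g⁻¹ (1 : R) = 1 := by
    rw [MonoidAlgebra.single_mul_single, mul_inv_cancel, one_mul, ← MonoidAlgebra.one_def]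
  simp only [← mul_assoc]
  rw [h1, one_mul, mul_assoc, h1, mul_one]

end Cfsg.Agent.BlocksX
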