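import Cfsg.Agent.Lib.BlocksX.KleinSections

/-!
# Perfect isometries between `2`-blocks with Klein four defect groups of equal rank

The virtual characters of the block vanishing on the `2`-regular elements with all coefficients
`±1` are, after one change of signs, the patterns `Pat l`; so a bijection with these signs
respects them, and this is all a perfect isometry needs.
-/

set_option autoImplicit false
set_option linter.style.haveILetI false
set_option linter.unusedSectionVars false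

namespace Cfsg.Agent.BlocksX.Klein

open Cfsg Cfsg.Agent Cfsg.Agent.Blocks
open Cfsg.Agent.BrauerPairs (regDot regDot_comm)
open scoped ComplexConjugate Classical

universe u

variable {G : Type u} [Group G] [Fintype G] {M : Ideal AlgInt} [M.IsMaximal]

/-- A `±1` combination of the block vanishing on the `2`-regular elements. -/
def KerVec (B : Set (IrrCharacter G)) (a : IrrCharacter G → ℤ) : Prop :=
  (∀ χ ∈ B, a χ = 1 ∨ a χ = -1) ∧
    ∀ g : G, IsPRegular 2 g → ∑ χ ∈ Finset.univ.filter (· ∈ B), (a χ : ℂ) * χ.1 g = 0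

/-- The sign patterns of rank `l`. -/
def Pat {α : Type*} [Fintype α] (l : ℕ) (B : Set α) (w : α → ℤ) : Prop :=
  (∀ χ ∈ B, w χ = 1 ∨ w χ = -1) ∧ (l = 1 → ∑ χ ∈ Finset.univ.filter (· ∈ B), w χ = 0) ∧
    (l ≠ 1 → ∀ χ ∈ B, ∀ ψ ∈ B, w χ = w ψ)

theorem card_filter_mem {α : Type*} [Fintype α] (B : Set α) :
    (Finset.univ.filter (· ∈ B)).card = Nat.card B := by
  rw [Nat.card_eq_fintype_card, Fintype.card_subtype]

theorem Pat.four_dvd {α : Type*} [Fintype α] {l : ℕ} {B : Set α} {w w' : α → ℤ}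
    (hw : Pat l B w) (hw' : Pat l B w') (h4 : Nat.card B = 4) :
    (4 : ℤ) ∣ ∑ χ ∈ Finset.univ.filter (· ∈ B), w χ * w' χ := by
  set T := Finset.univ.filter (· ∈ B)
  have hT : T.card = 4 := (card_filter_mem B).trans h4
  by_cases hl : l = 1
  · have h : ∑ χ ∈ T, (1 - w χ) * (1 - w' χ) = 4 + ∑ χ ∈ T, w χ * w' χ := by
      have h1 : ∑ χ ∈ T, w χ = 0 := hw.2.1 hl
      have h2 : ∑ χ ∈ T, w' χ = 0 := hw'.2.1 hl
      simp only [sub_mul, mul_sub, one_mul, mul_one, Finset.sum_sub_distrib, Finset.sum_const,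
        h1, h2, hT]
      norm_num
    have h3 : (4 : ℤ) ∣ ∑ χ ∈ T, (1 - w χ) * (1 - w' χ) := Finset.dvd_sum fun χ hχ => by
      rcases hw.1 χ (Finset.mem_filter.1 hχ).2 with h1 | h1 <;>
        rcases hw'.1 χ (Finset.mem_filter.1 hχ).2 with h2 | h2 <;> rw [h1, h2] <;> norm_num
    rw [h] at h3
    simpa using dvd_sub h3 (dvd_refl (4 : ℤ))
  · obtain ⟨χ₀, hχ₀⟩ : ∃ χ, χ ∈ T := Finset.card_pos.1 (by rw [hT]; norm_num)
    have hmem := (Finset.mem_filter.1 hχ₀).2
    rw [Finset.sum_congr rfl (g := fun _ => w χ₀ * w' χ₀) fun χ hχ => by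
      rw [hw.2.2 hl χ (Finset.mem_filter.1 hχ).2 χ₀ hmem,
        hw'.2.2 hl χ (Finset.mem_filter.1 hχ).2 χ₀ hmem], Finset.sum_const, hT, nsmul_eq_mul]
    exact Dvd.intro _ rfl

/-- The data describing the kernel of reduction of a block with four characters. -/
structure Signs (B : Set (IrrCharacter G)) (l : ℕ) (d : IrrCharacter G → ℤ) : Prop where
  card : Nat.card B = 4
  pm : ∀ χ ∈ B, d χ = 1 ∨ d χ = -1
  ker : ∀ a, KerVec B a ↔ Pat l B fun χ => d χ * a χ

variable {B : Set (IrrCharacter G)} {P : Subgroup G}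

theorem kerVec_of_subsection [Fact (Nat.Prime 2)] (hpM : ((2 : ℕ) : AlgInt) ∈ M) (hB : IsPBlock M B)
    (h4 : Nat.card B = 4) {z : G} (hz : orderOf z = 2)
    [Fintype (Subgroup.centralizer ({z} : Set G))]
    {b : Set (IrrCharacter (Subgroup.centralizer ({z} : Set G)))} (a : IrrCharacter G → ℤ)
    (d : IrrCharacter (Subgroup.centralizer ({z} : Set G)) → ℕ)
    (hD : ∀ χ : IrrCharacter G, ∀ ν ∈ b, regDot 2 (secFun z χ.1) ν.1 = (a χ : ℂ) * d ν / 4)
    (hd : ∑ ν ∈ Finset.univ.filter (· ∈ b), (d ν : ℂ) ^ 2 = 4)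
    (ha : ∑ χ ∈ Finset.univ.filter (· ∈ B), a χ ^ 2 = 4) : KerVec B a := by
  set T := Finset.univ.filter (· ∈ B) with hTdef
  obtain ⟨ν, hν, hν0⟩ : ∃ ν ∈ b, d ν ≠ 0 := by
    by_contra h
    push Not at h
    rw [Finset.sum_congr rfl fun η hη => by rw [h η (Finset.mem_filter.1 hη).2]] at hd
    norm_num at hd
  have horth : ∀ g : G, IsPRegular 2 g → ∑ χ ∈ T, (a χ : ℂ) * χ.1 g = 0 := by
    intro g hg
    have h1 : ∑ χ ∈ T, χ.1 g * regDot 2 (secFun z χ.1) ν.1 = 0 := by
      simp only [regDot, classInner, Finset.mul_sum]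
      rw [Finset.sum_comm]
      refine Finset.sum_eq_zero fun c _ => ?_
      by_cases hc : 2 ∣ orderOf c
      · simp [Char.regFun, hc]
      simp only [Char.regFun, if_neg hc, secFun]
      have hns : ¬ IsPRegular 2 (z * (c : G))⁻¹ := by
        intro h
        have hreg : IsPRegular 2 (z * (c : G)) := by rwa [IsPRegular, orderOf_inv] at h
        have hone : IsPPart 2 (z * (c : G)) 1 :=
          ⟨_, one_mul _, Commute.one_left _, ⟨0, by simp⟩, hreg⟩
        have hpp : IsPPart 2 (z * (c : G)) z :=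
          isPPart_mul (Subgroup.mem_centralizer_singleton_iff.1 c.2).symm ⟨1, by rw [hz, pow_one]⟩
            (by show ¬ 2 ∣ orderOf (c : G); rwa [Subgroup.orderOf_coe])
        rw [IsPPart.unique hpp hone, orderOf_one] at hz
        exact absurd hz (by norm_num)
      have h := weak_orthogonality hpM hB hg hns
      simp only [Char.IsCharacter.conj_apply (Char.irr_isCharacter _), inv_inv] at h
      calc _ = (Nat.card (Subgroup.centralizer ({z} : Set G)) : ℂ)⁻¹ * conj (ν.1 c) *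
            ∑ χ ∈ T, χ.1 g * χ.1 (z * c) := by
            rw [Finset.mul_sum]; exact Finset.sum_congr rfl fun χ _ => by ring
        _ = 0 := by rw [h, mul_zero]
    simp only [hD _ ν hν] at h1
    have h2 : (∑ χ ∈ T, (a χ : ℂ) * χ.1 g) * ((d ν : ℂ) / 4) = 0 := by
      rw [Finset.sum_mul, ← h1]; exact Finset.sum_congr rfl fun χ _ => by ring
    exact (mul_eq_zero.1 h2).resolve_right
      (div_ne_zero (Nat.cast_ne_zero.2 hν0) (by norm_num))
  have hnz : ∀ χ ∈ T, ∀ n : ℤ, a χ ^ 2 = n → n ≤ 1 := by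
    rintro χ hχ n rfl
    by_contra h
    push Not at h
    have h2 : 4 ≤ a χ ^ 2 := by
      have hm : a χ ≤ -2 ∨ 2 ≤ a χ := by
        by_contra hc
        push Not at hc
        obtain ⟨h5, h6⟩ := hc
        interval_cases hh : a χ <;> simp at h
      rcases hm with hm | hm <;> nlinarith
    rw [← Finset.add_sum_erase _ _ hχ] at ha
    have h3 : ∑ ψ ∈ T.erase χ, a ψ ^ 2 ≤ 0 := by linarith
    have h4' : ∀ ψ ∈ T.erase χ, a ψ = 0 := fun ψ hψ => by
      have := le_trans (Finset.single_le_sum (f := fun ψ => a ψ ^ 2) (fun _ _ => sq_nonneg _) hψ) h3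
      exact pow_eq_zero_iff (n := 2) two_ne_zero |>.1 (le_antisymm this (sq_nonneg _))
    have h5 := horth 1 (by simp [IsPRegular])
    rw [← Finset.add_sum_erase _ _ hχ, Finset.sum_eq_zero (s := T.erase χ) fun ψ hψ => by
      rw [h4' ψ hψ, Int.cast_zero, zero_mul], add_zero] at h5
    have ha0 : (a χ : ℂ) ≠ 0 := Int.cast_ne_zero.2 fun h0 => by rw [h0] at h2; norm_num at h2
    exact Char.IsIrrCharacter.apply_one_ne_zero χ.2 ((mul_eq_zero.1 h5).resolve_left ha0)
  refine ⟨fun χ hχ => ?_, horth⟩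
  have hχT : χ ∈ T := Finset.mem_filter.2 ⟨Finset.mem_univ _, hχ⟩
  have hall : ∀ ψ ∈ T, a ψ ^ 2 = 1 := by
    refine (Finset.sum_eq_sum_iff_of_le (fun ψ hψ => hnz ψ hψ _ rfl)).1 ?_
    rw [ha, Finset.sum_const, show T.card = 4 from (card_filter_mem B).trans h4]; rfl
  exact sq_eq_one_iff.1 (hall χ hχT)

/-- The values of the block on a nontrivial section. -/
theorem exists_expansion [Fact (Nat.Prime 2)] [CharP (AlgInt ⧸ M) 2]
    (hpM : ((2 : ℕ) : AlgInt) ∈ M) (hB : IsPBlock M B) (hPD : IsDefectGroup 2 M B P)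
    (hV : IsKleinFour P) (h4 : Nat.card B = 4) {z : G} (hz1 : z ≠ 1)
    (hz : ∃ k, orderOf z = 2 ^ k) [Fintype (Subgroup.centralizer ({z} : Set G))] :
    ∃ (S : Finset (Set (IrrCharacter (Subgroup.centralizer ({z} : Set G)))))
      (a : Set (IrrCharacter (Subgroup.centralizer ({z} : Set G))) → IrrCharacter G → ℤ)
      (φ : Set (IrrCharacter (Subgroup.centralizer ({z} : Set G))) →
        Subgroup.centralizer ({z} : Set G) → ℂ),
      (∀ b, IsInducedBlock M (Subgroup.centralizer ({z} : Set G)) b B → b ∈ S) ∧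
      (∀ b ∈ S, KerVec B (a b)) ∧
      (∀ b ∈ S, ∀ s, IsPRegular 2 s → IsIntegral ℤ (φ b s)) ∧
      (∀ χ ∈ B, ∀ s : Subgroup.centralizer ({z} : Set G), IsPRegular 2 s →
        χ.1 (z * s) = ∑ b ∈ S, (a b χ : ℂ) * φ b s) ∧
      ∀ ν : IrrCharacter (Subgroup.centralizer ({z} : Set G)),
        (∀ χ ∈ B, regDot 2 (secFun z χ.1) ν.1 = 0) ∨
          ∃ b ∈ S, ∃ n : ℕ, ∀ χ ∈ B, regDot 2 (secFun z χ.1) ν.1 = (a b χ : ℂ) * n / 4 := by
  set S := Finset.univ.filter (fun b : Set (IrrCharacter (Subgroup.centralizer ({z} : Set G))) => IsInducedBlock M (Subgroup.centralizer ({z} : Set G)) b B)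
  have hS : ∀ b, b ∈ S ↔ IsInducedBlock M (Subgroup.centralizer ({z} : Set G)) b B := fun b => by simp [S]
  have hex : ∀ b : Set (IrrCharacter (Subgroup.centralizer ({z} : Set G))), ∃ (a : IrrCharacter G → ℤ) (d : IrrCharacter (Subgroup.centralizer ({z} : Set G)) → ℕ)
      (φ : (Subgroup.centralizer ({z} : Set G)) → ℂ), b ∈ S → KerVec B a ∧ (∀ s, IsPRegular 2 s → IsIntegral ℤ (φ s)) ∧
      (∀ η ∈ b, ∀ s, IsPRegular 2 s → η.1 s = (d η : ℂ) * φ s) ∧
      (∀ χ : IrrCharacter G, ∀ ν ∈ b,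
        regDot 2 (secFun z χ.1) ν.1 = (a χ : ℂ) * d ν / 4) ∧
      ∑ ν ∈ Finset.univ.filter (· ∈ b), (d ν : ℂ) ^ 2 = 4 := by
    intro b
    by_cases hb : b ∈ S
    · obtain ⟨hz2, hl, hd⟩ := subsection_rank_one hpM hB hPD hV hz1 hz ((hS b).1 hb)
      obtain ⟨a, d, φ, h1, h2, h3, h5, h6⟩ := subsection_data hpM hz2 hB ((hS b).1 hb) hl hd
      exact ⟨a, d, φ, fun _ => ⟨kerVec_of_subsection hpM hB h4 hz2 a d h3 h5 h6, h1, h2, h3, h5⟩⟩
    · exact ⟨0, 0, 0, fun h => absurd h hb⟩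
  choose a d φ hdata using hex
  have hblockOf : ∀ b ∈ S, ∀ ν ∈ b, blockOf M (ν : IrrCharacter (Subgroup.centralizer ({z} : Set G))).1 = b := fun b hb ν hν =>
    (block_eq ((hS b).1 hb).1 hν).symm
  have hzero : ∀ χ ∈ B, ∀ ν : IrrCharacter (Subgroup.centralizer ({z} : Set G)), blockOf M ν.1 ∉ S →
      regDot 2 (secFun z χ.1) ν.1 = 0 := fun χ hχ ν hν =>
    regDot_secFun_eq_zero hpM hz hB hχ ν fun h => hν ((hS _).2 h)
  refine ⟨S, a, φ, fun b hb => (hS b).2 hb, fun b hb => (hdata b hb).1,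
    fun b hb => (hdata b hb).2.1, fun χ hχ s hs => ?_, fun ν => ?_⟩
  · have h := congrFun (Char.eq_sum_classInner_smul (Char.isClassFunction_regFun 2
      (isClassFunction_secFun (x := z) χ.1 (irr_classFun χ)))) s
    rw [Char.regFun, if_neg (show ¬ 2 ∣ orderOf s from hs), Finset.sum_apply] at h
    refine h.trans ?_
    calc ∑ ν : IrrCharacter (Subgroup.centralizer ({z} : Set G)), regDot 2 (secFun z χ.1) ν.1 * ν.1 s
        = ∑ ν : IrrCharacter (Subgroup.centralizer ({z} : Set G)), ∑ b ∈ S,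
            if ν ∈ b then regDot 2 (secFun z χ.1) ν.1 * ν.1 s else 0 := by
          refine Finset.sum_congr rfl fun ν _ => ?_
          by_cases hν : blockOf M ν.1 ∈ S
          · rw [Finset.sum_eq_single_of_mem _ hν fun b hb hne => if_neg fun hm =>
              hne (hblockOf b hb ν hm).symm, if_pos (mem_blockOf_self ν)]
          · rw [hzero χ hχ ν hν, zero_mul]
            simp
      _ = ∑ b ∈ S, (a b χ : ℂ) * φ b s := by
          rw [Finset.sum_comm]
          refine Finset.sum_congr rfl fun b hb => ?_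
          obtain ⟨-, -, hφ, hD, hd⟩ := hdata b hb
          rw [← Finset.sum_filter, Finset.sum_congr rfl
            (g := fun ν => (a b χ : ℂ) * φ b s / 4 * (d b ν : ℂ) ^ 2) fun ν hν => ?_,
            ← Finset.mul_sum, hd]
          · ring
          · rw [hD χ ν (Finset.mem_filter.1 hν).2, hφ ν (Finset.mem_filter.1 hν).2 s hs]
            ring
  · by_cases hν : blockOf M ν.1 ∈ S
    · exact Or.inr ⟨_, hν, d _ ν, fun χ _ => (hdata _ hν).2.2.2.1 χ ν (mem_blockOf_self ν)⟩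
    · exact Or.inl fun χ hχ => hzero χ hχ ν hν

/-- Existence of the signs. -/
theorem exists_signs [Fact (Nat.Prime 2)] [CharP (AlgInt ⧸ M) 2]
    (hpM : ((2 : ℕ) : AlgInt) ∈ M) (hB : IsPBlock M B) (hPD : IsDefectGroup 2 M B P)
    (hV : IsKleinFour P) (h4 : Nat.card B = 4) {l : ℕ} (hl : blockRank 2 B = l)
    (hl13 : l = 1 ∨ l = 3) : ∃ d, Signs B l d := by
  have hp : Nat.Prime 2 := Fact.out
  set T := Finset.univ.filter (· ∈ B) with hTdef
  have hT : T.card = 4 := (card_filter_mem B).trans h4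
  have hdef : 2 ^ blockDefect 2 B = 4 := (Blocks.card_defectGroup hpM hB hPD).symm.trans hV.card_four
  rcases hl13 with rfl | rfl
  · obtain ⟨φ, d, -, hφ, hsum⟩ := BrauerPairs.rank_one_data hpM hB hl
    rw [hdef, finsum_mem_eq_sum_of_inter_support_eq _ (t := T) (by ext; simp [hTdef])] at hsum
    have hne : ∀ χ ∈ T, d χ ≠ 0 := fun χ hχ h => by
      have := hφ χ (Finset.mem_filter.1 hχ).2 1 (by simp [IsPRegular])
      rw [h, Nat.cast_zero, zero_mul] at this
      exact Char.IsIrrCharacter.apply_one_ne_zero χ.2 this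
    have hone : ∀ χ ∈ T, d χ = 1 := by
      have h := (Finset.sum_eq_sum_iff_of_le (f := fun _ => 1) (g := fun χ => d χ ^ 2)
        fun χ hχ => Nat.one_le_pow _ _ (Nat.pos_of_ne_zero (hne χ hχ))).1
        (by rw [hsum, Finset.sum_const, hT]; rfl)
      exact fun χ hχ => Nat.eq_one_of_mul_eq_one_right ((pow_two (d χ)).symm.trans (h χ hχ).symm)
    have hev : ∀ (a : IrrCharacter G → ℤ) (g : G), IsPRegular 2 g →
        ∑ χ ∈ T, (a χ : ℂ) * χ.1 g = ((∑ χ ∈ T, a χ : ℤ) : ℂ) * φ g := fun a g hg => by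
      rw [Int.cast_sum, Finset.sum_mul]
      refine Finset.sum_congr rfl fun χ hχ => ?_
      rw [hφ χ (Finset.mem_filter.1 hχ).2 g hg, hone χ hχ, Nat.cast_one, one_mul]
    refine ⟨fun _ => 1, h4, fun _ _ => Or.inl rfl, fun a => ?_⟩
    simp only [one_mul]
    constructor
    · intro h
      refine ⟨h.1, fun _ => ?_, fun h => absurd rfl h⟩
      have h1 := h.2 1 (by simp [IsPRegular])
      rw [hev a 1 (by simp [IsPRegular])] at h1
      obtain ⟨χ, hχ⟩ : ∃ χ, χ ∈ T := Finset.card_pos.1 (by rw [hT]; norm_num)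
      refine Int.cast_eq_zero.1 ((mul_eq_zero.1 h1).resolve_right fun h0 => ?_)
      have := hφ χ (Finset.mem_filter.1 hχ).2 1 (by simp [IsPRegular])
      rw [h0, mul_zero] at this
      exact Char.IsIrrCharacter.apply_one_ne_zero χ.2 this
    · exact fun h => ⟨h.1, fun g hg => by rw [hev a g hg, h.2.1 rfl, Int.cast_zero, zero_mul]⟩
  -- rank three
  obtain ⟨u, hu, hu1⟩ : ∃ u ∈ P, u ≠ 1 := by
    by_contra h
    push Not at h
    have : Nat.card P = 1 := Subgroup.card_eq_one.2 (by rw [eq_bot_iff]; exact fun x hx => h x hx)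
    rw [hV.card_four] at this
    norm_num at this
  have hup : ∃ k, orderOf u = 2 ^ k := by
    refine ⟨1, ?_⟩
    rw [pow_one]
    exact orderOf_eq_prime (by
      rw [pow_two]; simpa using congrArg Subtype.val (IsKleinFour.mul_self (⟨u, hu⟩ : P))) hu1
  haveI := Fintype.ofFinite (Subgroup.centralizer ({u} : Set G))
  obtain ⟨b, hb⟩ : ∃ b, IsInducedBlock M (Subgroup.centralizer ({u} : Set G)) b B := by
    have h : ∀ H : Subgroup G, H = Subgroup.centralizer (Subgroup.zpowers u : Set G) →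
        ∃ b, IsInducedBlock M H b B := by
      rintro H rfl
      exact S4642.exists_inducing_centralizer hpM (Blocks.isPGroup_zpowers hup) hB hPD
        ⟨1, by rw [map_one]; exact (Subgroup.map_id _).trans_le (Subgroup.zpowers_le.2 hu)⟩
    exact h _ Blocks.centralizer_zpowers_eq.symm
  obtain ⟨S, a₀, -, hS, hker, -, -, -⟩ := exists_expansion hpM hB hPD hV h4 hu1 hup
  set d := a₀ b
  have hd : KerVec B d := hker b (hS b hb)
  have hex : ∀ χ : B, ∃ c : IrrCharacter G → ℤ, ∀ ν, (4 : ℂ) * regDot 2 χ.1.1 ν.1 = c ν := fun χ => by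
    obtain ⟨c, hc⟩ := BrauerPairs.exists_int_regDot hpM hp hB χ.2
    exact ⟨c, fun ν => by rw [← hc ν, hdef]; norm_num⟩
  choose c hc using hex
  -- `C = 4 (1 - R)`
  set C : B → B → ℤ := fun χ ψ => (if χ = ψ then 4 else 0) - c χ ψ.1 with hCdef
  have hB4 : (Finset.univ : Finset B).card = 4 := by
    rw [Finset.card_univ, ← Nat.card_eq_fintype_card, h4]
  have hcc : ∀ χ : B, ∑ ν : B, c χ ν.1 ^ 2 = 4 * c χ χ.1 := fun χ => by
    have h := BrauerPairs.sum_regDot_mul hpM hp hB χ.2 χ.1.1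
    have e : ((∑ ν : B, c χ ν.1 ^ 2 : ℤ) : ℂ) = ((4 * c χ χ.1 : ℤ) : ℂ) := by
      push_cast
      rw [← hc, ← h, Finset.mul_sum, Finset.mul_sum]
      refine Finset.sum_congr rfl fun ν _ => ?_
      rw [← hc, regDot_comm hp ν.1 χ.1]
      ring
    exact_mod_cast e
  have htr : ∑ χ : B, c χ χ.1 = 12 := by
    have h := BrauerPairs.blockRank_eq_sum hpM hp hB
    rw [hl] at h
    have e : ((∑ χ : B, c χ χ.1 : ℤ) : ℂ) = ((12 : ℤ) : ℂ) := by
      push_cast
      rw [← Finset.sum_congr rfl fun χ _ => hc χ χ.1, ← Finset.mul_sum]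
      show (4 : ℂ) * ∑ χ : B, classInner (Char.regFun 2 χ.1.1) χ.1.1 = _
      rw [← h]; norm_num
    exact_mod_cast e
  have hCsum : ∑ χ : B, ∑ ψ : B, C χ ψ ^ 2 = 16 := by
    have hin : ∀ χ : B, ∑ ψ : B, C χ ψ ^ 2 = 16 - 4 * c χ χ.1 := fun χ => by
      have e : ∀ ψ : B, C χ ψ ^ 2 = c χ ψ.1 ^ 2 + if χ = ψ then 16 - 8 * c χ χ.1 else 0 := fun ψ => by
        rw [hCdef]; dsimp only
        split_ifs with h
        · subst h; ring
        · ring
      rw [Finset.sum_congr rfl fun ψ _ => e ψ, Finset.sum_add_distrib, hcc, Finset.sum_ite_eq]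
      simp; ring
    rw [Finset.sum_congr rfl fun χ _ => hin χ, Finset.sum_sub_distrib, ← Finset.mul_sum, htr,
      Finset.sum_const, hB4]
    norm_num
  have hkill : ∀ a, KerVec B a → ∀ χ : B, ∑ ψ : B, c χ ψ.1 * a ψ.1 = 0 := by
    intro a ha χ
    have e : ((∑ ψ : B, c χ ψ.1 * a ψ.1 : ℤ) : ℂ) = ((0 : ℤ) : ℂ) := by
      push_cast
      rw [← Finset.sum_congr rfl fun ψ _ => congrArg (· * (a ψ.1 : ℂ)) (hc χ ψ.1),
        ← Finset.sum_subtype T (by simp [hTdef])
          (fun ψ : IrrCharacter G => (4 : ℂ) * regDot 2 χ.1.1 ψ.1 * (a ψ : ℂ)),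
        Finset.sum_congr rfl fun ψ _ => by rw [regDot_comm hp]]
      simp only [regDot, classInner, Finset.mul_sum, Finset.sum_mul]
      rw [Finset.sum_comm]
      refine Finset.sum_eq_zero fun g _ => ?_
      by_cases hg : 2 ∣ orderOf g
      · simp [Char.regFun, hg]
      simp only [Char.regFun, if_neg hg]
      calc _ = (4 : ℂ) * (Nat.card G : ℂ)⁻¹ * conj (χ.1.1 g) * ∑ ψ ∈ T, (a ψ : ℂ) * ψ.1 g := by
            rw [Finset.mul_sum]; exact Finset.sum_congr rfl fun ψ _ => by ring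
        _ = 0 := by rw [ha.2 g hg, mul_zero]
    exact_mod_cast e
  have hC : ∀ a, KerVec B a → ∀ χ ψ : B, C χ ψ = a χ.1 * a ψ.1 := by
    intro a ha
    have hsq : ∀ χ : B, a χ.1 ^ 2 = 1 := fun χ => sq_eq_one_iff.2 (ha.1 χ.1 χ.2)
    have hin : ∀ χ : B, ∑ ψ : B, C χ ψ * a ψ.1 = 4 * a χ.1 := fun χ => by
      simp only [hCdef, sub_mul, Finset.sum_sub_distrib, hkill a ha χ, ite_mul, zero_mul,
        Finset.sum_ite_eq, Finset.mem_univ, if_true, sub_zero]
    have h0 : ∑ χ : B, ∑ ψ : B, (C χ ψ - a χ.1 * a ψ.1) ^ 2 = 0 := by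
      have e : ∀ χ : B, ∑ ψ : B, (C χ ψ - a χ.1 * a ψ.1) ^ 2 = (∑ ψ : B, C χ ψ ^ 2) - 4 := fun χ => by
        calc _ = ∑ ψ : B, (C χ ψ ^ 2 - 2 * a χ.1 * (C χ ψ * a ψ.1) + 1) :=
              Finset.sum_congr rfl fun ψ _ => by linear_combination (a ψ.1 ^ 2) * hsq χ + hsq ψ
          _ = _ := by
            rw [Finset.sum_add_distrib, Finset.sum_sub_distrib, ← Finset.mul_sum, hin,
              Finset.sum_const, hB4, nsmul_eq_mul]
            push_cast
            linear_combination (-8 : ℤ) * hsq χ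
      rw [Finset.sum_congr rfl fun χ _ => e χ, Finset.sum_sub_distrib, hCsum, Finset.sum_const, hB4]
      norm_num
    intro χ ψ
    have h1 := (Finset.sum_eq_zero_iff_of_nonneg fun χ _ =>
      Finset.sum_nonneg fun ψ _ => sq_nonneg _).1 h0 χ (Finset.mem_univ _)
    have h2 := (Finset.sum_eq_zero_iff_of_nonneg fun ψ _ => sq_nonneg _).1 h1 ψ (Finset.mem_univ _)
    exact sub_eq_zero.1 (pow_eq_zero_iff two_ne_zero |>.1 h2)
  refine ⟨d, h4, hd.1, fun a => ⟨fun ha => ⟨fun χ hχ => ?_, fun h => absurd h (by norm_num),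
    fun _ χ hχ ψ hψ => ?_⟩, fun h => ⟨fun χ hχ => ?_, fun g hg => ?_⟩⟩⟩
  · rcases hd.1 χ hχ with h1 | h1 <;> rcases ha.1 χ hχ with h2 | h2 <;> simp [h1, h2]
  · have h1 := (hC a ha ⟨χ, hχ⟩ ⟨ψ, hψ⟩).symm.trans (hC d hd ⟨χ, hχ⟩ ⟨ψ, hψ⟩)
    rcases hd.1 χ hχ with e1 | e1 <;> rcases hd.1 ψ hψ with e2 | e2 <;>
      rcases ha.1 χ hχ with e3 | e3 <;> rcases ha.1 ψ hψ with e4 | e4 <;>
      simp [e1, e2, e3, e4] at h1 ⊢
  · rcases hd.1 χ hχ with h1 | h1 <;> rcases h.1 χ hχ with h2 | h2 <;> simp [h1] at h2 <;>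
      first | exact Or.inl (by omega) | exact Or.inr (by omega)
  · obtain ⟨χ₀, hχ₀⟩ : ∃ χ, χ ∈ T := Finset.card_pos.1 (by rw [hT]; norm_num)
    have hmem := (Finset.mem_filter.1 hχ₀).2
    calc ∑ χ ∈ T, (a χ : ℂ) * χ.1 g
        = (((d χ₀ * a χ₀ : ℤ)) : ℂ) * ∑ χ ∈ T, (d χ : ℂ) * χ.1 g := by
          rw [Finset.mul_sum]
          refine Finset.sum_congr rfl fun χ hχ => ?_
          have hm := (Finset.mem_filter.1 hχ).2
          have h1 : d χ * a χ = d χ₀ * a χ₀ := h.2.2 (by norm_num) χ hm χ₀ hmem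
          have h2 : (a χ : ℤ) = d χ₀ * a χ₀ * d χ := by
            rcases hd.1 χ hm with e | e <;> rw [e] at h1 ⊢ <;> linarith
          rw [h2]; push_cast; ring
      _ = 0 := by rw [hd.2 g hg, mul_zero]

/-- The two-variable function of a bijection `J` of `B` onto `c` with signs. -/
noncomputable def pairing {H : Type u} [Group H] (B : Set (IrrCharacter G))
    (dB : IrrCharacter G → ℤ) (dc : IrrCharacter H → ℤ) (J : IrrCharacter G → IrrCharacter H)
    (x : G) (y : H) : ℂ :=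
  ∑ χ ∈ Finset.univ.filter (· ∈ B), ((dB χ * dc (J χ) : ℤ) : ℂ) * χ.1 x * (J χ).1 y

/-- The pairing of a kernel vector with the values of the block. -/
theorem sum_kerVec_apply [Fact (Nat.Prime 2)] [CharP (AlgInt ⧸ M) 2]
    (hpM : ((2 : ℕ) : AlgInt) ∈ M) (hB : IsPBlock M B) (hPD : IsDefectGroup 2 M B P)
    (hV : IsKleinFour P) {l : ℕ} {d : IrrCharacter G → ℤ} (hS : Signs B l d)
    {v : IrrCharacter G → ℤ} (hv : KerVec B v) (y : G) :
    MemLocalRing M ((∑ χ ∈ Finset.univ.filter (· ∈ B), (v χ : ℂ) * χ.1 y) / 4) := by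
  set T := Finset.univ.filter (· ∈ B) with hTdef
  obtain ⟨z, hz⟩ := Blocks.exists_isPPart (p := 2) y
  by_cases hz1 : z = 1
  · obtain ⟨y', hy', -, -, hr⟩ := hz
    rw [hz1, one_mul] at hy'
    rw [hv.2 y (hy' ▸ hr), zero_div]
    exact memLocalRing_zero
  haveI := Fintype.ofFinite (Subgroup.centralizer ({z} : Set G))
  obtain ⟨S, a, φ, -, hker, hint, hexp, -⟩ := exists_expansion hpM hB hPD hV hS.card hz1
    (Blocks.IsPPart.isPElement hz)
  obtain ⟨s, hs, hsr⟩ := exists_regular_factor hz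
  have hdvd : ∀ b ∈ S, (4 : ℤ) ∣ ∑ χ ∈ T, v χ * a b χ := fun b hb => by
    have h := ((hS.ker v).1 hv).four_dvd ((hS.ker (a b)).1 (hker b hb)) hS.card
    convert h using 1
    refine Finset.sum_congr rfl fun χ hχ => ?_
    rcases hS.pm χ (Finset.mem_filter.1 hχ).2 with e | e <;> rw [e] <;> ring
  choose! k hk using hdvd
  have hrw : ∑ χ ∈ T, (v χ : ℂ) * χ.1 y = 4 * ∑ b ∈ S, (k b : ℂ) * φ b s := by
    calc _ = ∑ χ ∈ T, ∑ b ∈ S, (v χ : ℂ) * ((a b χ : ℂ) * φ b s) :=
          Finset.sum_congr rfl fun χ hχ => by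
            rw [← hs, hexp χ (Finset.mem_filter.1 hχ).2 s hsr, Finset.mul_sum]
      _ = ∑ b ∈ S, ((∑ χ ∈ T, v χ * a b χ : ℤ) : ℂ) * φ b s := by
          rw [Finset.sum_comm]
          refine Finset.sum_congr rfl fun b _ => ?_
          rw [Int.cast_sum, Finset.sum_mul]
          exact Finset.sum_congr rfl fun χ _ => by push_cast; ring
      _ = _ := by
          rw [Finset.mul_sum]
          exact Finset.sum_congr rfl fun b hb => by rw [hk b hb]; push_cast; ring
  rw [hrw, mul_div_cancel_left₀ _ (by norm_num : (4 : ℂ) ≠ 0)]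
  exact MemLocalRing.sum _ fun b hb => memLocalRing_of_isIntegral
    ((map_intCast (algebraMap ℤ ℂ) (k b) ▸ isIntegral_algebraMap).mul (hint b hb s hsr))

variable {H : Type u} [Group H] [Fintype H] {c : Set (IrrCharacter H)} {Q : Subgroup H}
  {l : ℕ} {dB : IrrCharacter G → ℤ} {dc : IrrCharacter H → ℤ}
  {J : IrrCharacter G → IrrCharacter H} {I : IrrCharacter H → IrrCharacter G}

theorem sum_pullback (hJ : Set.BijOn J B c) (hJI : ∀ χ ∈ B, I (J χ) = χ) {R : Type*}
    [AddCommMonoid R] (f : IrrCharacter G → IrrCharacter H → R) :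
    ∑ χ ∈ Finset.univ.filter (· ∈ B), f χ (J χ) =
      ∑ η ∈ Finset.univ.filter (· ∈ c), f (I η) η := by
  refine Finset.sum_bij (fun χ _ => J χ) (fun χ hχ => ?_) (fun χ hχ ψ hψ h => ?_) (fun η hη => ?_)
    fun χ hχ => ?_
  · exact Finset.mem_filter.2 ⟨Finset.mem_univ _, hJ.mapsTo (Finset.mem_filter.1 hχ).2⟩
  · exact hJ.injOn (Finset.mem_filter.1 hχ).2 (Finset.mem_filter.1 hψ).2 h
  · obtain ⟨χ, hχ, rfl⟩ := hJ.surjOn (Finset.mem_filter.1 hη).2
    exact ⟨χ, Finset.mem_filter.2 ⟨Finset.mem_univ _, hχ⟩, rfl⟩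
  · rw [hJI χ (Finset.mem_filter.1 hχ).2]

theorem kerVec_transfer (hSB : Signs B l dB) (hSc : Signs c l dc) (hJ : Set.BijOn J B c)
    (hJI : ∀ χ ∈ B, I (J χ) = χ) {a : IrrCharacter G → ℤ} (ha : KerVec B a) :
    KerVec c fun η => dc η * dB (I η) * a (I η) := by
  refine (hSc.ker _).2 ?_
  obtain ⟨h1, h2, h3⟩ := (hSB.ker a).1 ha
  have he : ∀ η ∈ c, dc η * (dc η * dB (I η) * a (I η)) = dB (I η) * a (I η) := fun η hη => by
    rcases hSc.pm η hη with e | e <;> rw [e] <;> ring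
  have hIB : ∀ η ∈ c, I η ∈ B := fun η hη => by
    obtain ⟨χ, hχ, rfl⟩ := hJ.surjOn hη
    rwa [hJI χ hχ]
  refine ⟨fun η hη => by dsimp only; rw [he η hη]; exact h1 _ (hIB η hη), fun hl => ?_,
    fun hl η hη η' hη' => by dsimp only; rw [he η hη, he η' hη']; exact h3 hl _ (hIB η hη) _ (hIB η' hη')⟩
  rw [Finset.sum_congr rfl (g := fun η => dB (I η) * a (I η)) fun η hη =>
    he η (Finset.mem_filter.1 hη).2, ← sum_pullback hJ hJI fun χ _ => dB χ * a χ]
  exact h2 hl

/-- The pairing at an argument with nontrivial `2`-part. -/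
theorem pairing_eq_zero [Fact (Nat.Prime 2)] [CharP (AlgInt ⧸ M) 2]
    (hpM : ((2 : ℕ) : AlgInt) ∈ M) (hB : IsPBlock M B) (hPD : IsDefectGroup 2 M B P)
    (hV : IsKleinFour P) (hSB : Signs B l dB) (hSc : Signs c l dc) (hJ : Set.BijOn J B c)
    (hJI : ∀ χ ∈ B, I (J χ) = χ) {x : G} (hx : ¬ IsPRegular 2 x) {y : H} (hy : IsPRegular 2 y) :
    pairing B dB dc J x y = 0 := by
  obtain ⟨z, hz⟩ := Blocks.exists_isPPart (p := 2) x
  have hz1 : z ≠ 1 := by
    rintro rfl
    obtain ⟨x', hx', -, -, hr⟩ := hz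
    rw [one_mul] at hx'
    exact hx (hx' ▸ hr)
  haveI := Fintype.ofFinite (Subgroup.centralizer ({z} : Set G))
  obtain ⟨S, a, φ, -, hker, -, hexp, -⟩ := exists_expansion hpM hB hPD hV hSB.card hz1
    (Blocks.IsPPart.isPElement hz)
  obtain ⟨s, hs, hsr⟩ := exists_regular_factor hz
  calc pairing B dB dc J x y = ∑ χ ∈ Finset.univ.filter (· ∈ B), ∑ b ∈ S,
        φ b s * (((dc (J χ) * dB χ * a b χ : ℤ) : ℂ) * (J χ).1 y) :=
        Finset.sum_congr rfl fun χ hχ => by
          rw [← hs, hexp χ (Finset.mem_filter.1 hχ).2 s hsr, Finset.mul_sum, Finset.sum_mul]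
          exact Finset.sum_congr rfl fun b _ => by push_cast; ring
    _ = 0 := by
        rw [Finset.sum_comm]
        refine Finset.sum_eq_zero fun b hb => ?_
        rw [← Finset.mul_sum, sum_pullback hJ hJI fun χ η => ((dc η * dB χ * a b χ : ℤ) : ℂ) * η.1 y,
          (kerVec_transfer hSB hSc hJ hJI (hker b hb)).2 y hy, mul_zero]

/-- The pairing is divisible by the order of the centralizer of its first argument. -/
theorem pairing_local [Fact (Nat.Prime 2)] [CharP (AlgInt ⧸ M) 2]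
    (hpM : ((2 : ℕ) : AlgInt) ∈ M) (hB : IsPBlock M B) (hPD : IsDefectGroup 2 M B P)
    (hV : IsKleinFour P) (hc : IsPBlock M c) (hQD : IsDefectGroup 2 M c Q) (hW : IsKleinFour Q)
    (hSB : Signs B l dB) (hSc : Signs c l dc) (hJ : Set.BijOn J B c)
    (hJI : ∀ χ ∈ B, I (J χ) = χ)
    (hsep : ∀ (x : G) (y : H), IsPRegular 2 x → ¬ IsPRegular 2 y → pairing B dB dc J x y = 0)
    (x : G) (y : H) :
    MemLocalRing M (pairing B dB dc J x y /
      (Nat.card (Subgroup.centralizer ({x} : Set G)) : ℂ)) := by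
  set T := Finset.univ.filter (· ∈ B) with hTdef
  set e : IrrCharacter G → ℂ := fun χ => ((dB χ * dc (J χ) : ℤ) : ℂ) * (J χ).1 y with he
  have hel : ∀ χ, MemLocalRing M (e χ) := fun χ => memLocalRing_of_isIntegral
    ((map_intCast (algebraMap ℤ ℂ) (dB χ * dc (J χ)) ▸ isIntegral_algebraMap).mul
      (CharInt.isIntegral_char (Char.irr_isCharacter (J χ)) y))
  have hpair : ∀ g, pairing B dB dc J g y = ∑ χ ∈ T, e χ * χ.1 g := fun g =>
    Finset.sum_congr rfl fun χ _ => by rw [he]; ring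
  by_cases hx : IsPRegular 2 x
  · by_cases hy : IsPRegular 2 y
    swap
    · rw [hsep x y hx hy, zero_div]; exact memLocalRing_zero
    have hev : ∀ g, pairing B dB dc J g y = ∑ ν, (if ν ∈ B then e ν else 0) * ν.1 g := fun g => by
      rw [hpair g, hTdef, Finset.sum_filter]
      exact Finset.sum_congr rfl fun ν _ => by split_ifs <;> simp
    rw [hev x]
    refine memLocalRing_div_centralizer hpM _ (fun ν => ?_) (fun g hg => ?_) x
    · split_ifs
      · exact hel ν
      · exact memLocalRing_zero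
    · rw [← hev g]
      exact pairing_eq_zero hpM hB hPD hV hSB hSc hJ hJI hg hy
  obtain ⟨z, hz⟩ := Blocks.exists_isPPart (p := 2) x
  have hz1 : z ≠ 1 := by
    rintro rfl
    obtain ⟨x', hx', -, -, hr⟩ := hz
    rw [one_mul] at hx'
    exact hx (hx' ▸ hr)
  set C := Subgroup.centralizer ({z} : Set G) with hCdef
  haveI := Fintype.ofFinite C
  obtain ⟨S, a, φ, -, hker, -, -, hν⟩ := exists_expansion hpM hB hPD hV hSB.card hz1
    (Blocks.IsPPart.isPElement hz)
  obtain ⟨s, hs, hsr⟩ := exists_regular_factor hz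
  set f : IrrCharacter C → ℂ := fun ν => ∑ χ ∈ T, e χ * regDot 2 (secFun z χ.1) ν.1 with hf
  have hfl : ∀ ν, MemLocalRing M (f ν) := by
    intro ν
    rcases hν ν with h0 | ⟨b, hb, n, hn⟩
    · rw [hf]
      refine MemLocalRing.sum _ fun χ hχ => ?_
      rw [h0 χ (Finset.mem_filter.1 hχ).2, mul_zero]
      exact memLocalRing_zero
    · have h1 : f ν = (n : ℂ) * ((∑ η ∈ Finset.univ.filter (· ∈ c),
          ((dc η * dB (I η) * a b (I η) : ℤ) : ℂ) * η.1 y) / 4) := by
        rw [← sum_pullback hJ hJI fun χ η => ((dc η * dB χ * a b χ : ℤ) : ℂ) * η.1 y,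
          Finset.sum_div, Finset.mul_sum]
        refine Finset.sum_congr rfl fun χ hχ => ?_
        rw [hn χ (Finset.mem_filter.1 hχ).2, he]
        push_cast
        ring
      rw [h1]
      exact MemLocalRing.mul
        (memLocalRing_of_isIntegral (map_natCast (algebraMap ℤ ℂ) n ▸ isIntegral_algebraMap))
        (sum_kerVec_apply hpM hc hQD hW hSc (kerVec_transfer hSB hSc hJ hJI (hker b hb)) y)
  have hfs : ∀ g : C, ∑ ν, f ν * ν.1 g = ∑ χ ∈ T, e χ * Char.regFun 2 (secFun z χ.1) g := fun g => by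
    simp only [hf, Finset.sum_mul]
    rw [Finset.sum_comm]
    refine Finset.sum_congr rfl fun χ _ => ?_
    have h := congrFun (Char.eq_sum_classInner_smul (Char.isClassFunction_regFun 2
      (isClassFunction_secFun (x := z) χ.1 (irr_classFun χ)))) g
    rw [h, Finset.sum_apply, Finset.mul_sum]
    exact Finset.sum_congr rfl fun ν _ => mul_assoc _ _ _
  have hmain := memLocalRing_div_centralizer hpM f hfl (fun g hg => by
    rw [hfs g]
    refine Finset.sum_eq_zero fun χ _ => ?_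
    rw [Char.regFun, if_pos (not_isPRegular_iff.1 hg), mul_zero]) s
  have hval : ∑ ν, f ν * ν.1 s = pairing B dB dc J x y := by
    rw [hfs s, hpair x]
    refine Finset.sum_congr rfl fun χ _ => ?_
    rw [Char.regFun, if_neg (show ¬ 2 ∣ orderOf s from hsr)]
    show e χ * χ.1 (z * s) = _
    rw [hs]
  have hcard : Nat.card (Subgroup.centralizer ({s} : Set C)) =
      Nat.card (Subgroup.centralizer ({x} : Set G)) := by
    have hzx := Blocks.IsPPart.mem_zpowers hz
    refine Nat.card_congr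
      { toFun := fun k => ⟨((k : C) : G), Subgroup.mem_centralizer_singleton_iff.2 (by
          have h1 : Commute ((k : C) : G) z := Subgroup.mem_centralizer_singleton_iff.1 (k : C).2
          have h2 : Commute ((k : C) : G) (s : G) :=
            congrArg Subtype.val (Subgroup.mem_centralizer_singleton_iff.1 k.2)
          rw [← hs]
          exact h1.mul_right h2)⟩
        invFun := fun g => ⟨⟨(g : G), Subgroup.mem_centralizer_singleton_iff.2 (by
            obtain ⟨i, hi⟩ := Subgroup.mem_zpowers_iff.1 hzx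
            rw [← hi]
            exact (show Commute (g : G) x from Subgroup.mem_centralizer_singleton_iff.1 g.2).zpow_right i)⟩,
          Subgroup.mem_centralizer_singleton_iff.2 (Subtype.ext (by
            have h0 : Commute (g : G) x := Subgroup.mem_centralizer_singleton_iff.1 g.2
            obtain ⟨i, hi⟩ := Subgroup.mem_zpowers_iff.1 hzx
            have h1 : Commute (g : G) z := hi ▸ h0.zpow_right i
            show (g : G) * s = s * g
            rw [show (s : G) = z⁻¹ * x by rw [← hs, inv_mul_cancel_left]]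
            exact h1.inv_right.mul_right h0))⟩
        left_inv := fun k => rfl
        right_inv := fun g => rfl }
  rwa [hval, hcard] at hmain

/-- Two blocks with Klein four defect groups and equal rank are perfectly isometric. -/
theorem exists_isometry [Fact (Nat.Prime 2)] [CharP (AlgInt ⧸ M) 2]
    (hpM : ((2 : ℕ) : AlgInt) ∈ M) (hB : IsPBlock M B) (hPD : IsDefectGroup 2 M B P)
    (hV : IsKleinFour P) (hc : IsPBlock M c) (hQD : IsDefectGroup 2 M c Q) (hW : IsKleinFour Q)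
    (hkB : Nat.card B = 4) (hkc : Nat.card c = 4) (hlB : blockRank 2 B = l)
    (hlc : blockRank 2 c = l) (hl13 : l = 1 ∨ l = 3) :
    ∃ (I : IrrCharacter H → IrrCharacter G) (ε : IrrCharacter H → ℤ),
      IsPerfectIsometry 2 M c B I ε := by
  obtain ⟨dB, hSB⟩ := exists_signs hpM hB hPD hV hkB hlB hl13
  obtain ⟨dc, hSc⟩ := exists_signs hpM hc hQD hW hkc hlc hl13
  haveI : Finite c := inferInstance
  obtain ⟨σ⟩ : Nonempty (c ≃ B) :=
    ⟨(Finite.equivFinOfCardEq hkc).trans (Finite.equivFinOfCardEq hkB).symm⟩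
  obtain ⟨χ₀, -⟩ := block_nonempty hB
  obtain ⟨η₀, -⟩ := block_nonempty hc
  set I : IrrCharacter H → IrrCharacter G := fun η => if h : η ∈ c then (σ ⟨η, h⟩).1 else χ₀ with hI
  set J : IrrCharacter G → IrrCharacter H :=
    fun χ => if h : χ ∈ B then (σ.symm ⟨χ, h⟩).1 else η₀ with hJdef
  have hJI : ∀ χ ∈ B, I (J χ) = χ := fun χ hχ => by
    rw [hJdef, hI]; simp [dif_pos hχ, (σ.symm ⟨χ, hχ⟩).2]
  have hIJ : ∀ η ∈ c, J (I η) = η := fun η hη => by
    rw [hJdef, hI]; simp [dif_pos hη, (σ ⟨η, hη⟩).2]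
  have hIm : Set.MapsTo I c B := fun η hη => by
    rw [hI]; simp only [dif_pos hη]; exact (σ ⟨η, hη⟩).2
  have hJm : Set.MapsTo J B c := fun χ hχ => by
    rw [hJdef]; simp only [dif_pos hχ]; exact (σ.symm ⟨χ, hχ⟩).2
  have hJb : Set.BijOn J B c := Set.InvOn.bijOn ⟨hJI, hIJ⟩ hJm hIm
  have hIb : Set.BijOn I c B := Set.InvOn.bijOn ⟨hIJ, hJI⟩ hIm hJm
  have hswap : ∀ x y, pairing B dB dc J x y = pairing c dc dB I y x := fun x y => by
    refine (sum_pullback hJb hJI fun χ η => ((dB χ * dc η : ℤ) : ℂ) * χ.1 x * η.1 y).trans ?_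
    refine Finset.sum_congr rfl fun η _ => ?_
    push_cast
    ring
  refine ⟨I, fun η => dc η * dB (I η), hIb, fun η hη => ?_, fun x y => ?_⟩
  · rcases hSc.pm η hη with h1 | h1 <;> rcases hSB.pm _ (hIm hη) with h2 | h2 <;> simp [h1, h2]
  have hμ : signedBijectionKernel c I (fun η => dc η * dB (I η)) x y = pairing B dB dc J x y := by
    rw [hswap, signedBijectionKernel, finsum_mem_eq_sum_of_inter_support_eq _
      (t := Finset.univ.filter (· ∈ c)) (by ext; simp)]
    exact Finset.sum_congr rfl fun η _ => by push_cast; ring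
  rw [hμ]
  have h1 : ∀ (x : G) (y : H), IsPRegular 2 x → ¬ IsPRegular 2 y → pairing B dB dc J x y = 0 :=
    fun x y hx hy => by
      rw [hswap]
      exact pairing_eq_zero hpM hc hQD hW hSc hSB hIb hIJ hy hx
  have h2 : ∀ (y : H) (x : G), IsPRegular 2 y → ¬ IsPRegular 2 x → pairing c dc dB I y x = 0 :=
    fun y x hy hx => by
      rw [← hswap]
      exact pairing_eq_zero hpM hB hPD hV hSB hSc hJb hJI hx hy
  refine ⟨pairing_local hpM hB hPD hV hc hQD hW hSB hSc hJb hJI h1 x y, ?_, ?_⟩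
  · rw [hswap]
    exact pairing_local hpM hc hQD hW hB hPD hV hSc hSB hIb hIJ h2 y x
  · by_cases hx : IsPRegular 2 x <;> by_cases hy : IsPRegular 2 y
    · exact Or.inl (iff_of_true hx hy)
    · exact Or.inr (h1 x y hx hy)
    · exact Or.inr (pairing_eq_zero hpM hB hPD hV hSB hSc hJb hJI hx hy)
    · exact Or.inl (iff_of_false hx hy)

end Cfsg.Agent.BlocksX.Klein
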