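import Cfsg.Agent.Lib.BlocksX.CentralProduct
import Cfsg.Agent.Lib.Char.CliffordCorrespondence
import Cfsg.Agent.Lib.Char.NormalAction
import Cfsg.Agent.Lib.Blocks.FirstMain

/-!
# Blocks with normal defect group: inertia and heights
-/

set_option linter.style.haveILetI false
set_option linter.unusedSectionVars false

namespace Cfsg.Agent.BlocksX

open Cfsg MonoidAlgebra Cfsg.Agent.Blocks
open scoped ComplexConjugate

universe u

variable {G : Type u} [Group G] [Finite G] {p : ℕ} [hp : Fact p.Prime] {M : Ideal AlgInt}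
  [M.IsMaximal]

/-- A `p`-element centralising a class of defect group `P`, up to `L ⊇ P`, lies in `L`. -/
theorem mem_of_pElement_mul_centralizer {L P : Subgroup G} [L.Normal] [P.Normal] (hPL : P ≤ L)
    {k : G} (hk : SylIn p (Subgroup.centralizer ({k} : Set G)) P) {r l : G}
    (hr : ∃ j, orderOf r = p ^ j) (hl : l ∈ L)
    (h : l * r ∈ Subgroup.centralizer ({k} : Set G)) : r ∈ L := by
  obtain ⟨x, hx⟩ := exists_isPPart (p := p) (l * r)
  have hxk : x ∈ Subgroup.centralizer ({k} : Set G) :=
    Subgroup.zpowers_le.2 h (IsPPart.mem_zpowers hx)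
  obtain ⟨y, hxy, -, ⟨j, hj⟩, hy⟩ := hx
  obtain ⟨c, -, hle⟩ := SylIn.exists_conj_le hk
    (IsPGroup.of_card (n := j) (by rw [Nat.card_zpowers, hj]) : IsPGroup p (Subgroup.zpowers x))
    (Subgroup.zpowers_le.2 hxk)
  have hxP : x ∈ P := by
    have := hle (Subgroup.mem_map_of_mem _ (Subgroup.mem_zpowers x))
    simpa [mul_assoc] using ‹P.Normal›.conj_mem _ this c⁻¹
  have hry : (r : G ⧸ L) = (y : G ⧸ L) := by
    have := congrArg (fun z : G => (z : G ⧸ L)) hxy
    simp only [QuotientGroup.mk_mul, (QuotientGroup.eq_one_iff x).2 (hPL hxP),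
      (QuotientGroup.eq_one_iff l).2 hl, one_mul] at this
    exact this.symm
  obtain ⟨i, hi⟩ := hr
  refine (QuotientGroup.eq_one_iff r).1 (eq_one_of_orderOf_dvd_coprime (a := p ^ i) (b := orderOf y)
    ?_ ?_ (Nat.Coprime.pow_left _ ((Nat.Prime.coprime_iff_not_dvd hp.out).2 hy)))
  · rw [← hi]
    exact orderOf_map_dvd (QuotientGroup.mk' L) r
  · rw [hry]
    exact orderOf_map_dvd (QuotientGroup.mk' L) y

/-- The `p`-elements fixing a character of `L` below a class of defect group `P` lie in `L`. -/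
theorem mem_of_fixes (hpM : (p : AlgInt) ∈ M) {L P : Subgroup G} [hLn : L.Normal] [P.Normal]
    [Fintype L] (hPL : P ≤ L) (θ : IrrCharacter L) {h : G}
    (hh : SylIn p (Subgroup.centralizer ({h} : Set G)) P)
    (hu : ¬ MemLocalIdeal M (inducedCentralChar L θ.1 h)) {r : G} (hr : ∃ j, orderOf r = p ^ j)
    (hfix : Char.conjFun L θ.1 r = θ.1) : r ∈ L := by
  classical
  by_contra hrL
  haveI := Fintype.ofFinite (ConjClasses L)
  refine hu ?_
  have hz : IsCentralElt (ofFun fun k : L => if IsConj h (k : G) then (1 : ℂ) else 0) :=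
    isCentralElt_ofFun fun a b => by simp only [Subgroup.coe_mul, Subgroup.coe_inv, isConj_conj_iff]
  set f : ConjClasses L → ℂ := fun C =>
    (if IsConj h ((C.out : L) : G) then (1 : ℂ) else 0) * centralChar θ.1 C.out with hf
  have hom : inducedCentralChar L θ.1 h = ∑ C, f C := by
    rw [show inducedCentralChar L θ.1 h =
      omega θ.1 (ofFun fun k : L => if IsConj h (k : G) then (1 : ℂ) else 0) by
        rw [omega_ofFun, inducedCentralChar_eq]
        simp only [ite_mul, one_mul, zero_mul, Finset.sum_filter],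
      omega_eq_sum_classes θ hz]
    simp only [coeff_ofFun, hf]
  have hfS : ∀ C, MemLocalRing M (f C) := fun C => by
    refine MemLocalRing.mul ?_ (memLocalRing_centralChar θ _)
    split_ifs
    exacts [memLocalRing_one, memLocalRing_zero]
  letI := Char.classConjAction L
  letI act : MulAction (Subgroup.zpowers r) (ConjClasses L) :=
    MulAction.compHom _ (Subgroup.zpowers r).subtype
  have hRfix : ∀ g : Subgroup.zpowers r, Char.conjFun L θ.1 (g : G) = θ.1 := fun g =>
    Subgroup.zpowers_le.2 (show r ∈ Char.inertia L θ.1 from hfix) g.2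
  have hinv : ∀ (g : Subgroup.zpowers r) (C : ConjClasses L), f (g • C) = f C := by
    intro g C
    obtain ⟨k, rfl⟩ := ConjClasses.mk_surjective C
    have hgC : g • ConjClasses.mk k = ConjClasses.mk (MulAut.conjNormal (g : G) k) :=
      Char.classConjAction_smul_mk L (g : G) k
    have h1 : IsConj (ConjClasses.mk k).out k :=
      ConjClasses.mk_eq_mk_iff_isConj.1 (Quotient.out_eq _)
    have h2 : IsConj (ConjClasses.mk (MulAut.conjNormal (g : G) k)).out
        (MulAut.conjNormal (g : G) k) :=
      ConjClasses.mk_eq_mk_iff_isConj.1 (Quotient.out_eq _)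
    rw [hf, hgC]
    dsimp only
    rw [← centralChar_of_isConj θ h1, ← centralChar_of_isConj θ h2]
    have e1 : centralChar θ.1 (MulAut.conjNormal (g : G) k) = centralChar θ.1 k := by
      rw [← centralChar_conjFun, hRfix g]
    have e2 : ∀ a : L, ∀ b : L, IsConj a b → (IsConj h (a : G) ↔ IsConj h (b : G)) := fun a b hab =>
      ⟨fun hc => hc.trans (L.subtype.map_isConj hab), fun hc => hc.trans (L.subtype.map_isConj hab).symm⟩
    have e3 : IsConj h ((MulAut.conjNormal (g : G) k : L) : G) ↔ IsConj h (k : G) := by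
      rw [MulAut.conjNormal_apply, isConj_conj_iff]
    rw [e1, if_congr ((e2 _ _ h2).trans (e3.trans (e2 _ _ h1).symm)) rfl rfl]
  obtain ⟨j, hj⟩ := hr
  have hRp : IsPGroup p (Subgroup.zpowers r) := IsPGroup.of_card (n := j) (by rw [Nat.card_zpowers, hj])
  refine (red_eq_zero_iff (hom ▸ MemLocalRing.sum _ fun C _ => hfS C)).1 ?_
  rw [hom, red_sum _ fun C _ => hfS C, sum_eq_sum_fixedPoints hRp (nsmul_residue_eq_zero hpM) _
    fun g C => by rw [hinv g C]]
  refine Finset.sum_eq_zero fun C hC => ?_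
  by_cases hconj : IsConj h ((C.out : L) : G)
  swap
  · rw [hf]
    simp only [if_neg hconj, zero_mul, red_zero]
  exfalso
  set k : L := C.out with hk
  have hCk : C = ConjClasses.mk k := (Quotient.out_eq C).symm
  have hfixC : ConjClasses.mk (MulAut.conjNormal r k) = ConjClasses.mk k := by
    have h3 : (⟨r, Subgroup.mem_zpowers r⟩ : Subgroup.zpowers r) • C = C :=
      (Finset.mem_filter.1 hC).2 _
    rw [hCk] at h3
    exact (Char.classConjAction_smul_mk L r k).symm.trans h3
  obtain ⟨l, hl⟩ := isConj_iff.1 (ConjClasses.mk_eq_mk_iff_isConj.1 hfixC)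
  obtain ⟨c, hc⟩ := isConj_iff.1 hconj
  have hksyl : SylIn p (Subgroup.centralizer ({(k : G)} : Set G)) P := by
    have := SylIn.map_conj hh c
    rwa [map_conj_normal (P := P), map_conj_centralizer, hc] at this
  refine hrL (mem_of_pElement_mul_centralizer hPL hksyl ⟨j, hj⟩ l.2 ?_)
  rw [Subgroup.mem_centralizer_singleton_iff]
  have e := congrArg Subtype.val hl
  simp only [Subgroup.coe_mul, Subgroup.coe_inv, MulAut.conjNormal_apply] at e
  calc (l : G) * r * (k : G) = ((l : G) * (r * (k : G) * r⁻¹) * (l : G)⁻¹) * ((l : G) * r) := by group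
    _ = (k : G) * ((l : G) * r) := by rw [e]

variable {B : Set (IrrCharacter G)}

/-- The lower bound for degrees in a block with normal defect group, in the form used for
heights. -/
theorem apply_commutator_of_height_zero (hpM : (p : AlgInt) ∈ M) {P : Subgroup G} [P.Normal]
    (hB : IsPBlock M B) (hD : IsDefectGroup p M B P) {χ : IrrCharacter G} (hχ : χ ∈ B)
    (hdeg : (Char.degree χ).factorization p = P.index.factorization p) {a c : G} (ha : a ∈ P)
    (hc : c ∈ P) : χ.1 (a * c * a⁻¹ * c⁻¹) = χ.1 1 := by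
  classical
  haveI := Fintype.ofFinite G
  have hPp := IsDefectGroup.isPGroup hD
  set C := Subgroup.centralizer (P : Set G) with hCdef
  set L := P ⊔ C with hL
  haveI hLn : L.Normal := Subgroup.sup_normal P C
  haveI := Fintype.ofFinite L
  set P' : Subgroup L := P.subgroupOf L with hP'
  haveI : P'.Normal := Subgroup.Normal.subgroupOf ‹P.Normal› L
  have hPL : P ≤ L := le_sup_left
  have hG' : P' ⊔ Subgroup.centralizer (P' : Set L) = ⊤ := by
    rw [eq_top_iff]
    rintro ⟨x, hx⟩ -
    obtain ⟨u, hu, d, hd, rfl⟩ := Subgroup.mem_sup_of_normal_left.1 hx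
    refine Subgroup.mem_sup_of_normal_left.2 ⟨⟨u, hPL hu⟩, hu, ⟨d, le_sup_right (α := Subgroup G) hd⟩,
      fun q hq => Subtype.ext (hd (q : G) hq), rfl⟩
  obtain ⟨h, hh, hhD⟩ := isDefectGroup_iff.1 hD
  obtain ⟨θ, hθ⟩ := Char.exists_constituent L χ
  have hhC : h ∈ C := le_centralizer_singleton.1 hhD.1
  have hhL : h ∈ L := (le_sup_right : C ≤ L) hhC
  have hu : ¬ MemLocalIdeal M (inducedCentralChar L θ.1 h) := by
    have := centralChar_eq_of_constituent L χ θ hθ ⟨h, hhL⟩
    rw [show ((⟨h, hhL⟩ : L) : G) = h from rfl] at this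
    rw [← this]
    exact hh.2.2 χ hχ
  -- the inertia group has `p'`-index over `L`
  have hIL : ¬ p ∣ L.relIndex (Char.inertia L θ.1) := by
    intro hdvd
    obtain ⟨R, hR⟩ := exists_sylIn (p := p) (Char.inertia L θ.1)
    have hRL : R ≤ L := fun r hrR => mem_of_fixes hpM hPL θ hhD hu (by
      obtain ⟨j, hj⟩ := IsPGroup.iff_orderOf.1 (SylIn.isPGroup hR) ⟨r, hrR⟩
      exact ⟨j, by rw [← hj, ← Subgroup.orderOf_coe]⟩) (hR.1 hrR)
    have hLI : L ≤ Char.inertia L θ.1 := Char.le_inertia L (irr_classFun θ)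
    have h1 := Subgroup.card_dvd_of_le hRL
    rw [hR.2] at h1
    have h2 : L.relIndex (Char.inertia L θ.1) * Nat.card L = Nat.card (Char.inertia L θ.1) := by
      rw [← Subgroup.card_mul_index (L.subgroupOf (Char.inertia L θ.1)),
        Nat.card_congr (Subgroup.subgroupOfEquivOfLe hLI).toEquiv, mul_comm]
      rfl
    have h3 : p ^ ((Nat.card (Char.inertia L θ.1)).factorization p + 1) ∣
        Nat.card (Char.inertia L θ.1) := by
      conv_rhs => rw [← h2, mul_comm]
      rw [pow_succ]
      exact mul_dvd_mul h1 hdvd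
    have := (hp.out.pow_dvd_iff_le_factorization Nat.card_pos.ne').1 h3
    omega
  -- the constituent has large degree
  obtain ⟨φ, ξ, hφξ⟩ := exists_components hG' θ
  obtain ⟨k, hk, hkθ⟩ : ∃ k : L, IsConj h (k : G) ∧ ¬ MemLocalIdeal M (centralChar θ.1 k) := by
    haveI := Fintype.ofFinite (ConjClasses L)
    by_contra! hno
    refine hu ?_
    have hz : IsCentralElt (ofFun fun k : L => if IsConj h (k : G) then (1 : ℂ) else 0) :=
      isCentralElt_ofFun fun a b => by simp only [Subgroup.coe_mul, Subgroup.coe_inv, isConj_conj_iff]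
    rw [show inducedCentralChar L θ.1 h =
      omega θ.1 (ofFun fun k : L => if IsConj h (k : G) then (1 : ℂ) else 0) by
        rw [omega_ofFun, inducedCentralChar_eq]
        simp only [ite_mul, one_mul, zero_mul, Finset.sum_filter],
      omega_eq_sum_classes θ hz]
    refine MemLocalIdeal.sum _ fun C _ => ?_
    rw [coeff_ofFun]
    split_ifs with hC
    · rw [one_mul]; exact hno _ hC
    · rw [zero_mul]; exact memLocalIdeal_zero
  obtain ⟨g, hg⟩ := isConj_iff.1 hk
  have hksyl : SylIn p (Subgroup.centralizer ({(k : G)} : Set G)) P := by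
    have := SylIn.map_conj hhD g
    rwa [map_conj_normal (P := P), map_conj_centralizer, hg] at this
  have hkC : k ∈ Subgroup.centralizer (P' : Set L) := fun q hq =>
    Subtype.ext (le_centralizer_singleton.1 hksyl.1 (q : G) hq)
  have hξdeg : (P'.subgroupOf (Subgroup.centralizer (P' : Set L))).index.factorization p ≤
      (Char.degree ξ).factorization p := by
    have h1 : ¬ MemLocalIdeal M (centralChar ξ.1 ⟨k, hkC⟩) := by
      rw [← centralChar_of_components hG' hφξ ⟨k, hkC⟩]
      exact hkθ
    have h2 := factorization_index_le_degree hpM ξ h1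
    obtain ⟨T, hT⟩ := exists_sylIn (p := p) (Subgroup.centralizer ({(⟨k, hkC⟩ : (Subgroup.centralizer (P' : Set L)))} : Set (Subgroup.centralizer (P' : Set L))))
    have hTD : T ≤ (P'.subgroupOf (Subgroup.centralizer (P' : Set L))) := by
      intro t ht
      obtain ⟨j, hj⟩ := IsPGroup.iff_orderOf.1 (SylIn.isPGroup hT) ⟨t, ht⟩
      have hto : orderOf ((t : L) : G) = p ^ j := by
        simp [← hj]
      have htk : ((t : L) : G) ∈ Subgroup.centralizer ({(k : G)} : Set G) := by
        have := Subgroup.mem_centralizer_singleton_iff.1 (hT.1 ht)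
        exact Subgroup.mem_centralizer_singleton_iff.2
          (congrArg (fun z : (Subgroup.centralizer (P' : Set L)) => ((z : L) : G)) this)
      obtain ⟨d, -, hle⟩ := SylIn.exists_conj_le hksyl
        (IsPGroup.of_card (n := j) (by rw [Nat.card_zpowers, hto]) :
          IsPGroup p (Subgroup.zpowers ((t : L) : G))) (Subgroup.zpowers_le.2 htk)
      have := hle (Subgroup.mem_map_of_mem _ (Subgroup.mem_zpowers _))
      show ((t : L) : G) ∈ P
      simpa [mul_assoc] using ‹P.Normal›.conj_mem _ this d⁻¹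
    have h3 := Subgroup.card_dvd_of_le hTD
    rw [hT.2] at h3
    have h4 := (hp.out.pow_dvd_iff_le_factorization Nat.card_pos.ne').1 h3
    have h5 := factorization_index (p := p) (Subgroup.centralizer ({(⟨k, hkC⟩ : (Subgroup.centralizer (P' : Set L)))} : Set (Subgroup.centralizer (P' : Set L))))
    have h6 := factorization_index (p := p) (P'.subgroupOf (Subgroup.centralizer (P' : Set L)))
    omega
  rw [index_subgroupOf_centralizer hG'] at hξdeg
  have hθdeg : Char.degree θ = Char.degree φ * Char.degree ξ := by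
    have h1 := hφξ 1 1
    simp only [Subgroup.coe_one, mul_one] at h1
    rw [Char.apply_one_eq_degree, Char.apply_one_eq_degree, Char.apply_one_eq_degree] at h1
    exact_mod_cast h1
  have hPidx : P'.index * L.index = P.index := Subgroup.relIndex_mul_index hPL
  have hIidx : L.relIndex (Char.inertia L θ.1) * (Char.inertia L θ.1).index = L.index :=
    Subgroup.relIndex_mul_index (Char.le_inertia L (irr_classFun θ))
  obtain ⟨e, he⟩ := Char.IsCharacter.exists_nat_classInner
    (Char.IsCharacter.restrict (Char.irr_isCharacter χ) L) (Char.irr_isCharacter θ)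
  have hχdeg : Char.degree χ = e * ((Char.inertia L θ.1).index * Char.degree θ) := by
    have h1 := Char.apply_one_eq_mul_card_orbit L χ θ hθ
    rw [show Char.resFun L χ.1 = fun x : L => χ.1 x from rfl, he, ← Char.index_inertia,
      Char.apply_one_eq_degree, Char.apply_one_eq_degree] at h1
    exact_mod_cast h1
  have hne : e ≠ 0 ∧ (Char.inertia L θ.1).index ≠ 0 :=
    ⟨fun h0 => (Char.degree_pos χ).ne' (by rw [hχdeg, h0, zero_mul]),
      Subgroup.index_ne_zero_of_finite⟩
  have hr0 : L.relIndex (Char.inertia L θ.1) ≠ 0 := fun h0 => hIL (h0 ▸ dvd_zero p)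
  have hLv : L.index.factorization p = (Char.inertia L θ.1).index.factorization p := by
    rw [← hIidx, Nat.factorization_mul hr0 hne.2, Finsupp.add_apply,
      Nat.factorization_eq_zero_of_not_dvd hIL, zero_add]
  have hPv : P.index.factorization p = P'.index.factorization p + L.index.factorization p := by
    rw [← hPidx, Nat.factorization_mul Subgroup.index_ne_zero_of_finite
      Subgroup.index_ne_zero_of_finite, Finsupp.add_apply]
  rw [hχdeg, hθdeg, Nat.factorization_mul hne.1 (mul_ne_zero hne.2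
      (mul_ne_zero (Char.degree_pos φ).ne' (Char.degree_pos ξ).ne')),
    Nat.factorization_mul hne.2 (mul_ne_zero (Char.degree_pos φ).ne' (Char.degree_pos ξ).ne'),
    Nat.factorization_mul (Char.degree_pos φ).ne' (Char.degree_pos ξ).ne'] at hdeg
  simp only [Finsupp.add_apply] at hdeg
  have hφ0 : (Char.degree φ).factorization p = 0 := by omega
  have hφ1 : φ.1 1 = 1 := by
    have hPp' : IsPGroup p P' := hPp.comap_subtype
    obtain ⟨n, hn⟩ := IsPGroup.iff_card.1 hPp'
    have hd := Char.charDegree_dvd_card φ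
    rw [Char.charDegree_eq_degree, hn] at hd
    obtain ⟨i, -, hi⟩ := (Nat.dvd_prime_pow hp.out).1 hd
    rw [hi, hp.out.factorization_pow, Finsupp.single_eq_same] at hφ0
    rw [Char.apply_one_eq_degree, hi, hφ0, pow_zero, Nat.cast_one]
  obtain ⟨lam, hlam⟩ := Char.IsCharacter.exists_monoidHom (Char.irr_isCharacter φ) hφ1
  -- commutators act trivially
  have hcomm : ∀ u v : P', θ.1 ((u * v * u⁻¹ * v⁻¹ : P') : L) = θ.1 1 := by
    intro u v
    have h1 := hφξ (u * v * u⁻¹ * v⁻¹) 1
    have h2 := hφξ 1 1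
    simp only [Subgroup.coe_one, mul_one] at h1 h2
    rw [h1, h2]
    congr 1
    have hl : ∀ w : P', φ.1 w = lam w := fun w => (congrFun hlam w).symm
    have e1 : lam u * lam u⁻¹ = 1 := by rw [← map_mul, mul_inv_cancel, map_one]
    have e2 : lam v * lam v⁻¹ = 1 := by rw [← map_mul, mul_inv_cancel, map_one]
    rw [hl, hl, map_mul, map_mul, map_mul, map_one]
    linear_combination (lam v * lam v⁻¹) * e1 + e2
  set w : L := ⟨a * c * a⁻¹ * c⁻¹,
    hPL (mul_mem (mul_mem (mul_mem ha hc) (inv_mem ha)) (inv_mem hc))⟩ with hw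
  have horb : ∀ η ∈ Char.orbitFinset L θ, η.1 w = η.1 1 := by
    intro η hη
    obtain ⟨d, rfl⟩ := (Char.mem_orbitFinset L).1 hη
    rw [Char.conjChar_coe, Char.conjFun_apply_one]
    have h1 := hcomm ⟨⟨d * a * d⁻¹, hPL (‹P.Normal›.conj_mem a ha d)⟩, ‹P.Normal›.conj_mem a ha d⟩
      ⟨⟨d * c * d⁻¹, hPL (‹P.Normal›.conj_mem c hc d)⟩, ‹P.Normal›.conj_mem c hc d⟩
    rw [← h1]
    show θ.1 (MulAut.conjNormal d w) = _
    refine congrArg θ.1 (Subtype.ext ?_)
    simp only [MulAut.conjNormal_apply, Subgroup.coe_mul, Subgroup.coe_inv, hw]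
    group
  have hres := Char.resFun_eq_smul_orbitSum L χ θ hθ
  have e1 := congrFun hres w
  have e2 := congrFun hres 1
  simp only [Pi.smul_apply, Char.orbitSum, Finset.sum_apply, Char.resFun_apply,
    Subgroup.coe_one] at e1 e2
  rw [Finset.sum_congr rfl horb, ← e2] at e1
  exact e1

theorem comm_of_height_zero (hpM : (p : AlgInt) ∈ M) {P : Subgroup G} [P.Normal]
    (hB : IsPBlock M B) (hD : IsDefectGroup p M B P)
    (hall : ∀ χ ∈ B, blockHeight p B χ.1 = 0) {a c : G} (ha : a ∈ P) (hc : c ∈ P) :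
    a * c = c * a := by
  classical
  obtain ⟨h, hh, hhD⟩ := isDefectGroup_iff.1 hD
  have hidx : (Subgroup.centralizer ({h} : Set G)).index.factorization p =
      P.index.factorization p := by
    have h1 := factorization_index (p := p) (Subgroup.centralizer ({h} : Set G))
    have h2 := factorization_index (p := p) P
    rw [hhD.2, hp.out.factorization_pow, Finsupp.single_eq_same] at h2
    omega
  have hwP : a * c * a⁻¹ * c⁻¹ ∈ P := mul_mem (mul_mem (mul_mem ha hc) (inv_mem ha)) (inv_mem hc)
  by_contra hne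
  have hw1 : a * c * a⁻¹ * c⁻¹ ≠ 1 := fun h1 => hne (by
    rw [mul_inv_eq_one, mul_inv_eq_iff_eq_mul] at h1
    exact h1)
  have hreg := IsDefectClass.isPRegular hpM hB hh
  have hnr : ¬ IsPRegular p (h * (a * c * a⁻¹ * c⁻¹)) := fun hr => hw1 (by
    obtain ⟨k, hk⟩ := IsPGroup.iff_orderOf.1 (IsDefectGroup.isPGroup hD) ⟨_, hwP⟩
    exact (isPRegular_mul_iff ((le_centralizer_singleton.1 hhD.1) _ hwP).symm hreg
      ⟨k, by rw [← hk, ← Subgroup.orderOf_coe]⟩).1 hr)
  have h0 := blockCoeff_eq_zero hpM hB hnr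
  refine hh.2.1 ?_
  rw [blockCoeff_eq_sum] at h0 ⊢
  rw [show ∑ χ ∈ Finset.univ.filter (· ∈ B), χ.1 1 * conj (χ.1 h) =
      ∑ χ ∈ Finset.univ.filter (· ∈ B), χ.1 1 * conj (χ.1 (h * (a * c * a⁻¹ * c⁻¹))) from
    Finset.sum_congr rfl fun χ hχ => by
      rw [CharInt.char_mul_comm (Char.irr_isCharacter χ) h,
        CharInt.char_mul_of_mem_kernel (Char.irr_isCharacter χ)
          (apply_commutator_of_height_zero hpM hB hD (Finset.mem_filter.1 hχ).2
            (((blockHeight_eq_zero_iff hpM hB hh (Finset.mem_filter.1 hχ).2).1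
              (hall χ (Finset.mem_filter.1 hχ).2)).trans hidx) ha hc)],
    h0]
  exact memLocalIdeal_zero

end Cfsg.Agent.BlocksX
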