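import Cfsg.Agent.Lib.BlockLow.PrincipalExt
import Cfsg.Agent.Lib.BlockLow.DefectClasses
import Cfsg.Agent.Lib.Clifford.GlueExists
import Cfsg.Agent.Lib.Clifford.CoprimeExtension
import Cfsg.Agent.Lib.Clifford.GallagherExtension
import Cfsg.Agent.Lib.CharInt.Galois
import Cfsg.Agent.Lib.TwoGroupValues.Field
import Cfsg.Agent.Lib.Solvable.Schmidt
import Cfsg.Agent.Lib.BlocksX.Basic

/-!
# `p`-rational extensions into the principal block (Alperin–Dade)

`θ` is a member of the principal block of `N ⊴ G` of degree prime to `p`, `Q` a Sylow subgroup of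
`N` and all `p`-regular elements of `G` lie in `N C(Q)`. The extensions whose determinant has order
prime to `p` and which lie in the principal block on every `N⟨g⟩`, `g` being `p`-regular, are
unique, so they glue.
-/

set_option autoImplicit false
set_option linter.style.haveILetI false
set_option linter.unusedSectionVars false

namespace Cfsg.Agent.BlocksX.RatExt

open Cfsg Cfsg.Agent.Char Cfsg.Agent.Blocks
open scoped ComplexConjugate Classical

universe u

theorem detChar_map {H : Type u} [Group H] [Finite H] (χ ψ : IrrCharacter H) (f : ℂ →+* ℂ)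
    (h : ∀ g, ψ.1 g = f (χ.1 g)) (x : H) :
    Clifford.detChar ψ x = f (Clifford.detChar χ x) := by
  obtain ⟨n, ρ, hρ, hχ⟩ := χ.2
  let e := LinearMap.toMatrixAlgEquiv (Pi.basisFun ℂ (Fin n))
  let A : H →* Matrix (Fin n) (Fin n) ℂ :=
    (f.mapMatrix.toMonoidHom).comp (e.toAlgHom.toMonoidHom.comp ρ)
  let τ : Representation ℂ H (Fin n → ℂ) := e.symm.toAlgHom.toMonoidHom.comp A
  have hA : ∀ g, A g = (e (ρ g)).map f := fun g => rfl
  have hτA : ∀ g, e (τ g) = A g := fun g => e.apply_symm_apply _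
  have htrace : ∀ φ : Module.End ℂ (Fin n → ℂ),
      LinearMap.trace ℂ _ φ = (e φ).trace := fun φ =>
    LinearMap.trace_eq_matrix_trace ℂ (Pi.basisFun ℂ (Fin n)) φ
  have hdet : ∀ φ : Module.End ℂ (Fin n → ℂ), LinearMap.det φ = (e φ).det := fun φ =>
    (LinearMap.det_toMatrix (Pi.basisFun ℂ (Fin n)) φ).symm
  have hτ : τ.character = ψ.1 := funext fun g => by
    show LinearMap.trace ℂ _ (τ g) = _
    rw [htrace, hτA, hA, h, ← hχ]
    show _ = f (LinearMap.trace ℂ _ (ρ g))
    rw [htrace, AddMonoidHom.map_trace]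
  rw [Clifford.detChar_eq ψ τ hτ, Clifford.detChar_eq χ ρ hχ, hdet, hdet, hτA, hA]
  exact (RingHom.map_det f _).symm

variable {G : Type u} [Group G] [Fintype G] {p : ℕ} [hp : Fact p.Prime] {M : Ideal AlgInt}

/-- The part of the group order prime to `p`. -/
noncomputable def pp (p : ℕ) (G : Type u) : ℕ := Nat.card G / p ^ (Nat.card G).factorization p

theorem not_dvd_pp : ¬ p ∣ pp p G := Nat.not_dvd_ordCompl hp.out Nat.card_pos.ne'

theorem pp_ne_zero : pp p G ≠ 0 := fun h => not_dvd_pp (p := p) (G := G) (h ▸ dvd_zero p)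

theorem pow_pp_eq_one {z : ℂ} (h1 : z ^ Nat.card G = 1) {k : ℕ} (hk : ¬ p ∣ k) (h2 : z ^ k = 1) :
    z ^ pp p G = 1 := by
  have hg : z ^ Nat.gcd (Nat.card G) k = 1 := pow_gcd_eq_one.2 ⟨h1, h2⟩
  have hd : Nat.gcd (Nat.card G) k ∣ pp p G := by
    have hco : (Nat.gcd (Nat.card G) k).Coprime (p ^ (Nat.card G).factorization p) :=
      Nat.Coprime.pow_right _ ((hp.out.coprime_iff_not_dvd.2 fun h =>
        hk (h.trans (Nat.gcd_dvd_right _ _))).symm)
    refine hco.dvd_of_dvd_mul_left ?_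
    rw [pp, Nat.ordProj_mul_ordCompl_eq_self]
    exact Nat.gcd_dvd_left _ _
  obtain ⟨c, hc⟩ := hd
  rw [hc, pow_mul, hg, one_pow]

/-- The canonical property. -/
def CanProp (M : Ideal AlgInt) (p : ℕ) (N H : Subgroup G) (f : H → ℂ) : Prop :=
  (∀ hf : IsIrrCharacter H f, ∀ x, Clifford.detChar ⟨f, hf⟩ x ^ pp p G = 1) ∧
  ∀ g : G, IsPRegular p g → ∀ h : N ⊔ Subgroup.zpowers g ≤ H,
    SameBlock M (fun _ : ↥(N ⊔ Subgroup.zpowers g) => (1 : ℂ))
      (fun x => f (Subgroup.inclusion h x))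

variable {N : Subgroup G} [hN : N.Normal] [Fintype N] {θ : IrrCharacter N}

/-- All `p`-regular elements lie in `N C(Q)`. -/
structure Hyp (M : Ideal AlgInt) (p : ℕ) (N : Subgroup G) [N.Normal] (θ : IrrCharacter N)
    (Q : Sylow p N) : Prop where
  modular : IsPModular p M
  principal : θ ∈ principalBlock M N
  degree : ¬ p ∣ Char.degree θ
  det : ∀ n, Clifford.detChar θ n ^ pp p G = 1
  invariant : ∀ g, Char.conjFun N θ.1 g = θ.1
  regular : ∀ g : G, IsPRegular p g →
    g ∈ N ⊔ Subgroup.centralizer (((Q : Subgroup N).map N.subtype : Subgroup G) : Set G)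

variable {Q : Sylow p N}

theorem not_dvd_relIndex_zpowers {g : G} (hg : IsPRegular p g) :
    ¬ p ∣ N.relIndex (N ⊔ Subgroup.zpowers g) := by
  intro h
  refine hg (h.trans ?_)
  rw [sup_comm, Subgroup.relIndex_sup_right, ← Nat.card_zpowers]
  exact Subgroup.relIndex_dvd_card N (Subgroup.zpowers g)

theorem zpowers_le_regular (hyp : Hyp M p N θ Q) {g : G} (hg : IsPRegular p g) :
    N ⊔ Subgroup.zpowers g ≤
      N ⊔ Subgroup.centralizer (((Q : Subgroup N).map N.subtype : Subgroup G) : Set G) :=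
  sup_le le_sup_left (Subgroup.zpowers_le.2 (hyp.regular g hg))

/-- The Sylow subgroup of `N` is one of every intermediate group of index prime to `p`. -/
theorem exists_sylow_sup {H : Subgroup G} (hNH : N ≤ H)
    (hH : H ≤ N ⊔ Subgroup.centralizer (((Q : Subgroup N).map N.subtype : Subgroup G) : Set G))
    (hidx : ¬ p ∣ N.relIndex H) :
    ∃ P : Sylow p H, N.subgroupOf H ⊔ TICent.cen P = ⊤ := by
  set Q' := (Q : Subgroup N).map (Subgroup.inclusion hNH) with hQ'
  have hQp : IsPGroup p Q' := Q.isPGroup'.map _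
  have hQidx : ¬ p ∣ Q'.index := by
    rw [hQ', Subgroup.index_map_of_injective _ (Subgroup.inclusion_injective hNH)]
    intro h
    rcases hp.out.dvd_mul.1 h with h | h
    · exact Q.not_dvd_index h
    · refine hidx ?_
      have e : (Subgroup.inclusion hNH).range = N.subgroupOf H := by
        ext x
        exact ⟨fun ⟨y, hy⟩ => hy ▸ y.2, fun hx => ⟨⟨x, hx⟩, Subtype.ext rfl⟩⟩
      rwa [e] at h
  refine ⟨hQp.toSylow hQidx, eq_top_iff.2 fun x _ => ?_⟩
  obtain ⟨m, hm, c, hc, hmc⟩ := Subgroup.mem_sup_of_normal_left.1 (hH x.2)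
  have hcH : c ∈ H := by
    have := H.mul_mem (H.inv_mem (hNH hm)) x.2
    rwa [← hmc, inv_mul_cancel_left] at this
  rw [show x = ⟨m, hNH hm⟩ * ⟨c, hcH⟩ from Subtype.ext hmc.symm]
  refine Subgroup.mul_mem_sup (Subgroup.mem_subgroupOf.2 hm) ?_
  rw [TICent.cen, Subgroup.mem_centralizer_iff]
  rintro _ ⟨a, ha, rfl⟩
  exact Subtype.ext (Subgroup.mem_centralizer_iff.1 hc (a : G) ⟨a, ha, rfl⟩)

theorem toSubgroupOf_principal (hyp : Hyp M p N θ Q) {H : Subgroup G} (hNH : N ≤ H) :
    toSubgroupOf N hNH θ ∈ principalBlock M (N.subgroupOf H) :=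
  BlockLow.mem_principal_comp hyp.modular (Subgroup.subgroupOfEquivOfLe hNH) hyp.principal
    fun _ => rfl

theorem uniq (hyp : Hyp M p N θ Q) {H : Subgroup G} (hNH : N ≤ H) {f f' : H → ℂ}
    (hf : Clifford.CExt θ (CanProp M p N) H f) (hf' : Clifford.CExt θ (CanProp M p N) H f') :
    f = f' := by
  haveI := hyp.modular.2.1
  haveI : (N.subgroupOf H).Normal := Subgroup.normal_subgroupOf
  let θ' := toSubgroupOf N hNH θ
  let φ : IrrCharacter H := ⟨f, hf.1⟩
  let φ' : IrrCharacter H := ⟨f', hf'.1⟩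
  have hext : ∀ x : N.subgroupOf H, φ.1 x = θ'.1 x := fun x => hf.2.1 _ x.2
  have hext' : ∀ x : N.subgroupOf H, φ'.1 x = θ'.1 x := fun x => hf'.2.1 _ x.2
  obtain ⟨β, hβ⟩ := Clifford.exists_linear_twist θ' φ φ' hext hext'
  set b : H →* ℂ := β.comp (QuotientGroup.mk' (N.subgroupOf H)) with hb
  have hval : ∀ x, f' x = b x * f x := hβ
  have hd : ∀ x, b x ^ (Char.degree φ * pp p G) = 1 := fun x => by
    have h1 := hf'.2.2.1 hf'.1 x
    rw [Clifford.detChar_mul_linear φ b φ' hval, mul_pow, hf.2.2.1 hf.1 x, mul_one, ← pow_mul] at h1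
    exact h1
  have hdeg : ¬ p ∣ Char.degree φ * pp p G := by
    rw [Clifford.degree_eq_of_extension θ' φ hext]
    have : Char.degree θ' = Char.degree θ := by
      have h := Char.apply_one_eq_degree θ'
      rw [show θ'.1 1 = θ.1 1 from congrArg θ.1 (map_one _), Char.apply_one_eq_degree] at h
      exact_mod_cast h.symm
    rw [this]
    exact fun h => (hp.out.dvd_mul.1 h).elim hyp.degree not_dvd_pp
  have hreg : ∀ y : H, IsPRegular p (y : G) → b y = 1 := by
    intro y hy
    set E := N ⊔ Subgroup.zpowers (y : G) with hE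
    have hEH : E ≤ H := sup_le hNH (Subgroup.zpowers_le.2 y.2)
    haveI : (N.subgroupOf E).Normal := Subgroup.normal_subgroupOf
    obtain ⟨P, hP⟩ := exists_sylow_sup (Q := Q) (le_sup_left : N ≤ E) (zpowers_le_regular hyp hy)
      (not_dvd_relIndex_zpowers hy)
    let θE := toSubgroupOf N (le_sup_left : N ≤ E) θ
    have hirr : ∀ {g : H → ℂ}, IsIrrCharacter H g →
        (∀ (x : H) (hx : (x : G) ∈ N), g x = θ.1 ⟨x, hx⟩) →
        IsIrrCharacter E (fun x => g (Subgroup.inclusion hEH x)) := fun {g} hg hg' => by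
      refine Clifford.isIrrCharacter_of_restrict (Subgroup.inclusion (le_sup_left : N ≤ E))
        (IsCharacter.comp (IsIrrCharacter.isCharacter hg) (Subgroup.inclusion hEH)) ?_
      convert θ.2 using 1
      exact funext fun n => hg' _ n.2
    let ψ : IrrCharacter E := ⟨_, hirr hf.1 hf.2.1⟩
    let ψ' : IrrCharacter E := ⟨_, hirr hf'.1 hf'.2.1⟩
    have hψN : ∀ x : N.subgroupOf E, ψ.1 x = θE.1 x := fun x =>
      hf.2.1 (Subgroup.inclusion hEH (x : E)) x.2
    have hψ'N : resFun (N.subgroupOf E) ψ'.1 = θE.1 := funext fun x =>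
      hf'.2.1 (Subgroup.inclusion hEH (x : E)) x.2
    have heq : ψ' = ψ := BlockLow.eq_of_extension (N := N.subgroupOf E) hyp.modular
      (not_dvd_relIndex_zpowers hy) P hP (θ := θE) (hf.2.2.2 y hy hEH) (hf'.2.2.2 y hy hEH) hψN
      (by rw [hψ'N, classInner_irr_self θE.2]; exact one_ne_zero)
    have h1 : b.comp (Subgroup.inclusion hEH) = 1 := by
      refine Char.mul_linear_injective (N.subgroupOf E) ψ
        (by rw [show resFun (N.subgroupOf E) ψ.1 = θE.1 from funext hψN]; exact θE.2)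
        (fun n hn => ?_) (fun _ _ => rfl) fun x => ?_
      · show β (QuotientGroup.mk' _ (Subgroup.inclusion hEH n)) = 1
        rw [QuotientGroup.mk'_apply, (QuotientGroup.eq_one_iff _).2 (show
          Subgroup.inclusion hEH n ∈ N.subgroupOf H from hn), map_one]
      · rw [MonoidHom.comp_apply, MonoidHom.one_apply, mul_one, mul_comm]
        exact (hval _).symm.trans (congrFun (congrArg Subtype.val heq) x)
    exact congrArg (fun m : E →* ℂ => m ⟨(y : G), Subgroup.mem_sup_right (Subgroup.mem_zpowers _)⟩)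
      h1
  refine funext fun x => ?_
  rw [hval]
  obtain ⟨u, hu⟩ := exists_isPPart (p := p) x
  obtain ⟨v, huv, -, ⟨k, hk⟩, hv⟩ := hu
  have hu1 : b u = 1 := by
    have h1 : b u ^ p ^ k = 1 := by rw [← map_pow, ← hk, pow_orderOf_eq_one, map_one]
    have h2 : b u ^ Nat.gcd (Char.degree φ * pp p G) (p ^ k) = 1 := pow_gcd_eq_one.2 ⟨hd u, h1⟩
    rwa [Nat.Coprime.pow_right k (hp.out.coprime_iff_not_dvd.2 hdeg).symm, pow_one] at h2
  have hv1 : b v = 1 := hreg v (by rwa [IsPRegular, Subgroup.orderOf_coe])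
  rw [← huv, map_mul, hu1, hv1, one_mul, one_mul]

theorem restrict_prop (hyp : Hyp M p N θ Q) (H' H : Subgroup G) (h : H' ≤ H) (hN' : N ≤ H')
    (f : H → ℂ) (hf : Clifford.CExt θ (CanProp M p N) H f) :
    CanProp M p N H' (fun x => f (Subgroup.inclusion h x)) := by
  refine ⟨fun hf' x => ?_, fun g hg hle => hf.2.2.2 g hg (hle.trans h)⟩
  rw [Clifford.detChar_comp ⟨f, hf.1⟩ (Subgroup.inclusion h) ⟨_, hf'⟩ (fun _ => rfl)]
  exact hf.2.2.1 hf.1 _

theorem conj_prop (hyp : Hyp M p N θ Q) (a : G) (H' H : Subgroup G)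
    (h : ∀ x : G, x ∈ H' ↔ a * x * a⁻¹ ∈ H) (hN' : N ≤ H')
    (f : H → ℂ) (hf : Clifford.CExt θ (CanProp M p N) H f) :
    CanProp M p N H' (fun x => f ⟨a * x * a⁻¹, (h x).1 x.2⟩) := by
  let i : H' →* H :=
    { toFun := fun x => ⟨a * x * a⁻¹, (h x).1 x.2⟩
      map_one' := Subtype.ext (by simp)
      map_mul' := fun x y => Subtype.ext (by simp [mul_assoc]) }
  refine ⟨fun hf' x => ?_, fun g hg hle => ?_⟩
  · rw [Clifford.detChar_comp ⟨f, hf.1⟩ i ⟨_, hf'⟩ (fun _ => rfl)]
    exact hf.2.2.1 hf.1 _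
  have hmap : (N ⊔ Subgroup.zpowers g).map (MulAut.conj a).toMonoidHom =
      N ⊔ Subgroup.zpowers (a * g * a⁻¹) := by
    rw [Subgroup.map_sup, MonoidHom.map_zpowers]
    congr 1
    exact Subgroup.mem_normalizer_iff_map_conj_eq.1
      (Subgroup.normalizer_eq_top N ▸ Subgroup.mem_top a)
  have hle' : N ⊔ Subgroup.zpowers (a * g * a⁻¹) ≤ H := by
    rw [← hmap]
    rintro _ ⟨y, hy, rfl⟩
    exact (h y).1 (hle hy)
  have hreg : IsPRegular p (a * g * a⁻¹) := by
    rwa [IsPRegular, show orderOf (a * g * a⁻¹) = orderOf g from (MulAut.conj a).orderOf_eq g]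
  let e : ↥(N ⊔ Subgroup.zpowers g) ≃* ↥(N ⊔ Subgroup.zpowers (a * g * a⁻¹)) :=
    (Subgroup.equivMapOfInjective _ (MulAut.conj a).toMonoidHom (MulAut.conj a).injective).trans
      (MulEquiv.subgroupCongr hmap)
  let ψ : IrrCharacter ↥(N ⊔ Subgroup.zpowers (a * g * a⁻¹)) :=
    ⟨fun x => f (Subgroup.inclusion hle' x), by
      refine Clifford.isIrrCharacter_of_restrict (Subgroup.inclusion le_sup_left)
        (IsCharacter.comp (IsIrrCharacter.isCharacter hf.1) (Subgroup.inclusion hle')) ?_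
      convert θ.2 using 1
      exact funext fun n => hf.2.1 _ n.2⟩
  exact BlockLow.mem_principal_comp hyp.modular e (χ := ψ) (hf.2.2.2 _ hreg hle')
    (ψ := ⟨fun x => ψ.1 (e x), IsIrrCharacter.comp_surjective ψ.2 e.toMonoidHom e.surjective⟩)
    fun _ => rfl

theorem relIndex_congr' [M.IsMaximal] (hpM : (p : AlgInt) ∈ M) {H' H : Subgroup G}
    (hidx : ¬ p ∣ N.relIndex H) (hN : N ≤ H') (hle : H' ≤ H) (h : G) (u : ℂ) :
    MemLocalIdeal M ((((Subgroup.centralizer ({h} : Set G)).relIndex H : ℕ) : ℂ) * u) ↔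
      MemLocalIdeal M ((((Subgroup.centralizer ({h} : Set G)).relIndex H' : ℕ) : ℂ) * u) := by
  set C := Subgroup.centralizer ({h} : Set G) with hC
  have hsub : N.relIndex (C ⊓ H) ∣ N.relIndex H := by
    rw [← Subgroup.relIndex_subgroupOf (inf_le_right : C ⊓ H ≤ H) (H := N)]
    exact Subgroup.relIndex_dvd_index_of_normal _ _
  have hb : ¬ p ∣ H'.relIndex H := fun hd =>
    hidx (hd.trans (Subgroup.relIndex_dvd_of_le_left H hN))
  have ha : ¬ p ∣ H'.relIndex (C ⊓ H) := fun hd =>
    hidx ((hd.trans (Subgroup.relIndex_dvd_of_le_left (C ⊓ H) hN)).trans hsub)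
  have h1 := Subgroup.relIndex_mul_relIndex (C ⊓ H') H' H inf_le_right hle
  have h2 := Subgroup.relIndex_mul_relIndex (C ⊓ H') (C ⊓ H) H (inf_le_inf_left C hle) inf_le_right
  rw [Subgroup.inf_relIndex_right] at h1
  rw [Subgroup.inf_relIndex_right,
    show (C ⊓ H').relIndex (C ⊓ H) = H'.relIndex (C ⊓ H) from by
      rw [← Subgroup.inf_relIndex_right H' (C ⊓ H)]
      congr 1
      rw [← inf_assoc, inf_comm H' C, inf_assoc, inf_eq_left.2 hle], ← h1] at h2
  rw [← BlockLow.memLocalIdeal_natCast_mul_iff hpM ha, ← mul_assoc, ← Nat.cast_mul, h2,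
    Nat.cast_mul, mul_comm (((C.relIndex H' : ℕ) : ℂ)), mul_assoc,
    BlockLow.memLocalIdeal_natCast_mul_iff hpM hb]

theorem exists_cExt (hyp : Hyp M p N θ Q) (E : Subgroup G) (hE : Group.IsNilpotent E) :
    ∃ f, Clifford.CExt θ (CanProp M p N) (N ⊔ E) f := by
  haveI := hyp.modular.2.1
  haveI := hE
  obtain ⟨S, K, hKn, hKS⟩ := Solvable.hasNormalPComplement_of_isNilpotent (G := E) p
  set B := K.map E.subtype with hB
  set R := N ⊔ B with hR
  set H := N ⊔ E with hH
  have hRH : R ≤ H := sup_le_sup_left (Subgroup.map_subtype_le K) N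
  have hKp : ¬ p ∣ Nat.card K := by
    rw [← hKS.index_eq_card]; exact S.not_dvd_index
  have hRp : ¬ p ∣ N.relIndex R := by
    intro h
    refine hKp (h.trans ?_)
    rw [hR, sup_comm, Subgroup.relIndex_sup_right, hB,
      Nat.card_congr (Subgroup.equivMapOfInjective K E.subtype E.subtype_injective).toEquiv]
    exact Subgroup.relIndex_dvd_card N _
  have hBreg : ∀ x ∈ B, IsPRegular p x := by
    rintro x ⟨k, hk, rfl⟩ h
    refine hKp (h.trans ?_)
    rw [show orderOf (E.subtype k) = orderOf (⟨k, hk⟩ : K) from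
      (orderOf_injective (E.subtype.comp K.subtype)
        (E.subtype_injective.comp K.subtype_injective) ⟨k, hk⟩)]
    exact orderOf_dvd_natCard _
  haveI : (N.subgroupOf R).Normal := Subgroup.normal_subgroupOf
  obtain ⟨P, hP⟩ := exists_sylow_sup (Q := Q) (le_sup_left : N ≤ R)
    (sup_le le_sup_left fun x hx => hyp.regular x (hBreg x hx)) hRp
  obtain ⟨F, hFB, hFext⟩ := BlockLow.exists_extension (N := N.subgroupOf R) hyp.modular hRp P hP
    (toSubgroupOf_principal hyp le_sup_left)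
  have hFext' : ∀ (x : R) (hx : (x : G) ∈ N), F.1 x = θ.1 ⟨x, hx⟩ := fun x hx =>
    hFext ⟨x, hx⟩
  have hFirr : ∀ {D : Subgroup G} (hD : D ≤ R), N ≤ D →
      IsIrrCharacter D (fun x => F.1 (Subgroup.inclusion hD x)) := fun {D} hD hND => by
    refine Clifford.isIrrCharacter_of_restrict (Subgroup.inclusion hND)
      (IsCharacter.comp (IsIrrCharacter.isCharacter F.2) (Subgroup.inclusion hD)) ?_
    convert θ.2 using 1
    exact funext fun n => hFext' _ n.2
  have hFdet : ∀ x, Clifford.detChar F x ^ pp p G = 1 := by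
    intro x
    refine pow_pp_eq_one (k := (N.subgroupOf R).index * pp p G) ?_
      (fun h => (hp.out.dvd_mul.1 h).elim hRp not_dvd_pp) ?_
    · rw [← map_pow]
      rw [show x ^ Nat.card G = 1 from by
        obtain ⟨c, hc⟩ := R.card_subgroup_dvd_card
        rw [hc, pow_mul, pow_card_eq_one', one_pow], map_one]
    · rw [pow_mul, ← map_pow]
      have hmem : x ^ (N.subgroupOf R).index ∈ N.subgroupOf R :=
        Subgroup.pow_index_mem _ x
      rw [show Clifford.detChar F (x ^ (N.subgroupOf R).index) =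
        Clifford.detChar θ ⟨_, hmem⟩ from ?_]
      · exact hyp.det _
      · exact (Clifford.detChar_comp F (Subgroup.inclusion (le_sup_left : N ≤ R)) θ
          (fun y => (hFext' (Subgroup.inclusion (le_sup_left : N ≤ R) y) y.2).symm)
          ⟨_, hmem⟩).symm
  have hFreg : ∀ g : G, IsPRegular p g → ∀ h : N ⊔ Subgroup.zpowers g ≤ R,
      SameBlock M (fun _ : ↥(N ⊔ Subgroup.zpowers g) => (1 : ℂ))
        (fun x => F.1 (Subgroup.inclusion h x)) := by
    intro g hg h
    refine sameBlock_of_regular (p := p) hyp.modular.2.2 (χ := trivialChar _)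
      (ψ := ⟨_, hFirr h le_sup_left⟩) fun x _ => ?_
    have h1 := hFB (Subgroup.inclusion h x)
    show MemLocalIdeal M (centralChar (fun _ : ↥(N ⊔ Subgroup.zpowers g) => (1 : ℂ)) x - _)
    rw [BlockLow.centralChar_one_sub] at h1 ⊢
    exact (relIndex_congr' hyp.modular.2.2 hRp le_sup_left h _ _).1 h1
  haveI hRn : (R.subgroupOf H).Normal := by
    refine Subgroup.normal_subgroupOf_of_le_normalizer (sup_le
      (le_sup_left.trans Subgroup.le_normalizer) fun e he => ?_)
    rw [Subgroup.mem_normalizer_iff_map_conj_eq, hR, Subgroup.map_sup]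
    congr 1
    · exact Subgroup.mem_normalizer_iff_map_conj_eq.1
        (Subgroup.normalizer_eq_top N ▸ Subgroup.mem_top e)
    · rw [hB, Subgroup.map_map]
      have hK' : K.map (MulAut.conj (⟨e, he⟩ : E)).toMonoidHom = K :=
        Subgroup.mem_normalizer_iff_map_conj_eq.1 (by
          rw [Subgroup.normalizer_eq_top]; exact Subgroup.mem_top _)
      conv_rhs => rw [← hK', Subgroup.map_map]
      rfl
  obtain ⟨s, hs⟩ : ∃ s, (R.subgroupOf H).index = p ^ s := by
    obtain ⟨s, hs⟩ := IsPGroup.iff_card.1 S.isPGroup'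
    let φ : E →* H ⧸ R.subgroupOf H :=
      (QuotientGroup.mk' _).comp (Subgroup.inclusion (le_sup_right : E ≤ H))
    have hφ : Function.Surjective φ := by
      intro q
      obtain ⟨⟨x, hx⟩, rfl⟩ := QuotientGroup.mk_surjective q
      obtain ⟨m, hm, e, he, rfl⟩ := Subgroup.mem_sup_of_normal_left.1 hx
      refine ⟨⟨e, he⟩, QuotientGroup.eq.2 ?_⟩
      show e⁻¹ * (m * e) ∈ R
      exact Subgroup.mem_sup_left (by simpa [mul_assoc] using hN.conj_mem m hm e⁻¹)
    have hker : K ≤ φ.ker := fun k hk => (QuotientGroup.eq_one_iff _).2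
      (Subgroup.mem_sup_right ⟨k, hk, rfl⟩)
    have hdvd : (R.subgroupOf H).index ∣ p ^ s := by
      rw [← hs, ← hKS.symm.index_eq_card, Subgroup.index_eq_card (R.subgroupOf H), ← Subgroup.card_top,
        ← MonoidHom.range_eq_top.2 hφ, ← Subgroup.index_ker]
      exact Subgroup.index_dvd_of_le hker
    obtain ⟨i, -, hi⟩ := (Nat.dvd_prime_pow hp.out).1 hdvd
    exact ⟨i, hi⟩
  let eR := Subgroup.subgroupOfEquivOfLe hRH
  let F' : IrrCharacter (R.subgroupOf H) :=
    ⟨fun x => F.1 (eR x), IsIrrCharacter.comp_surjective F.2 eR.toMonoidHom eR.surjective⟩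
  have hFinv : ∀ a : H, Char.conjFun (R.subgroupOf H) F'.1 a = F'.1 := by
    intro a
    have hiff : ∀ x : G, x ∈ R ↔ (a : G) * x * (a : G)⁻¹ ∈ R := fun x => by
      refine ⟨fun hx => ?_, fun hx => ?_⟩
      · exact hRn.conj_mem ⟨x, hRH hx⟩ hx a
      · have := hRn.conj_mem ⟨_, hRH hx⟩ hx a⁻¹
        simpa [Subgroup.mem_subgroupOf, mul_assoc] using this
    have hF : Clifford.CExt θ (CanProp M p N) R F.1 :=
      ⟨F.2, hFext', fun _ => hFdet, hFreg⟩
    let i : R →* R :=
      { toFun := fun x => ⟨(a : G) * x * (a : G)⁻¹, (hiff x).1 x.2⟩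
        map_one' := Subtype.ext (by simp)
        map_mul' := fun x y => Subtype.ext (by simp [mul_assoc]) }
    have hF' : Clifford.CExt θ (CanProp M p N) R (fun x => F.1 (i x)) := by
      refine ⟨IsIrrCharacter.comp_surjective F.2 i fun y => ?_, fun x hx => ?_,
        conj_prop hyp (a : G) R R hiff le_sup_left _ hF⟩
      · exact ⟨⟨(a : G)⁻¹ * y * a, (hiff _).2 (by simp [mul_assoc])⟩,
          Subtype.ext (by simp [i, mul_assoc])⟩
      · show F.1 (i x) = _
        rw [hFext' (i x) (hN.conj_mem _ hx _)]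
        exact (Char.conjFun_eq_self_iff N θ.1 (a : G)).1 (hyp.invariant _) ⟨x, hx⟩ _ rfl
    refine (Char.conjFun_eq_self_iff _ F'.1 a).2 fun x x' hx' => ?_
    show F.1 (eR x') = F.1 (eR x)
    rw [show eR x' = i (eR x) from Subtype.ext (congrArg Subtype.val hx' :)]
    exact (congrFun (uniq hyp le_sup_left hF hF') (eR x)).symm
  have hdegF : Char.degree F' = Char.degree θ := by
    have h := Char.apply_one_eq_degree F'
    rw [show F'.1 1 = F.1 1 from congrArg F.1 (map_one eR), show (F.1 1 : ℂ) = θ.1 1 from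
      (hFext' 1 N.one_mem).trans rfl, Char.apply_one_eq_degree] at h
    exact_mod_cast h.symm
  obtain ⟨χ, ⟨hχ, hχdet⟩, -⟩ := Clifford.existsUnique_extension_of_coprime F' hFinv
    (pp_ne_zero (p := p) (G := G))
    (fun x => by
      rw [Clifford.detChar_comp F eR.toMonoidHom F' (fun _ => rfl)]; exact hFdet _)
    (by
      rw [hs, hdegF]
      exact Nat.Coprime.pow_left _ (hp.out.coprime_iff_not_dvd.2
        fun h => (hp.out.dvd_mul.1 h).elim hyp.degree not_dvd_pp))
  refine ⟨χ.1, χ.2, fun x hx => ?_, fun _ => hχdet, fun g hg h => ?_⟩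
  · have h1 := hχ ⟨x, Subgroup.mem_sup_left hx⟩
    rw [h1]
    exact hFext' _ hx
  · have hgR : N ⊔ Subgroup.zpowers g ≤ R := by
      refine sup_le le_sup_left (Subgroup.zpowers_le.2 ?_)
      exact mem_of_isPRegular_of_index (N := R.subgroupOf H) ⟨s, hs⟩
        (g := ⟨g, h (Subgroup.mem_sup_right (Subgroup.mem_zpowers g))⟩)
        (by rwa [IsPRegular, ← Subgroup.orderOf_coe])
    convert hFreg g hg hgR using 1
    exact funext fun x => hχ ⟨Subgroup.inclusion h x, hgR x.2⟩

/-- The glued character is `p`-rational and lies in the principal block. -/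
theorem exists_extension (hyp : Hyp M p N θ Q) :
    ∃ χ : IrrCharacter G, χ ∈ principalBlock M G ∧ (∀ n : N, χ.1 n = θ.1 n) ∧
      ∀ (f : ℂ →+* ℂ), (∀ n : N, f (θ.1 n) = θ.1 n) → ∀ g : G, f (χ.1 g) = χ.1 g := by
  haveI := hyp.modular.2.1
  have hpM := hyp.modular.2.2
  obtain ⟨χ, hext, hloc⟩ := Clifford.exists_glued_of_exists (θ := θ) (C := CanProp M p N)
    (fun H hNH f f' hf hf' => uniq hyp hNH hf hf') (restrict_prop hyp) (conj_prop hyp)
    (exists_cExt hyp)
  have hres : ∀ g : G, IsIrrCharacter ↥(N ⊔ Subgroup.zpowers g) (fun x => χ.1 x) := fun g => by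
    refine Clifford.isIrrCharacter_of_restrict (Subgroup.inclusion le_sup_left)
      (IsCharacter.restrict (irr_isCharacter χ) _) ?_
    convert θ.2 using 1
    exact funext fun n => hext n
  refine ⟨χ, ?_, hext, fun f hf g => ?_⟩
  · -- full defect, so only the classes of full defect matter
    set d := (Nat.card G).factorization p with hd
    have hdef : ∀ ψ : IrrCharacter G, ¬ p ∣ Char.degree ψ →
        blockDefect p (blockOf M ψ.1) = d := fun ψ hψ => by
      have : sInf ((fun φ : IrrCharacter G => (charDegree φ.1).factorization p) ''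
          blockOf M ψ.1) = 0 := Nat.sInf_eq_zero.2 (Or.inl ⟨ψ, mem_blockOf_self ψ, by
        show (charDegree ψ.1).factorization p = 0
        rw [charDegree_eq]
        exact Nat.factorization_eq_zero_of_not_dvd hψ⟩)
      rw [blockDefect, this, Nat.sub_zero]
    have h1 : ¬ p ∣ Char.degree (Char.trivialChar G) := by
      have : Char.degree (Char.trivialChar G) = 1 := by
        have h := Char.apply_one_eq_degree (Char.trivialChar G)
        exact_mod_cast h.symm.trans (show (Char.trivialChar G).1 1 = 1 from rfl)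
      rw [this]
      exact hp.out.not_dvd_one
    have hχd : ¬ p ∣ Char.degree χ := by
      have : Char.degree χ = Char.degree θ := Clifford.degree_eq_of_extension θ χ hext
      rw [this]
      exact hyp.degree
    haveI := Fintype.ofFinite (ConjClasses G)
    have hB : IsPBlock M (principalBlock M G) := ⟨Char.trivialChar G, rfl⟩
    have hB0 : principalBlock M G = blockOf M (Char.trivialChar G).1 := by
      unfold principalBlock Char.trivialChar
      rfl
    have hB' : blockDefect p (principalBlock M G) = d := by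
      rw [hB0]
      exact hdef (Char.trivialChar G) h1
    have hA := BlockLow.omega_blockIdem_congr hpM hB (ψ := Char.trivialChar G) (d := d) hB'
      (hdef _ h1)
    have hC := BlockLow.omega_blockIdem_congr hpM hB (ψ := χ) (d := d) hB' (hdef _ hχd)
    have hmem : Char.trivialChar G ∈ principalBlock M G := by
      rw [hB0]
      exact mem_blockOf_self (Char.trivialChar G)
    rw [if_pos hmem] at hA
    have hcong : ∀ C : ConjClasses G, BlockLow.DefectClassSet p d C →
        MemLocalIdeal M (centralChar (Char.trivialChar G).1 C.out - centralChar χ.1 C.out) := by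
      rintro C ⟨c, hcC, hreg, hcd⟩
      set g := C.out with hg
      have hconj : IsConj c g := ConjClasses.mk_eq_mk_iff_isConj.1 (hcC.trans C.out_eq.symm)
      rw [centralChar_of_isConj _ hconj, centralChar_of_isConj _ hconj]
      obtain ⟨D, hD⟩ := exists_sylIn (p := p) (Subgroup.centralizer ({c} : Set G))
      set P : Sylow p G := Sylow.ofCard D (by rw [hD.2, hcd])
      set E := N ⊔ Subgroup.zpowers c
      set C' := Subgroup.centralizer ({c} : Set G)
      have hidx : ¬ p ∣ C'.relIndex E := by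
        intro hdvd
        have h2 : C'.relIndex E ∣ ((P : Subgroup G) ⊓ N).relIndex E :=
          Subgroup.relIndex_dvd_of_le_left E (inf_le_left.trans hD.1)
        have h3 : ((P : Subgroup G) ⊓ N).relIndex E =
            ((P : Subgroup G) ⊓ N).relIndex N * N.relIndex E :=
          (Subgroup.relIndex_mul_relIndex _ _ _ inf_le_right le_sup_left).symm
        rcases hp.out.dvd_mul.1 (h3 ▸ hdvd.trans h2) with h | h
        · refine P.not_dvd_index (h.trans ?_)
          have e1 := Subgroup.relIndex_mul_index (inf_le_right : (P : Subgroup G) ⊓ N ≤ N)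
          rw [← Subgroup.relIndex_mul_index (inf_le_left : (P : Subgroup G) ⊓ N ≤ P),
            Subgroup.inf_relIndex_left] at e1
          obtain ⟨c₀, hc₀⟩ := Subgroup.relIndex_dvd_index_of_normal N (P : Subgroup G)
          refine Dvd.intro c₀ (Nat.eq_of_mul_eq_mul_left
            (Nat.pos_of_ne_zero (fun h0 => N.index_ne_zero_of_finite (by rw [hc₀, h0, zero_mul])) :
              0 < N.relIndex (P : Subgroup G)) ?_)
          rw [← e1, hc₀]
          ring
        · exact not_dvd_relIndex_zpowers hreg h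
      have hcE : c ∈ E := Subgroup.mem_sup_right (Subgroup.mem_zpowers c)
      have h4 := (hloc c).2 c hreg le_rfl ⟨c, hcE⟩
      rw [BlockLow.centralChar_one_sub] at h4
      have h5 := MemLocalIdeal.mul_left (memLocalRing_natCast C'.index)
        ((BlockLow.memLocalIdeal_natCast_mul_iff hpM hidx).1 h4)
      convert h5 using 1
      simp only [centralChar, Char.trivialChar, OneMemClass.coe_one, C']
      show _ = _ * (1 - χ.1 c / χ.1 1)
      ring
    show χ ∈ principalBlock M G
    by_contra hno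
    rw [if_neg hno] at hC
    refine not_memLocalIdeal_one (M := M) ?_
    have h6 := MemLocalIdeal.sum (M := M)
      (Finset.univ.filter (BlockLow.DefectClassSet (G := G) p d)) fun C hC' =>
        MemLocalIdeal.mul_left (memLocalRing_blockCoeff hB C.out)
          (hcong C (Finset.mem_filter.1 hC').2)
    simp only [mul_sub, Finset.sum_sub_distrib, ← coeff_blockIdem] at h6
    convert MemLocalIdeal.add (MemLocalIdeal.sub hA hC) h6 using 1
    ring
  · set E := N ⊔ Subgroup.zpowers g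
    have hF : Clifford.CExt θ (CanProp M p N) E (fun x => χ.1 x) :=
      ⟨hres g, fun x hx => hext ⟨x, hx⟩, hloc g⟩
    have hF' : Clifford.CExt θ (CanProp M p N) E (fun x => f (χ.1 x)) := by
      refine ⟨CharInt.isIrrCharacter_map (hres g) f,
        fun x hx => (congrArg f (hext ⟨x, hx⟩)).trans (hf _), fun hi x => ?_, fun y hy hle => ?_⟩
      · rw [detChar_map ⟨_, hres g⟩ ⟨_, hi⟩ f (fun _ => rfl), ← map_pow, (hloc g).1 (hres g) x,
          map_one]
      · have hirr : IsIrrCharacter ↥(N ⊔ Subgroup.zpowers y)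
            (fun x => χ.1 (Subgroup.inclusion hle x : G)) := hres y
        let ψ : IrrCharacter ↥(N ⊔ Subgroup.zpowers y) := ⟨_, hirr⟩
        let ψ' : IrrCharacter ↥(N ⊔ Subgroup.zpowers y) :=
          ⟨fun x => f (ψ.1 x), CharInt.isIrrCharacter_map ψ.2 f⟩
        have hψ : ψ ∈ principalBlock M ↥(N ⊔ Subgroup.zpowers y) := (hloc g).2 y hy hle
        show ψ' ∈ principalBlock M ↥(N ⊔ Subgroup.zpowers y)
        rw [BlockCount.mem_principalBlock_iff hyp.modular] at hψ ⊢
        intro h0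
        refine hψ (f.injective ?_)
        rw [map_zero, ← h0]
        simp only [BlockCount.pregSum, map_sum]
        rfl
    exact (congrFun (uniq hyp le_sup_left hF hF') ⟨g, Subgroup.mem_sup_right
      (Subgroup.mem_zpowers g)⟩).symm

end Cfsg.Agent.BlocksX.RatExt

namespace Cfsg.Agent.BlocksX.RatExt

open Cfsg Cfsg.Agent.Char Cfsg.Agent.Blocks
open scoped ComplexConjugate Classical

universe u

theorem mem_adjoin_of_pow_eq_one {n : ℕ} [NeZero n] {ζ z : ℂ} (hζ : IsPrimitiveRoot ζ n)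
    (hz : z ^ n = 1) : z ∈ IntermediateField.adjoin ℚ ({ζ} : Set ℂ) := by
  obtain ⟨i, -, rfl⟩ := hζ.eq_pow_of_pow_eq_one hz
  exact pow_mem (IntermediateField.mem_adjoin_simple_self ℚ ζ) i

variable {G : Type u} [Group G] [Fintype G] {p : ℕ} [hp : Fact p.Prime] {N : Subgroup G}
  [N.Normal] [Fintype N]

/-- For odd `p` the determinant of a `p`-rational character has order prime to `p`. -/
theorem detChar_pow_pp (hodd : p ≠ 2) {θ : IrrCharacter N} {m : ℕ} (hm : ¬ p ∣ m)
    (hval : ∀ n : N, θ.1 n ∈ IntermediateField.adjoin ℚ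
      ({Complex.exp (2 * Real.pi * Complex.I / m)} : Set ℂ)) (n : N) :
    Clifford.detChar θ n ^ pp p G = 1 := by
  have hm0 : m ≠ 0 := fun h => hm (h ▸ dvd_zero p)
  set N₀ := Nat.card G * m with hN₀
  have hN0 : N₀ ≠ 0 := mul_ne_zero Nat.card_pos.ne' hm0
  set v := N₀.factorization p with hv
  set P' := N₀ / p ^ v with hP'
  have hP'p : ¬ p ∣ P' := Nat.not_dvd_ordCompl hp.out hN0
  have hsplit : p ^ v * P' = N₀ := Nat.ordProj_mul_ordCompl_eq_self N₀ p
  have hco : (p ^ v).Coprime P' := Nat.Coprime.pow_left _ (hp.out.coprime_iff_not_dvd.2 hP'p)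
  obtain ⟨k, hk2, hk1⟩ := Nat.chineseRemainder hco 2 1
  have hk : k.Coprime N₀ := by
    rw [← hsplit]
    refine Nat.Coprime.mul_right ?_ ?_
    · show Nat.gcd k (p ^ v) = 1
      rw [Nat.ModEq.gcd_eq hk2]
      exact Nat.Coprime.pow_right _ ((Nat.coprime_primes Nat.prime_two hp.out).2 (Ne.symm hodd))
    · show Nat.gcd k P' = 1
      rw [Nat.ModEq.gcd_eq hk1, Nat.gcd_one_left]
  obtain ⟨f, hf⟩ := CharInt.exists_ringHom_pow hN0 hk
  have hdvd : m ∣ P' := by
    refine Nat.Coprime.dvd_of_dvd_mul_left (k := m) (m := p ^ v) ?_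
      (by rw [hsplit]; exact Dvd.intro_left _ rfl)
    exact Nat.Coprime.pow_right _ (hp.out.coprime_iff_not_dvd.2 hm).symm
  have hfix1 : ∀ z : ℂ, z ^ P' = 1 → f z = z := fun z hz => by
    rw [hf z (by rw [← hsplit, mul_comm, pow_mul, hz, one_pow]), pow_eq_pow_mod k hz,
      hk1, ← pow_eq_pow_mod 1 hz, pow_one]
  have hθ : ∀ x : N, f (θ.1 x) = θ.1 x := fun x =>
    TwoGroupValues.fix_adjoin f (fun z hz => by
      rw [Set.mem_singleton_iff] at hz
      subst hz
      refine hfix1 _ ?_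
      obtain ⟨c, hc⟩ := hdvd
      rw [hc, pow_mul, (Complex.isPrimitiveRoot_exp m hm0).pow_eq_one, one_pow]) _ (hval x)
  set ε := Clifford.detChar θ n
  have hcard : ε ^ Nat.card G = 1 := by
    obtain ⟨c, hc⟩ := N.card_subgroup_dvd_card
    rw [hc, pow_mul, Clifford.detChar_pow_card, one_pow]
  have h1 : f ε = ε := (detChar_map θ θ f (fun x => (hθ x).symm) n).symm
  have h2 : (ε ^ P') ^ p ^ v = 1 := by
    rw [← pow_mul, mul_comm, hsplit, hN₀, pow_mul, hcard, one_pow]
  have h3 : ε ^ k = ε := by rw [← hf ε (by rw [hN₀, pow_mul, hcard, one_pow]), h1]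
  have h4 : ε ^ P' = 1 := by
    have h5 : (ε ^ P') ^ k = ε ^ P' := by rw [← pow_mul, mul_comm, pow_mul, h3]
    rw [pow_eq_pow_mod k h2, hk2, ← pow_eq_pow_mod 2 h2, pow_two] at h5
    exact mul_eq_left₀ (pow_ne_zero _ (fun h0 => by
      rw [h0, zero_pow Nat.card_pos.ne'] at hcard; exact zero_ne_one hcard)) |>.1 h5
  exact pow_pp_eq_one hcard hP'p h4

/-- The theorem of Alperin and Dade. -/
theorem main (hodd : p ≠ 2) {M : Ideal AlgInt} (hM : IsPModular p M) (θ : IrrCharacter N)
    (hinv : ∀ g : G, Char.conjFun N θ.1 g = θ.1) (hdeg : ¬ p ∣ Char.degree θ) {m : ℕ}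
    (hm : ¬ p ∣ m) (hval : ∀ n : N, θ.1 n ∈ IntermediateField.adjoin ℚ
      ({Complex.exp (2 * Real.pi * Complex.I / m)} : Set ℂ))
    (hB : θ ∈ principalBlock M N) (Q : Sylow p N)
    (hidx : ∃ a : ℕ, (N ⊔ Subgroup.centralizer
      (((Q : Subgroup N).map N.subtype : Subgroup G) : Set G)).index = p ^ a) :
    ∃ χ : IrrCharacter G, χ ∈ principalBlock M G ∧ (∃ n : ℕ, ¬ p ∣ n ∧ ∀ g : G, χ.1 g ∈
      IntermediateField.adjoin ℚ ({Complex.exp (2 * Real.pi * Complex.I / n)} : Set ℂ)) ∧
      ∀ n : N, χ.1 n = θ.1 n := by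
  set Q₀ := (Q : Subgroup N).map N.subtype with hQ₀
  set K := N ⊔ Subgroup.centralizer (Q₀ : Set G) with hK
  haveI : K.Normal := by
    refine ⟨fun x hx a => ?_⟩
    have ha : a ∈ N ⊔ Subgroup.normalizer (Q₀ : Set G) := by
      rw [sup_comm, hQ₀, Sylow.normalizer_sup_eq_top Q]
      exact Subgroup.mem_top a
    obtain ⟨n, hn, h, hh, rfl⟩ := Subgroup.mem_sup_of_normal_left.1 ha
    obtain ⟨l, hl, c, hc, rfl⟩ := Subgroup.mem_sup_of_normal_left.1 hx
    have h1 : h * (l * c) * h⁻¹ ∈ K := by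
      rw [show h * (l * c) * h⁻¹ = (h * l * h⁻¹) * (h * c * h⁻¹) by group]
      refine Subgroup.mul_mem_sup (‹N.Normal›.conj_mem l hl h) ?_
      rw [Subgroup.mem_centralizer_iff]
      intro q hq
      have hq' : h⁻¹ * q * h ∈ Q₀ := ((Subgroup.mem_normalizer_iff.1 hh) (h⁻¹ * q * h)).2
        (by simpa [mul_assoc] using hq)
      calc q * (h * c * h⁻¹) = h * ((h⁻¹ * q * h) * c) * h⁻¹ := by group
        _ = h * (c * (h⁻¹ * q * h)) * h⁻¹ := by rw [Subgroup.mem_centralizer_iff.1 hc _ hq']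
        _ = _ := by group
    rw [show n * h * (l * c) * (n * h)⁻¹ = n * (h * (l * c) * h⁻¹) * n⁻¹ by group]
    exact K.mul_mem (K.mul_mem (Subgroup.mem_sup_left hn) h1)
      (K.inv_mem (Subgroup.mem_sup_left hn))
  have hyp : Hyp M p N θ Q := ⟨hM, hB, hdeg, detChar_pow_pp hodd hm hval, hinv,
    fun g hg => BlocksX.mem_of_isPRegular_of_index hidx hg⟩
  obtain ⟨χ, hχB, hext, hfix⟩ := exists_extension hyp
  have hm0 : m ≠ 0 := fun h => hm (h ▸ dvd_zero p)
  set N₀ := Nat.card G * m with hN₀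
  have hN0 : N₀ ≠ 0 := mul_ne_zero Nat.card_pos.ne' hm0
  haveI : NeZero N₀ := ⟨hN0⟩
  set v := N₀.factorization p with hv
  set P' := N₀ / p ^ v with hP'
  have hP'p : ¬ p ∣ P' := Nat.not_dvd_ordCompl hp.out hN0
  have hsplit : p ^ v * P' = N₀ := Nat.ordProj_mul_ordCompl_eq_self N₀ p
  have hP'0 : P' ≠ 0 := fun h => hP'p (h ▸ dvd_zero p)
  haveI : NeZero P' := ⟨hP'0⟩
  have hdvd : m ∣ P' := by
    refine Nat.Coprime.dvd_of_dvd_mul_left (k := m) (m := p ^ v) ?_
      (by rw [hsplit]; exact Dvd.intro_left _ rfl)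
    exact Nat.Coprime.pow_right _ (hp.out.coprime_iff_not_dvd.2 hm).symm
  have hζ := Complex.isPrimitiveRoot_exp N₀ hN0
  have hη := Complex.isPrimitiveRoot_exp P' hP'0
  refine ⟨χ, hχB, ⟨P', hP'p, fun g => ?_⟩, hext⟩
  refine TwoGroupValues.adjoin_le_of_fixed hζ {χ.1 g}
    {Complex.exp (2 * Real.pi * Complex.I / P')} ?_ ?_ (fun f k _ hfη s hs => ?_)
    (IntermediateField.mem_adjoin_simple_self ℚ _)
  · rintro _ rfl
    obtain ⟨d, μ, -, hμ, hμval⟩ := CharInt.exists_roots (Char.irr_isCharacter χ) g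
    have h1 := hμval 1
    simp only [pow_one] at h1
    rw [h1]
    refine sum_mem fun i _ => mem_adjoin_of_pow_eq_one hζ ?_
    obtain ⟨c, hc⟩ := (orderOf_dvd_natCard g).trans (Dvd.intro m rfl : Nat.card G ∣ N₀)
    rw [hc, pow_mul, hμ i, one_pow]
  · rintro _ rfl
    exact mem_adjoin_of_pow_eq_one hζ (by rw [← hsplit, pow_mul', hη.pow_eq_one, one_pow])
  · rw [Set.mem_singleton_iff] at hs
    subst hs
    refine hfix f (fun x => TwoGroupValues.fix_adjoin f (fun z hz => ?_) _ (hval x)) g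
    rw [Set.mem_singleton_iff] at hz
    subst hz
    obtain ⟨c, hc⟩ := hdvd
    obtain ⟨i, -, hi⟩ := hη.eq_pow_of_pow_eq_one (ξ := Complex.exp (2 * Real.pi * Complex.I / m))
      (by rw [hc, pow_mul, (Complex.isPrimitiveRoot_exp m hm0).pow_eq_one, one_pow])
    rw [← hi, map_pow, hfη _ rfl]

end Cfsg.Agent.BlocksX.RatExt
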