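import Cfsg.Agent.Lib.BlocksX.MaxCovering
import Cfsg.Agent.Lib.Char.CliffordCorrespondence
import Cfsg.Agent.Lib.BrauerPairs.Lift

/-!
# A stable character of height zero in an invariant block
-/

set_option linter.style.haveILetI false
set_option linter.unusedSectionVars false

namespace Cfsg.Agent.BlocksX

open Cfsg Cfsg.Agent.Blocks

universe u

variable {G : Type u} [Group G] [Finite G] {M : Ideal AlgInt} [M.IsMaximal]
  {p : ℕ} [hp : Fact p.Prime]

/-- The defect and the least exponent of a degree add up to the exponent of the group order. -/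
theorem sInf_degree_add_defect {B : Set (IrrCharacter G)} (hB : IsPBlock M B) :
    sInf ((fun χ : IrrCharacter G => (charDegree χ.1).factorization p) '' B) + blockDefect p B =
      (Nat.card G).factorization p := by
  obtain ⟨χ, hχ⟩ := block_nonempty hB
  have h1 : sInf ((fun χ : IrrCharacter G => (charDegree χ.1).factorization p) '' B) ≤
      (charDegree χ.1).factorization p := Nat.sInf_le ⟨χ, hχ, rfl⟩
  have h2 : (charDegree χ.1).factorization p ≤ (Nat.card G).factorization p := by
    refine (Nat.factorization_le_iff_dvd ?_ Nat.card_pos.ne').2 (Char.charDegree_dvd_card χ) p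
    rw [charDegree_eq]
    exact (Char.degree_pos χ).ne'
  rw [blockDefect]
  omega

/-- An invariant block of a normal subgroup has a height zero character whose inertia index is
prime to `p`. -/
theorem exists_height_zero_stable [Fintype G] (hpM : (p : AlgInt) ∈ M) (N : Subgroup G) [N.Normal]
    [Fintype N] {b : Set (IrrCharacter N)} (hb : IsPBlock M b)
    (hinv : ∀ (g : G), ∀ θ ∈ b, Char.conjChar N θ g ∈ b) :
    ∃ θ ∈ b, blockHeight p b θ.1 = 0 ∧ ¬ p ∣ (Char.inertia N θ.1).index := by
  classical
  obtain ⟨θ₀, hθ₀⟩ := block_nonempty hb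
  obtain ⟨χ₀, hc₀⟩ := exists_over N θ₀
  set S : Finset (Set (IrrCharacter G)) := (Finset.univ.filter fun χ : IrrCharacter G =>
    ∃ χ' ∈ blockOf M χ.1, ∃ θ ∈ b, classInner (Char.resFun N χ'.1) θ.1 ≠ 0).image
      fun χ => blockOf M χ.1 with hS
  have hne : S.Nonempty := ⟨_, Finset.mem_image_of_mem _ (Finset.mem_filter.2
    ⟨Finset.mem_univ χ₀, χ₀, mem_blockOf_self χ₀, θ₀, hθ₀, hc₀⟩)⟩
  obtain ⟨B, hBS, hmax⟩ := S.exists_max_image (fun B => blockDefect p B) hne
  obtain ⟨χ₁, hχ₁, rfl⟩ := Finset.mem_image.1 hBS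
  have hB := isPBlock_blockOf (M := M) χ₁
  have hcov : ∃ χ ∈ blockOf M χ₁.1, ∃ θ ∈ b, classInner (Char.resFun N χ.1) θ.1 ≠ 0 :=
    (Finset.mem_filter.1 hχ₁).2
  obtain ⟨P, hP⟩ := exists_defectGroup (p := p) hB
  obtain ⟨-, -, hd⟩ := maxCovering N hpM hb hinv hB hcov (fun B' hB' hc' => by
    obtain ⟨χ', hχ', hc''⟩ := hc'
    rw [block_eq hB' hχ']
    refine hmax _ (Finset.mem_image_of_mem _ (Finset.mem_filter.2 ⟨Finset.mem_univ χ', ?_⟩))
    exact ⟨χ', mem_blockOf_self χ', hc''⟩) hP
  obtain ⟨χ, hχ, hht⟩ := exists_height_zero hpM hB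
  obtain ⟨χ', hχ', θ', hθ', hc'⟩ := hcov
  obtain ⟨θ, hθ, hc⟩ := covers_of_congr N hB hb
    (fun a ha η hη n => congr_of_covers N hB hb hχ' hθ' hc' ha hη n) χ hχ
  refine ⟨θ, hθ, ?_⟩
  obtain ⟨m, hm⟩ := Char.IsCharacter.exists_nat_classInner
    (Char.IsCharacter.restrict (Char.irr_isCharacter χ) N) (Char.irr_isCharacter θ)
  have hdeg := Char.apply_one_eq_mul_card_orbit N χ θ hc
  rw [show classInner (Char.resFun N χ.1) θ.1 = (m : ℂ) from hm, Char.apply_one_eq_degree χ,
    Char.apply_one_eq_degree θ, ← Nat.cast_mul, ← Nat.cast_mul, Nat.cast_inj,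
    ← Char.index_inertia] at hdeg
  have hm0 : m ≠ 0 := fun h0 => (Char.degree_pos χ).ne' (by rw [hdeg, h0, zero_mul])
  have hi0 : (Char.inertia N θ.1).index ≠ 0 := Subgroup.index_ne_zero_of_finite
  have hv : (Char.degree χ).factorization p = m.factorization p +
      ((Char.inertia N θ.1).index.factorization p + (Char.degree θ).factorization p) := by
    rw [hdeg, Nat.factorization_mul hm0 (Nat.mul_ne_zero hi0 (Char.degree_pos θ).ne'),
      Nat.factorization_mul hi0 (Char.degree_pos θ).ne', Finsupp.add_apply, Finsupp.add_apply]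
  have e1 := sInf_degree_add_defect (p := p) hB
  have e2 := sInf_degree_add_defect (p := p) hb
  have e3 : (Nat.card G).factorization p =
      (Nat.card N).factorization p + N.index.factorization p := by
    rw [← Subgroup.card_mul_index N, Nat.factorization_mul Nat.card_pos.ne'
      Subgroup.index_ne_zero_of_finite, Finsupp.add_apply]
  have hχle : sInf ((fun χ : IrrCharacter G => (charDegree χ.1).factorization p) '' blockOf M χ₁.1)
      ≤ (charDegree χ.1).factorization p := Nat.sInf_le ⟨χ, hχ, rfl⟩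
  have hθle : sInf ((fun θ : IrrCharacter N => (charDegree θ.1).factorization p) '' b)
      ≤ (charDegree θ.1).factorization p := Nat.sInf_le ⟨θ, hθ, rfl⟩
  rw [blockHeight, charDegree_eq] at hht
  rw [charDegree_eq] at hχle hθle
  refine ⟨?_, fun hdvd => ?_⟩
  · rw [blockHeight, charDegree_eq]
    omega
  · have := hp.out.factorization_pos_of_dvd hi0 hdvd
    omega

section Transport

variable {H K : Type u} [Group H] [Group K] [Finite H] [Finite K] (e : H ≃* K)

theorem charDegree_compIrr (χ : IrrCharacter K) :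
    charDegree (BrauerPairs.compIrr e χ).1 = charDegree χ.1 := by
  simp [charDegree]

theorem blockHeight_mapBlock (A : Set (IrrCharacter K)) (χ : IrrCharacter K) :
    blockHeight p (BrauerPairs.mapBlock e A) (BrauerPairs.compIrr e χ).1 =
      blockHeight p A χ.1 := by
  rw [blockHeight, blockHeight, charDegree_compIrr, BrauerPairs.mapBlock, Set.image_image]
  simp only [charDegree_compIrr]

end Transport

end Cfsg.Agent.BlocksX
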